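import Mathlib

/-! Avoiding a few subspaces, or a few affine conditions on functionals. -/

set_option autoImplicit false

namespace Cfsg.Agent.FGS77.Thompson

variable {F V : Type*} [Field F] [AddCommGroup V] [Module F V]

/-- A space is not covered by at most as many proper subspaces as there are scalars. -/
theorem exists_avoid {m : ℕ} (e : Fin m ↪ F) :
    ∀ S : List (Submodule F V), S.length ≤ m → (∀ p ∈ S, p ≠ ⊤) → ∃ x, ∀ p ∈ S, x ∉ p := by
  intro S
  induction S with
  | nil => exact fun _ _ => ⟨0, by simp⟩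
  | cons q S ih =>
    intro hlen h
    simp only [List.length_cons] at hlen
    obtain ⟨x, hx⟩ := ih (by omega) fun p hp => h p (List.mem_cons_of_mem _ hp)
    by_cases hxq : x ∈ q
    · obtain ⟨y, hy⟩ : ∃ y, y ∉ q := by
        by_contra hc
        push Not at hc
        exact h q List.mem_cons_self (eq_top_iff.2 fun y _ => hc y)
      by_contra hc
      push Not at hc
      have : ∀ i : Fin m, ∃ p : Fin S.length, y + e i • x ∈ S[p.val] := fun i => by
        obtain ⟨p, hp, hmem⟩ := hc (y + e i • x)
        rcases List.mem_cons.1 hp with rfl | hp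
        · exact absurd ((p.add_mem_iff_left (p.smul_mem _ hxq)).1 hmem) hy
        · obtain ⟨k, hk, rfl⟩ := List.getElem_of_mem hp
          exact ⟨⟨k, hk⟩, hmem⟩
      choose k hk using this
      obtain ⟨i, j, hij, hk'⟩ := Fintype.exists_ne_map_eq_of_card_lt k (by simp; omega)
      have hi := hk i
      have hj := hk j
      have hj' : y + e j • x ∈ S[(k i).val] := by simpa [hk'] using hj
      have := Submodule.sub_mem _ hi hj'
      rw [add_sub_add_left_eq_sub, ← sub_smul] at this
      refine hx _ (List.getElem_mem (k i).isLt) ?_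
      exact (Submodule.smul_mem_iff _ (sub_ne_zero.2 (fun e' => hij (e.injective e')))).1 this
    · exact ⟨x, fun p hp => (List.mem_cons.1 hp).elim (fun h => h ▸ hxq) (hx p)⟩

/-- In an affine family of functionals, fewer conditions `ψ z ≠ c` than there are scalars can be
met simultaneously when each can be met. -/
theorem exists_avoid_affine {m : ℕ} (e : Fin m ↪ F) (P : Module.Dual F V → Prop)
    (hP : ∀ a b, P a → P b → ∀ t : F, P (a + t • (b - a))) (hne : ∃ a, P a) :
    ∀ L : List (V × F), L.length < m → (∀ q ∈ L, ∃ a, P a ∧ a q.1 ≠ q.2) →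
      ∃ a, P a ∧ ∀ q ∈ L, a q.1 ≠ q.2 := by
  intro L
  induction L with
  | nil => exact fun _ _ => let ⟨a, ha⟩ := hne; ⟨a, ha, by simp⟩
  | cons r L ih =>
    intro hlen h
    simp only [List.length_cons] at hlen
    obtain ⟨a, ha, haL⟩ := ih (by omega) fun q hq => h q (List.mem_cons_of_mem _ hq)
    obtain ⟨b, hb, hbr⟩ := h r List.mem_cons_self
    by_contra hc
    push Not at hc
    have : ∀ i : Fin m, ∃ p : Fin (r :: L).length,
        (a + e i • (b - a)) ((r :: L)[p.val]).1 = ((r :: L)[p.val]).2 := fun i => by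
      obtain ⟨q, hq, hq'⟩ := hc _ (hP a b ha hb (e i))
      obtain ⟨k, hk, rfl⟩ := List.getElem_of_mem hq
      exact ⟨⟨k, hk⟩, hq'⟩
    choose k hk using this
    obtain ⟨i, j, hij, hk'⟩ := Fintype.exists_ne_map_eq_of_card_lt k (by simp; omega)
    have hi := hk i
    have hj := hk j
    rw [← hk'] at hj
    set q := (r :: L)[(k i).val] with hq
    simp only [LinearMap.add_apply, LinearMap.smul_apply, LinearMap.sub_apply, smul_eq_mul] at hi hj
    have h0 : (e i - e j) * (b q.1 - a q.1) = 0 := by linear_combination hi - hj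
    rcases mul_eq_zero.1 h0 with h' | h'
    · exact hij (e.injective (sub_eq_zero.1 h'))
    · rw [h', mul_zero, add_zero] at hi
      rcases List.mem_cons.1 (List.getElem_mem (l := r :: L) (k i).isLt) with h'' | h''
      · rw [← hq] at h''
        exact hbr (by rw [← h'', sub_eq_zero.1 h', hi])
      · exact haL _ h'' hi

theorem exists_dual (p : Submodule F V) {x : V} (hx : x ∉ p) :
    ∃ f : Module.Dual F V, f x = 1 ∧ ∀ y ∈ p, f y = 0 := by
  obtain ⟨f, hf, hfp⟩ := Submodule.exists_dual_map_eq_bot_of_notMem hx inferInstance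
  refine ⟨(f x)⁻¹ • f, by simp [hf], fun y hy => ?_⟩
  have h0 : f y ∈ (⊥ : Submodule F F) := hfp ▸ Submodule.mem_map_of_mem hy
  simp [Submodule.mem_bot F |>.1 h0]

/-- Functionals with value one at two given independent vectors. -/
theorem exists_member {x y z : V} (hx : x ∉ F ∙ (x - y)) (hz : z ∉ F ∙ (x - y)) :
    ∃ a : Module.Dual F V, (a x = 1 ∧ a y = 1) ∧ a z ≠ 0 := by
  obtain ⟨a, hax, ha⟩ := exists_dual _ hx
  have hay : a y = 1 := by
    have := ha _ (Submodule.mem_span_singleton_self (x - y))
    rw [map_sub, hax, sub_eq_zero] at this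
    exact this.symm
  by_cases haz : a z = 0
  · have hz' : z ∉ Submodule.span F {x, x - y} := by
      rw [Submodule.mem_span_pair]
      rintro ⟨c, d, rfl⟩
      have h1 := ha _ (Submodule.mem_span_singleton_self (x - y))
      rw [map_add, map_smul, map_smul, hax, h1] at haz
      simp at haz
      subst haz
      exact hz (Submodule.mem_span_singleton.2 ⟨d, by simp⟩)
    obtain ⟨f, hfz, hf⟩ := exists_dual _ hz'
    have hfx := hf x (Submodule.subset_span (by simp))
    have hfy : f y = 0 := by
      have := hf (x - y) (Submodule.subset_span (by simp))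
      rw [map_sub, hfx, zero_sub, neg_eq_zero] at this
      exact this
    exact ⟨a + f, ⟨by simp [hax, hfx], by simp [hay, hfy]⟩, by simp [haz, hfz]⟩
  · exact ⟨a, ⟨hax, hay⟩, haz⟩

theorem span_singleton_ne_top [FiniteDimensional F V] (h : 2 ≤ Module.finrank F V) (u : V) :
    (F ∙ u) ≠ ⊤ := by
  intro e
  have := finrank_span_le_card ({u} : Set V) (R := F)
  rw [e, finrank_top] at this
  simp at this
  omega

/-- Two lines contain the eigenvectors of a map inside a plane that has a non-eigenvector. -/
theorem exists_two_lines [FiniteDimensional F V] (f : Module.End F V) (Q : Submodule F V)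
    (hQ : Module.finrank F Q ≤ 2) {y : V} (hy : y ∈ Q) (hy' : ∀ c : F, f y ≠ c • y) :
    ∃ a b : V, ∀ v ∈ Q, ∀ c : F, f v = c • v → v ∈ F ∙ a ∨ v ∈ F ∙ b := by
  by_cases h1 : ∃ a ∈ Q, a ≠ 0 ∧ ∃ c : F, f a = c • a
  swap
  · push Not at h1
    refine ⟨0, 0, fun v hv c hc => Or.inl ?_⟩
    by_contra hne
    exact h1 v hv (fun e => hne (by simp [e])) c hc
  obtain ⟨a, haQ, ha0, ca, hca⟩ := h1
  by_cases h2 : ∃ b ∈ Q, b ∉ F ∙ a ∧ ∃ c : F, f b = c • b
  swap
  · push Not at h2
    refine ⟨a, a, fun v hv c hc => Or.inl ?_⟩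
    by_contra hne
    exact h2 v hv hne c hc
  obtain ⟨b, hbQ, hb, cb, hcb⟩ := h2
  have hli : LinearIndependent F ![a, b] := by
    rw [LinearIndependent.pair_iff]
    intro s t hst
    have ht : t = 0 := by
      by_contra ht
      refine hb (Submodule.mem_span_singleton.2 ⟨-(t⁻¹ * s), ?_⟩)
      have := congrArg (fun w => t⁻¹ • w) hst
      simp [smul_smul, ht] at this
      linear_combination (norm := module) -this
    subst ht
    simp [ha0] at hst
    exact ⟨hst, rfl⟩
  have hspan : Submodule.span F (Set.range ![a, b]) = Q := by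
    refine Submodule.eq_of_le_of_finrank_le ?_ ?_
    · rw [Submodule.span_le]
      rintro _ ⟨i, rfl⟩
      fin_cases i <;> assumption
    · rw [finrank_span_eq_card hli]; simpa using hQ
  have hdec : ∀ v ∈ Q, ∃ s t : F, s • a + t • b = v := fun v hv => by
    rw [← hspan, Matrix.range_cons, Matrix.range_cons, Matrix.range_empty, Set.union_empty,
      Set.singleton_union, Submodule.mem_span_pair] at hv
    exact hv
  refine ⟨a, b, fun v hv c hc => ?_⟩
  obtain ⟨s, t, rfl⟩ := hdec v hv
  by_contra hne
  push Not at hne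
  have hs : s ≠ 0 := fun e => hne.2 (Submodule.mem_span_singleton.2 ⟨t, by simp [e]⟩)
  have ht : t ≠ 0 := fun e => hne.1 (Submodule.mem_span_singleton.2 ⟨s, by simp [e]⟩)
  rw [map_add, map_smul, map_smul, hca, hcb] at hc
  have h0 : (s * ca - c * s) • a + (t * cb - c * t) • b = 0 := by
    linear_combination (norm := module) hc
  obtain ⟨e1, e2⟩ := LinearIndependent.pair_iff.1 hli _ _ h0
  have ea : ca = c := mul_left_cancel₀ hs (by linear_combination e1)
  have eb : cb = c := mul_left_cancel₀ ht (by linear_combination e2)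
  obtain ⟨p, q, rfl⟩ := hdec y hy
  exact hy' c (by rw [map_add, map_smul, map_smul, hca, hcb, ea, eb]; module)

end Cfsg.Agent.FGS77.Thompson
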