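import Cfsg.Agent.FGS77.Thompson.Core
import Cfsg.Agent.KnownSimple58.RegularNilpotent

/-! Non-scalar elements of `SL_n` are products of two regular unipotent elements, `|F| ≥ 4`. -/

set_option autoImplicit false

namespace Cfsg.Agent.FGS77.Thompson

universe u v

variable {F : Type u} [Field F] {V : Type v} [AddCommGroup V] [Module F V] [FiniteDimensional F V]

theorem exists_transvection_fac (e : Fin 4 ↪ F) (G : Module.End F V)
    (hdet : LinearMap.det G = 1) (h2 : 2 ≤ Module.finrank F V)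
    (hr : Module.finrank F (LinearMap.range (G - 1)) = 1) :
    ∃ L U : Module.End F V, G = L * U ∧
      (L - 1) ^ Module.finrank F V = 0 ∧ (L - 1) ^ (Module.finrank F V - 1) ≠ 0 ∧
      (U - 1) ^ Module.finrank F V = 0 ∧ (U - 1) ^ (Module.finrank F V - 1) ≠ 0 := by
  classical
  obtain ⟨n, hn⟩ : ∃ n, Module.finrank F V = n + 2 := ⟨_, (Nat.sub_add_cancel h2).symm⟩
  rw [hn, show n + 2 - 1 = n + 1 from rfl]
  set R := LinearMap.range (G - 1) with hR
  obtain ⟨z₀, hz₀, hz⟩ := finrank_eq_one_iff'.1 hr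
  set z : V := (z₀ : V) with hzdef
  have hzne : z ≠ 0 := fun h => hz₀ (Subtype.ext h)
  obtain ⟨η, hη⟩ : ∃ η : Module.Dual F V, ∀ v, (G - 1) v = η v • z := by
    obtain ⟨f, hf, -⟩ := exists_dual ⊥ (show z ∉ (⊥ : Submodule F V) by simpa using hzne)
    refine ⟨f ∘ₗ (G - 1), fun v => ?_⟩
    obtain ⟨c, hc⟩ := hz ⟨_, LinearMap.mem_range_self (G - 1) v⟩
    have hc' : c • z = (G - 1) v := congrArg Subtype.val hc
    rw [LinearMap.comp_apply, ← hc', map_smul, hf, smul_eq_mul, mul_one]
  have hGT : G = LinearMap.transvection η z := LinearMap.ext fun v => by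
    rw [LinearMap.transvection.apply, ← hη, LinearMap.sub_apply, Module.End.one_apply]; abel
  have hηz : η z = 0 := by
    rw [hGT, LinearMap.transvection.det] at hdet
    simpa using hdet
  obtain ⟨v, hv⟩ : ∃ v, η v = 1 := by
    obtain ⟨v, hv⟩ := LinearMap.mem_range.1 (show z ∈ R from z₀.2)
    rw [hη] at hv
    refine ⟨v, ?_⟩
    have : (η v - 1) • z = 0 := by rw [sub_smul, hv, one_smul, sub_self]
    exact sub_eq_zero.1 ((smul_eq_zero.1 this).resolve_right hzne)
  -- a basis `b₀ = v, …, b_{n+1} = z` with the middle in `ker η`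
  have hker : Module.finrank F (LinearMap.ker η) = n + 1 := by
    have h5 := LinearMap.finrank_range_add_finrank_ker η
    rw [LinearMap.range_eq_top.2 (fun t => ⟨t • v, by simp [hv]⟩), finrank_top,
      Module.finrank_self] at h5
    omega
  let zk : LinearMap.ker η := ⟨z, hηz⟩
  have hli : LinearIndepOn F id ({zk} : Set (LinearMap.ker η)) :=
    LinearIndepOn.singleton (R := F) (v := id) fun h => hzne (congrArg Subtype.val h)
  let B₀ := Module.Basis.extend hli
  have hcard : Nat.card (hli.extend (Set.subset_univ _)) = n + 1 := by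
    rw [← Module.finrank_eq_nat_card_basis B₀, hker]
  have : Finite (hli.extend (Set.subset_univ _)) := Nat.finite_of_card_ne_zero (by omega)
  let i₀ : hli.extend (Set.subset_univ _) :=
    ⟨zk, hli.subset_extend (Set.subset_univ _) (Set.mem_singleton _)⟩
  let E := (Finite.equivFinOfCardEq hcard)
  let E' := E.trans (Equiv.swap (E i₀) (Fin.last n))
  let B₁ := B₀.reindex E'
  have hB₁ : (B₁ (Fin.last n) : V) = z := by
    have : E'.symm (Fin.last n) = i₀ := by
      rw [Equiv.symm_apply_eq]; simp [E']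
    show (B₀.reindex E' (Fin.last n) : V) = z
    rw [Module.Basis.reindex_apply, this, Module.Basis.extend_apply_self]
  let B : Module.Basis (Fin (n + 2)) F V :=
    Module.Basis.mkFinCons v B₁
      (fun c x hx h => by
        have h1 := congrArg η h
        rw [map_add, map_smul, hv, LinearMap.mem_ker.1 hx, add_zero, map_zero, smul_eq_mul, mul_one]
          at h1
        exact h1)
      (fun w => ⟨-η w, by simp [hv]⟩)
  have hB0 : B 0 = v := by simp [B]
  have hBs : ∀ i : Fin (n + 1), B i.succ = (B₁ i : V) := fun i => by simp [B]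
  have hBl : B (Fin.last (n + 1)) = z := by rw [← Fin.succ_last, hBs, hB₁]
  have hηB : ∀ i : Fin (n + 1), η (B i.succ) = 0 := fun i => by rw [hBs]; exact (B₁ i).2
  let sh : ℕ → V := fun i => if h : i < n + 2 then B ⟨i, h⟩ else 0
  let N₀ : Module.End F V := B.constr F fun i : Fin (n + 2) => sh (i + 1)
  have hN₀ : ∀ i : ℕ, i < n + 2 → N₀ (sh i) = sh (i + 1) := fun i hi => by
    simp only [sh, dif_pos hi, N₀, Module.Basis.constr_basis]
  have hpow : ∀ j i : ℕ, (N₀ ^ j) (sh i) = sh (i + j) := by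
    intro j
    induction j with
    | zero => intro i; simp
    | succ j ih =>
      intro i
      rw [pow_succ', Module.End.mul_apply, ih]
      by_cases h : i + j < n + 2
      · rw [hN₀ _ h, add_assoc]
      · simp [sh, show ¬ i + j < n + 2 from h, show ¬ i + (j + 1) < n + 2 by omega]
  have hshB : ∀ i : Fin (n + 2), B i = sh i := fun i => by simp [sh, i.isLt]
  have hnil : N₀ ^ (n + 2) = 0 := B.ext fun i => by
    rw [hshB, hpow]; simp [sh, show ¬ (i : ℕ) + (n + 2) < n + 2 by omega]
  have htop : (N₀ ^ (n + 1)) v = z := by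
    rw [← hB0, hshB, hpow]
    simp only [Fin.val_zero, zero_add, sh, dif_pos (Nat.lt_succ_self (n + 1))]
    exact hBl
  have hNz : N₀ z = 0 := by
    rw [← htop, ← Module.End.mul_apply, ← pow_succ', hnil]; rfl
  have hηN : ∀ w, η (N₀ w) = 0 := by
    intro w
    refine LinearMap.congr_fun (show η ∘ₗ N₀ = 0 from B.ext fun i => ?_) w
    rw [LinearMap.comp_apply, hshB, hN₀ _ i.isLt, LinearMap.zero_apply]
    by_cases h : (i : ℕ) + 1 < n + 2
    · simp only [sh, dif_pos h]
      rw [show (⟨(i : ℕ) + 1, h⟩ : Fin (n + 2)) = (⟨i, by omega⟩ : Fin (n + 1)).succ from rfl]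
      exact hηB _
    · simp [sh, h]
  set E₁ : Module.End F V := η.smulRight z with hE₁
  have hGE : G = 1 + E₁ := LinearMap.ext fun w => by
    rw [hGT, LinearMap.transvection.apply]; rfl
  have hNE : N₀ * E₁ = 0 := LinearMap.ext fun w => by simp [E₁, hNz]
  have hEN : E₁ * N₀ = 0 := LinearMap.ext fun w => by simp [E₁, hηN]
  have hEE : E₁ * E₁ = 0 := LinearMap.ext fun w => by simp [E₁, hηz]
  obtain ⟨a, ha0, ha1⟩ : ∃ a : F, a ≠ 0 ∧ a ≠ 1 := by
    classical
    obtain ⟨a, -, ha⟩ := Finset.exists_mem_notMem_of_card_lt_card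
      (s := ({0, 1} : Finset F)) (t := Finset.univ.map e)
      (lt_of_le_of_lt Finset.card_le_two (by simp))
    simp at ha
    exact ⟨a, ha.1, ha.2⟩
  set M : Module.End F V := a • N₀ with hM
  have hMnil : M ^ (n + 2) = 0 := by rw [hM, smul_pow, hnil, smul_zero]
  have hMz : M * E₁ = 0 := by rw [hM, smul_mul_assoc, hNE, smul_zero]
  have hzM : E₁ * M = 0 := by rw [hM, mul_smul_comm, hEN, smul_zero]
  obtain ⟨Lu, hLu⟩ : IsUnit (1 + M) := IsNilpotent.isUnit_one_add ⟨_, hMnil⟩
  set Li : Module.End F V := ↑(Lu⁻¹) with hLi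
  have hLLi : (1 + M) * Li = 1 := by rw [← hLu]; exact Lu.mul_inv
  have hLiL : Li * (1 + M) = 1 := by rw [← hLu]; exact Lu.inv_mul
  have hc : Commute Li M := by
    have h1 : Commute (Lu : Module.End F V) M := by
      rw [hLu]; exact (Commute.one_left _).add_left (Commute.refl M)
    exact h1.units_inv_left
  have hLE : Li * E₁ = E₁ := by
    have := congrArg (Li * ·) (show (1 + M) * E₁ = E₁ by rw [add_mul, one_mul, hMz, add_zero])
    rwa [← mul_assoc, hLiL, one_mul, eq_comm] at this
  refine ⟨1 + M, Li * G, by rw [← mul_assoc, hLLi, one_mul], by rw [add_sub_cancel_left]; exact hMnil,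
    fun h0 => ?_, ?_, fun h0 => ?_⟩
  · have := LinearMap.congr_fun h0 v
    rw [add_sub_cancel_left, hM, smul_pow, LinearMap.smul_apply, htop, LinearMap.zero_apply,
      smul_eq_zero] at this
    exact hzne (this.resolve_left (pow_ne_zero _ ha0))
  all_goals
    have hU : Li * G - 1 = -(Li * M) + E₁ := by
      rw [hGE, mul_add, mul_one, hLE]
      have : Li * M = 1 - Li := by
        rw [eq_sub_iff_add_eq', ← hLiL, mul_add, mul_one]
      rw [this]; abel
    have hcom : ∀ j : ℕ, (-(Li * M) + E₁) ^ (j + 2) = (-1 : F) ^ (j + 2) • (Li ^ (j + 2) * M ^ (j + 2)) := by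
      have hAE : (Li * M) * E₁ = 0 := by rw [mul_assoc, hMz, mul_zero]
      have hEA : E₁ * (Li * M) = 0 := by rw [hc.eq, ← mul_assoc, hzM, zero_mul]
      intro j
      induction j with
      | zero =>
        rw [← hc.mul_pow, pow_two, pow_two, pow_two]
        simp only [mul_add, add_mul, neg_mul, mul_neg, hAE, hEA, hEE, neg_neg, neg_zero, add_zero,
          mul_one, one_smul]
      | succ j ih =>
        rw [← hc.mul_pow, pow_succ, ih, ← hc.mul_pow, smul_mul_assoc, mul_add, mul_neg,
          pow_succ (Li * M) (j + 1), mul_assoc _ (Li * M) E₁, hAE, mul_zero, add_zero,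
          pow_succ (-1 : F) (j + 2), ← pow_succ (Li * M) (j + 1), ← pow_succ, mul_smul, neg_one_smul,
          smul_neg]
  · rw [hU, hcom n, hMnil, mul_zero, smul_zero]
  · rw [hU] at h0
    rcases Nat.eq_zero_or_pos n with rfl | hn0
    · rw [zero_add, pow_one] at h0
      have h1 := congrArg (fun f => ((1 + M) * f) v) h0
      simp only [mul_add, mul_neg, ← mul_assoc, hLLi, one_mul, mul_zero, LinearMap.zero_apply] at h1
      rw [add_mul, one_mul, hMz, add_zero, LinearMap.add_apply, LinearMap.neg_apply] at h1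
      simp only [E₁, LinearMap.smulRight_apply, hv, one_smul, hM, LinearMap.smul_apply] at h1
      have h2 : N₀ v = z := by simpa using htop
      rw [h2] at h1
      have : (1 - a) • z = 0 := by linear_combination (norm := module) h1
      exact ha1 (sub_eq_zero.1 ((smul_eq_zero.1 this).resolve_right hzne)).symm
    · obtain ⟨j, rfl⟩ : ∃ j, n = j + 1 := ⟨n - 1, by omega⟩
      rw [hcom j, smul_eq_zero] at h0
      have h1 := h0.resolve_left (pow_ne_zero _ (neg_ne_zero.2 one_ne_zero))
      have hu : IsUnit (Li ^ (j + 2)) := (Units.isUnit Lu⁻¹).pow _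
      have h2 := LinearMap.congr_fun ((hu.mul_right_eq_zero).1 h1) v
      rw [hM, smul_pow, LinearMap.smul_apply, htop, LinearMap.zero_apply, smul_eq_zero] at h2
      exact hzne (h2.resolve_left (pow_ne_zero _ ha0))

/-- A non-scalar determinant one map is a product of two regular unipotent maps. -/
theorem exists_regular_fac (e : Fin 4 ↪ F) (G : Module.End F V) (hdet : LinearMap.det G = 1)
    (hns : ∀ c : F, G ≠ c • 1) :
    ∃ L U : Module.End F V, G = L * U ∧
      (L - 1) ^ Module.finrank F V = 0 ∧ (L - 1) ^ (Module.finrank F V - 1) ≠ 0 ∧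
      (U - 1) ^ Module.finrank F V = 0 ∧ (U - 1) ^ (Module.finrank F V - 1) ≠ 0 := by
  obtain ⟨y, hy⟩ := exists_noneig G hns
  have hy0 : y ≠ 0 := fun h => hy 0 (by simp [h])
  have hdim : 2 ≤ Module.finrank F V := by
    by_contra hc
    rcases Nat.eq_zero_or_pos (Module.finrank F V) with h | h
    · exact hy0 ((finrank_zero_iff_forall_zero (K := F)).1 h y)
    · obtain ⟨b, hb0, hb⟩ := finrank_eq_one_iff'.1 (show Module.finrank F V = 1 by omega)
      obtain ⟨c, hc'⟩ := hb (G b)
      obtain ⟨s, hs⟩ := hb y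
      exact hy c (by rw [← hs, map_smul, ← hc', smul_comm])
  by_cases hr : 2 ≤ Module.finrank F (LinearMap.range (G - 1))
  · obtain ⟨Gu, hGu⟩ := (LinearMap.isUnit_iff_isUnit_det G).2 (by rw [hdet]; exact isUnit_one)
    obtain ⟨w, hw, -⟩ := exists_dual ⊥ (show y ∉ (⊥ : Submodule F V) by simpa using hy0)
    have hw0 : w ≠ 0 := fun h => by simp [h] at hw
    obtain ⟨x, hx0, -, H⟩ := exists_hyp e G ↑(Gu⁻¹) (by rw [← hGu]; exact Gu.mul_inv) hdet hr hns w
      hw0 y hy0
    have hu0 : (↑(Gu⁻¹) : Module.End F V) y ≠ 0 := fun h => by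
      have := congrArg (Gu : Module.End F V) h
      rw [← Module.End.mul_apply, Gu.mul_inv, Module.End.one_apply, map_zero] at this
      exact hy0 this
    obtain ⟨L, U, h1, h2, h3, ⟨h, h4⟩, h5⟩ := exists_fac e _ rfl G hdet x _ hx0 hu0 fun _ => H
    exact ⟨L, U, h1, h2, fun e => hx0 (by rw [← h4, e]; rfl), h3, fun e => h5 (by rw [e]; rfl)⟩
  · refine exists_transvection_fac e G hdet hdim ?_
    refine le_antisymm (by omega) ?_
    by_contra hc
    have h0 : LinearMap.range (G - 1) = ⊥ := Submodule.finrank_eq_zero.1 (by omega)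
    exact hns 1 (by rw [one_smul, ← sub_eq_zero]; exact LinearMap.range_eq_bot.1 h0)

/-- The matrix form. -/
theorem exists_regular_fac_matrix (e : Fin 4 ↪ F) {n : ℕ} (g : Matrix (Fin n) (Fin n) F)
    (hdet : g.det = 1) (hns : ∀ c : F, g ≠ c • 1) :
    ∃ P R : GL (Fin n) F, g =
      (P.val * (1 + KS58.shift F n) * (P⁻¹).val) * (R.val * (1 + KS58.shift F n) * (R⁻¹).val) := by
  obtain ⟨L, U, h, hL, hL', hU, hU'⟩ := exists_regular_fac e (Matrix.toLinAlgEquiv' g)
    (by rw [show (Matrix.toLinAlgEquiv' g : Module.End F (Fin n → F)) = Matrix.toLin' g from rfl,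
      LinearMap.det_toLin', hdet])
    (fun c hc => hns c (Matrix.toLinAlgEquiv'.injective (by rw [hc, map_smul, map_one])))
  rw [Module.finrank_fin_fun] at hL hL' hU hU'
  have key : ∀ L : Module.End F (Fin n → F), (L - 1) ^ n = 0 → (L - 1) ^ (n - 1) ≠ 0 →
      ∃ P : GL (Fin n) F,
        Matrix.toLinAlgEquiv'.symm L = P.val * (1 + KS58.shift F n) * (P⁻¹).val := by
    intro L hL hL'
    set M := Matrix.toLinAlgEquiv'.symm L - 1 with hM
    have e1 : M = Matrix.toLinAlgEquiv'.symm (L - 1) := by rw [hM, map_sub, map_one]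
    obtain ⟨v, hv⟩ : ∃ v, (M ^ (n - 1)).mulVec v ≠ 0 := by
      by_contra hc
      push Not at hc
      refine hL' (LinearMap.ext fun v => ?_)
      have := hc v
      rw [e1, ← map_pow] at this
      rw [LinearMap.zero_apply, ← this, ← Matrix.toLinAlgEquiv'_apply, AlgEquiv.apply_symm_apply]
    have hMn : M ^ n = 0 := by rw [e1, ← map_pow, hL, map_zero]
    obtain ⟨P, hP⟩ := KS58.isUnit_krylov hMn hv
    refine ⟨P, ?_⟩
    have := KS58.mul_krylov hMn v
    rw [← hP] at this
    rw [Matrix.mul_add, Matrix.mul_one, ← this, Matrix.add_mul, Matrix.mul_assoc, Units.mul_inv,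
      Matrix.mul_one, hM]
    abel
  obtain ⟨P, hP⟩ := key L hL hL'
  obtain ⟨R, hR⟩ := key U hU hU'
  refine ⟨P, R, ?_⟩
  rw [← hP, ← hR, ← map_mul, ← h, AlgEquiv.symm_apply_apply]

end Cfsg.Agent.FGS77.Thompson
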