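import Cfsg.Agent.FGS77.Thompson.Glue
import Cfsg.Agent.FGS77.Thompson.Regular
import Cfsg.Agent.Sourour.Basic

/-! Non-scalar elements of `SL_n` are commutators, `|F| ≥ 4`. -/

set_option autoImplicit false

namespace Cfsg.Agent.FGS77.Thompson

open Matrix

variable {F : Type*} [Field F]

/-- `inl i ↦ i + 1`, `inr 0 ↦ 0`. -/
def succEquiv (n : ℕ) : Fin n ⊕ Fin 1 ≃ Fin (n + 1) where
  toFun := Sum.elim Fin.succ fun _ => 0
  invFun := Fin.cases (Sum.inr 0) Sum.inl
  left_inv := by
    rintro (i | i)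
    · simp
    · simp [Subsingleton.elim i 0]
  right_inv i := by cases i using Fin.cases <;> simp

/-- A non-scalar `G` of determinant one is similar to one with a non-scalar corner of
determinant one. -/
theorem exists_conj_corner {n : ℕ} (hn : 1 ≤ n) (G : Matrix (Fin (n + 1)) (Fin (n + 1)) F)
    (hdet : G.det = 1) (hns : ∀ c : F, G ≠ c • 1) :
    ∃ (Q : GL (Fin (n + 1)) F) (X : Matrix (Fin n) (Fin n) F) (u : Matrix (Fin n) (Fin 1) F)
      (w : Matrix (Fin 1) (Fin n) F) (s : Matrix (Fin 1) (Fin 1) F),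
      X.det = 1 ∧ (fromBlocks X u w s).det = 1 ∧
        G = Q.val * Matrix.reindex (succEquiv n) (succEquiv n) (fromBlocks X u w s) * (Q⁻¹).val ∧
        (2 ≤ n → ∀ c : F, X ≠ c • 1) := by
  obtain ⟨Gu, hGu⟩ := (Matrix.isUnit_iff_isUnit_det G).2 (by rw [hdet]; exact isUnit_one)
  have hGi : ((Gu⁻¹ : GL (Fin (n + 1)) F) : Matrix (Fin (n + 1)) (Fin (n + 1)) F).det = 1 := by
    rw [Matrix.coe_units_inv, Matrix.det_nonsing_inv, hGu, hdet, Ring.inverse_one]
  have hGins : ∀ c : F, ((Gu⁻¹ : GL (Fin (n + 1)) F) : Matrix (Fin (n + 1)) (Fin (n + 1)) F) ≠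
      Matrix.scalar _ c := by
    intro c hc
    have h1 := Gu.mul_inv
    rw [hc, hGu, Matrix.scalar_apply, ← Matrix.smul_one_eq_diagonal, Matrix.mul_smul, Matrix.mul_one] at h1
    have hc0 : c ≠ 0 := by
      rintro rfl
      rw [zero_smul] at h1
      exact zero_ne_one h1
    exact hns c⁻¹ (by rw [← h1, smul_smul, inv_mul_cancel₀ hc0, one_smul])
  obtain ⟨P, u, v, D, hP, -, hS⟩ :=
    Sourour.exists_corner _ (by rw [hGi]; exact one_ne_zero) hGins 1 one_ne_zero
  set S : Matrix (Fin n) (Fin n) F := Matrix.of fun i j => D i j - v i * u j / 1 with hSdef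
  have hSd : S.det = 1 := by
    have h1 : (Sourour.blk 1 u v D).det = 1 := by rw [← hP, Matrix.det_units_conj', hGi]
    rw [Sourour.det_schur 1 one_ne_zero, one_mul] at h1
    exact h1
  set uu : Matrix (Fin 1) (Fin n) F := Matrix.of fun _ j => u j with huu
  set vv : Matrix (Fin n) (Fin 1) F := Matrix.of fun i _ => v i with hvv
  have hDS : D = S + vv * uu := by ext i j; simp [hSdef, huu, hvv, Matrix.mul_apply]
  set e := succEquiv n
  have hblk : Matrix.reindex e e (fromBlocks D vv uu 1) = Sourour.blk 1 u v D := by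
    ext i j
    cases i using Fin.cases <;> cases j using Fin.cases <;> simp [e, succEquiv, huu, hvv]
  set M := fromBlocks (S⁻¹) (-(S⁻¹ * vv)) (-(uu * S⁻¹)) (1 + uu * S⁻¹ * vv) with hM
  have hSu : IsUnit S.det := by rw [hSd]; exact isUnit_one
  have hMinv : M * fromBlocks D vv uu 1 = 1 := by
    rw [hM, fromBlocks_multiply, ← fromBlocks_one, hDS]
    congr 1
    · rw [Matrix.mul_add, Matrix.nonsing_inv_mul _ hSu, ← Matrix.mul_assoc]
      simp
    · simp
    · rw [Matrix.mul_add, Matrix.add_mul, Matrix.neg_mul, Matrix.neg_mul,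
        Matrix.mul_assoc uu S⁻¹ S, Matrix.nonsing_inv_mul _ hSu, Matrix.mul_one,
        ← Matrix.mul_assoc (uu * S⁻¹) vv uu, Matrix.one_mul]
      abel
    · simp only [Matrix.neg_mul, Matrix.mul_one]
      abel
  have hre : Matrix.reindex e e M * Sourour.blk 1 u v D = 1 := by
    rw [← hblk, Matrix.reindex_apply, Matrix.reindex_apply, Matrix.submatrix_mul_equiv, hMinv,
      Matrix.submatrix_one_equiv]
  have hGeq : G = P.val * Matrix.reindex e e M * (P⁻¹).val := by
    have h1 : Matrix.reindex e e M = (P⁻¹).val * G * P.val := by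
      refine left_inv_eq_right_inv hre ?_
      rw [← hP, ← hGu, ← Units.val_mul, ← Units.val_mul, ← Units.val_mul, ← Units.val_mul,
        ← Units.val_mul]
      refine Eq.trans (congrArg Units.val ?_) Units.val_one
      group
    rw [h1]
    simp [← Matrix.mul_assoc]
  refine ⟨P, S⁻¹, -(S⁻¹ * vv), -(uu * S⁻¹), 1 + uu * S⁻¹ * vv, ?_, ?_, hGeq, fun hn2 c hc => ?_⟩
  · rw [Matrix.det_nonsing_inv, hSd, Ring.inverse_one]
  · rw [← hdet, hGeq, Matrix.det_units_conj, Matrix.det_reindex_self]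
  · have hc0 : c ≠ 0 := by
      rintro rfl
      have h1 := Matrix.det_nonsing_inv S
      have : Nonempty (Fin n) := ⟨⟨0, hn⟩⟩
      rw [hc, zero_smul, Matrix.det_zero, hSd, Ring.inverse_one] at h1
      exact zero_ne_one h1
    refine hS hn2 c⁻¹ ?_
    rw [← Matrix.nonsing_inv_nonsing_inv S hSu, hc, Matrix.scalar_apply, ← Matrix.smul_one_eq_diagonal]
    refine Matrix.inv_eq_right_inv ?_
    rw [Matrix.smul_mul, Matrix.one_mul, smul_smul, mul_inv_cancel₀ hc0, one_smul]

/-- One corner step. -/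
theorem GP.step {n : ℕ} {D : GL (Fin n) F} (μ : GL (Fin 1) F) (hsep : Sep D μ)
    (G : Matrix (Fin (n + 1)) (Fin (n + 1)) F) (hn : 1 ≤ n) (hdet : G.det = 1)
    (hns : ∀ c : F, G ≠ c • 1)
    (hD : ∀ X : Matrix (Fin n) (Fin n) F, X.det = 1 → (2 ≤ n → ∀ c : F, X ≠ c • 1) → GP D X) :
    GP (Units.map (Matrix.reindexAlgEquiv F F (succEquiv n)).toMonoidHom (blkGL D μ)) G := by
  obtain ⟨Q, X, u, w, s, hX, hb, rfl, hXns⟩ := exists_conj_corner hn G hdet hns
  exact ((GP.corner hsep (hD X hX hXns) u w s hX hb).reindex _).conj Q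

theorem gp_trivial {ι : Type*} [Fintype ι] [DecidableEq ι] (D : GL ι F) : GP D (1 : Matrix ι ι F) :=
  ⟨1, 1, by simp only [inv_one, one_mul, mul_one, mul_inv_cancel, Units.val_one]⟩

theorem eq_one_of_det [DecidableEq F] {n : ℕ} (hn : n ≤ 1) (X : Matrix (Fin n) (Fin n) F)
    (h : X.det = 1) : X = 1 := by
  interval_cases n
  · exact Subsingleton.elim _ _
  · ext i j
    rw [Subsingleton.elim i 0, Subsingleton.elim j 0]
    simpa [Matrix.det_fin_one] using h

/-- A scalar as a unit matrix of size one. -/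
def scal (c : F) (hc : c ≠ 0) : GL (Fin 1) F :=
  Matrix.GeneralLinearGroup.mkOfDetNeZero (c • (1 : Matrix (Fin 1) (Fin 1) F))
    (by simp [hc])

@[simp] theorem coe_scal (c : F) (hc : c ≠ 0) :
    (scal c hc : Matrix (Fin 1) (Fin 1) F) = c • 1 := rfl

theorem aeval_scal (c : F) (hc : c ≠ 0) (p : Polynomial F) :
    Polynomial.aeval (scal c hc : Matrix (Fin 1) (Fin 1) F) p = p.eval c • 1 := by
  rw [coe_scal, ← Algebra.algebraMap_eq_smul_one, Polynomial.aeval_algebraMap_apply,
    Algebra.algebraMap_eq_smul_one, Polynomial.coe_aeval_eq_eval]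

theorem exists_shift_conj (e : Fin 4 ↪ F) {n : ℕ} (g : Matrix (Fin n) (Fin n) F) (hdet : g.det = 1)
    (hns : ∀ c : F, g ≠ c • 1) (J : GL (Fin n) F)
    (hJ : (J : Matrix (Fin n) (Fin n) F) = 1 + KS58.shift F n) : GP J g := by
  obtain ⟨P, R, h⟩ := exists_regular_fac_matrix e g hdet hns
  -- `J⁻¹` is conjugate to `J`
  have hS : KS58.shift F n ^ n = 0 ∧ (1 ≤ n → ∃ v, (KS58.shift F n ^ (n - 1)).mulVec v ≠ 0) := by
    have hpow : ∀ k, KS58.shift F n ^ k =
        Matrix.of fun (i j : Fin n) => if (i : ℕ) = j + k then (1 : F) else 0 := by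
      intro k
      induction k with
      | zero => ext i j; simp [Matrix.one_apply, Fin.ext_iff]
      | succ k ih =>
        ext i j
        rw [pow_succ, ih, Matrix.mul_apply]
        simp only [KS58.shift, Matrix.of_apply, mul_ite, mul_one, mul_zero]
        by_cases hj : (j : ℕ) + 1 < n
        · rw [Finset.sum_eq_single (⟨j + 1, hj⟩ : Fin n)]
          · simp [add_assoc, add_comm k 1]
          · intro b _ hb
            rw [if_neg (fun h => hb (Fin.ext h))]
          · simp
        · rw [if_neg (by omega), Finset.sum_eq_zero]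
          intro b _
          rw [if_neg (by omega)]
    refine ⟨?_, fun hn => ⟨Pi.single ⟨0, hn⟩ 1, fun h0 => ?_⟩⟩
    · rw [hpow]; ext i j; simp; omega
    · have := congrFun h0 ⟨n - 1, by omega⟩
      simp [hpow] at this
  obtain ⟨hSn, hSv⟩ := hS
  obtain ⟨W, hW⟩ : ∃ W : GL (Fin n) F, (J⁻¹ : GL (Fin n) F) = W * J * W⁻¹ := by
    rcases Nat.eq_zero_or_pos n with rfl | hn
    · exact ⟨1, Units.ext (Subsingleton.elim _ _)⟩
    obtain ⟨v, hv⟩ := hSv hn
    set M : Matrix (Fin n) (Fin n) F := (J⁻¹ : GL (Fin n) F).val - 1 with hM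
    set S := KS58.shift F n
    have hJS : J.val * M = -S := by
      rw [hM, Matrix.mul_sub, Units.mul_inv, Matrix.mul_one, hJ]; abel
    have hc : Commute (J⁻¹ : GL (Fin n) F).val S := by
      have h1 : Commute J.val S := by rw [hJ]; exact (Commute.one_left _).add_left (Commute.refl _)
      exact h1.units_inv_left
    have hM' : M = -((J⁻¹ : GL (Fin n) F).val * S) := by
      rw [← Matrix.mul_neg, ← hJS, ← Matrix.mul_assoc, Units.inv_mul, Matrix.one_mul]
    have hMn : M ^ n = 0 := by rw [hM', neg_pow, hc.mul_pow, hSn]; simp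
    have hMv : (M ^ (n - 1)).mulVec v ≠ 0 := by
      intro h0
      refine hv ?_
      have h2 := congrArg ((J ^ (n - 1) : GL (Fin n) F).val.mulVec) h0
      rw [Matrix.mulVec_mulVec, Matrix.mulVec_zero, hM', neg_pow, hc.mul_pow, Units.val_pow_eq_pow_val,
        ← Matrix.mul_assoc, ← Matrix.mul_assoc,
        show J.val ^ (n - 1) * (-1) ^ (n - 1) = (-1) ^ (n - 1) * J.val ^ (n - 1) from
          (((Commute.one_left _).neg_left).pow_pow _ _).eq.symm,
        Matrix.mul_assoc ((-1 : Matrix (Fin n) (Fin n) F) ^ (n - 1)), ← Units.val_pow_eq_pow_val,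
        ← Units.val_pow_eq_pow_val, ← Units.val_mul, inv_pow, mul_inv_cancel, Units.val_one,
        Matrix.mul_one] at h2
      rcases neg_one_pow_eq_or (Matrix (Fin n) (Fin n) F) (n - 1) with e1 | e1 <;> rw [e1] at h2
      · simpa using h2
      · simpa [Matrix.neg_mulVec] using h2
    obtain ⟨W, hW⟩ := KS58.isUnit_krylov hMn hMv
    refine ⟨W, Units.ext ?_⟩
    have h2 := KS58.mul_krylov hMn v
    rw [← hW] at h2
    rw [Units.val_mul, Units.val_mul, hJ, Matrix.mul_add, Matrix.mul_one, Matrix.add_mul, ← h2,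
      Units.mul_inv, Matrix.mul_assoc, Units.mul_inv, Matrix.mul_one, hM]
    abel
  refine ⟨P, R * W⁻¹, ?_⟩
  rw [h, ← hJ, ← Units.val_mul, ← Units.val_mul, ← Units.val_mul, ← Units.val_mul, ← Units.val_mul,
    hW]
  exact congrArg Units.val (by group)

/-- Non-scalar elements of `SL_n`, `n ≥ 2`, `|F| ≥ 4`. -/
theorem isCommSL_of_four (e : Fin 4 ↪ F) (m : ℕ) (G : Matrix (Fin (m + 2)) (Fin (m + 2)) F)
    (hdet : G.det = 1) (hns : ∀ c : F, G ≠ c • 1) : IsCommSL G := by
  classical
  obtain ⟨μ, hμ0, hμ1, hμ2⟩ : ∃ μ : F, μ ≠ 0 ∧ μ ≠ 1 ∧ μ ≠ -1 := by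
    obtain ⟨a, -, ha⟩ := Finset.exists_mem_notMem_of_card_lt_card
      (s := ({0, 1, -1} : Finset F)) (t := Finset.univ.map e)
      (lt_of_le_of_lt Finset.card_le_three (by simp))
    simp at ha
    exact ⟨a, ha.1, ha.2.1, ha.2.2⟩
  obtain ⟨J, hJ⟩ : ∃ J : GL (Fin m) F, (J : Matrix (Fin m) (Fin m) F) = 1 + KS58.shift F m := by
    have hd : (1 + KS58.shift F m).det = 1 := by
      rw [Matrix.det_of_isLowerTriangular _ fun i j hij => ?_]
      · simp [KS58.shift]
      · have hlt : i < j := hij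
        simp [KS58.shift, Matrix.one_apply_ne hlt.ne]
        omega
    exact ⟨Matrix.GeneralLinearGroup.mkOfDetNeZero _ (by rw [hd]; exact one_ne_zero), rfl⟩
  have hJp : Polynomial.aeval (J : Matrix (Fin m) (Fin m) F)
      ((Polynomial.X - Polynomial.C (1 : F)) ^ m) = 0 := by
    rw [map_pow, map_sub, Polynomial.aeval_X, Polynomial.aeval_C, map_one, hJ, add_sub_cancel_left]
    ext i j
    have : ∀ k, ∀ a b : Fin m, (KS58.shift F m ^ k) a b ≠ 0 → (a : ℕ) = b + k := by
      intro k
      induction k with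
      | zero =>
        intro a b h
        rw [pow_zero, Matrix.one_apply] at h
        split_ifs at h with h' <;> simp_all
      | succ k ih =>
        intro a b h
        rw [pow_succ, Matrix.mul_apply] at h
        obtain ⟨c, -, hc⟩ := Finset.exists_ne_zero_of_sum_ne_zero h
        have h1 := ih a c (left_ne_zero_of_mul hc)
        have h2 := right_ne_zero_of_mul hc
        simp [KS58.shift] at h2
        omega
    by_contra h
    have := this m i j (by simpa using h)
    omega
  have hsep1 : Sep J (scal μ hμ0) := sep_of_aeval _ hJp (by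
    rw [aeval_scal]
    refine (Matrix.isUnit_iff_isUnit_det _).2 ?_
    simp [sub_eq_zero, hμ1])
  have hdJ : (J : Matrix (Fin m) (Fin m) F).det = 1 := by
    rw [hJ, Matrix.det_of_isLowerTriangular _ fun i j hij => ?_]
    · simp [KS58.shift]
    · have hlt : i < j := hij
      simp [KS58.shift, Matrix.one_apply_ne hlt.ne]
      omega
  set D₁ := Units.map (Matrix.reindexAlgEquiv F F (succEquiv m)).toMonoidHom
    (blkGL J (scal μ hμ0)) with hD₁
  have hμi : μ⁻¹ ≠ 0 := inv_ne_zero hμ0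
  have hsep2 : Sep D₁ (scal μ⁻¹ hμi) := by
    refine sep_of_aeval
      ((Polynomial.X - Polynomial.C (1 : F)) ^ m * (Polynomial.X - Polynomial.C μ)) ?_ ?_
    · have hval : (D₁ : Matrix (Fin (m + 1)) (Fin (m + 1)) F) =
          Matrix.reindexAlgEquiv F F (succEquiv m) (blkGL J (scal μ hμ0)).val := rfl
      rw [hval, Polynomial.aeval_algHom_apply, ← map_zero (Matrix.reindexAlgEquiv F F (succEquiv m))]
      congr 1
      have hpb : ∀ (p : Polynomial F) (A : Matrix (Fin m) (Fin m) F) (B : Matrix (Fin 1) (Fin 1) F),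
          Polynomial.aeval (fromBlocks A 0 0 B) p =
            fromBlocks (Polynomial.aeval A p) 0 0 (Polynomial.aeval B p) := by
        intro p A B
        induction p using Polynomial.induction_on with
        | C a =>
          simp only [Polynomial.aeval_C, Algebra.algebraMap_eq_smul_one]
          rw [← fromBlocks_one, fromBlocks_smul, smul_zero, smul_zero]
        | add p q hp hq => simp only [map_add, hp, hq, fromBlocks_add, add_zero]
        | monomial k a ih =>
          rw [pow_succ, ← mul_assoc, map_mul (Polynomial.aeval (fromBlocks A 0 0 B)), ih,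
            Polynomial.aeval_X, fromBlocks_multiply]
          simp
      rw [show (blkGL J (scal μ hμ0)).val =
        fromBlocks (J : Matrix (Fin m) (Fin m) F) 0 0 (scal μ hμ0).val from rfl, hpb,
        map_mul, hJp, zero_mul, aeval_scal]
      simp
    · rw [aeval_scal]
      refine (Matrix.isUnit_iff_isUnit_det _).2 ?_
      have h1 : μ⁻¹ ≠ 1 := fun h => hμ1 (inv_eq_one.1 h)
      have h2 : μ⁻¹ ≠ μ := fun h => by
        have h3 := mul_inv_cancel₀ hμ0
        rw [h] at h3
        rcases mul_self_eq_one_iff.1 h3 with h4 | h4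
        · exact hμ1 h4
        · exact hμ2 h4
      simp [sub_eq_zero, h1, h2]
  have hbase : ∀ X : Matrix (Fin m) (Fin m) F, X.det = 1 →
      (2 ≤ m → ∀ c : F, X ≠ c • 1) → GP J X := by
    intro X hX hXns
    by_cases hm : 2 ≤ m
    · exact exists_shift_conj e X hX (hXns hm) J hJ
    · rw [eq_one_of_det (by omega) X hX]; exact gp_trivial _
  have hmid : ∀ X : Matrix (Fin (m + 1)) (Fin (m + 1)) F, X.det = 1 →
      (2 ≤ m + 1 → ∀ c : F, X ≠ c • 1) → GP D₁ X := by
    intro X hX hXns
    by_cases hm : 1 ≤ m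
    · exact GP.step _ hsep1 X hm hX (hXns (by omega)) hbase
    · rw [eq_one_of_det (by omega) X hX]; exact gp_trivial _
  have h := GP.step (scal μ⁻¹ hμi) hsep2 G (by omega) hdet hns hmid
  refine h.isCommSL ?_ ?_
  · show (Matrix.reindexAlgEquiv F F _ (blkGL D₁ (scal μ⁻¹ hμi)).val).det = 1
    rw [Matrix.det_reindexAlgEquiv, det_blkGL]
    show (Matrix.reindexAlgEquiv F F _ (blkGL J (scal μ hμ0)).val).det * _ = 1
    rw [Matrix.det_reindexAlgEquiv, det_blkGL, hdJ]
    simp [hμ0]
  · intro c hc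
    obtain ⟨Z, hZ, hd⟩ := (DS.blk (D := D₁) (DS.of_scalar (scal μ⁻¹ hμi))) c hc
    refine ⟨Units.map (Matrix.reindexAlgEquiv F F (succEquiv (m + 1))).toMonoidHom Z,
      hZ.map _, ?_⟩
    rw [← hd]
    exact Matrix.det_reindexAlgEquiv F F (succEquiv (m + 1)) (Z : Matrix (Fin (m + 1) ⊕ Fin 1) (Fin (m + 1) ⊕ Fin 1) F)

end Cfsg.Agent.FGS77.Thompson
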