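import Cfsg.Agent.FGS77.Thompson.Shifted
import Cfsg.Agent.KnownSimple58.CyclicDecomp

/-! Every matrix is similar to a sum of shifted primary blocks. -/

set_option autoImplicit false

namespace Cfsg.Agent.FGS77.Thompson

open Matrix

variable {F : Type} [Field F]

/-- A shifted block with at most one eigenvalue in `F`, and then no other root. -/
structure Blk (F : Type) [Field F] where
  n : ℕ
  M : Matrix (Fin n) (Fin n) F
  shifted : Shifted M
  prim : ∀ c : F, IsUnit (M - c • 1) ∨ (M - c • 1) ^ n = 0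

/-- Total size. -/
def size : List (Blk F) → ℕ
  | [] => 0
  | b :: L => b.n + size L

/-- The block diagonal matrix of a list of blocks. -/
def bd : (L : List (Blk F)) → Matrix (Fin (size L)) (Fin (size L)) F
  | [] => 1
  | b :: L => Matrix.reindex finSumFinEquiv finSumFinEquiv (fromBlocks b.M 0 0 (bd L))

theorem sim_cons (b : Blk F) (L : List (Blk F)) :
    Sim (bd (b :: L)) (fromBlocks b.M 0 0 (bd L)) :=
  Sim.of_reindex _ _

theorem sim_nil_blocks {κ : Type*} [Fintype κ] [DecidableEq κ] (M : Matrix (Fin 0) (Fin 0) F)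
    (G : Matrix κ κ F) : Sim (fromBlocks M 0 0 G) G :=
  ⟨(Equiv.emptySum (Fin 0) κ).symm, 1, by
    ext (i | i) (j | j)
    · exact i.elim0
    · exact i.elim0
    · exact j.elim0
    · simp⟩

theorem sim_append : ∀ L K : List (Blk F), Sim (bd (L ++ K)) (fromBlocks (bd L) 0 0 (bd K))
  | [], K => (sim_nil_blocks (bd ([] : List (Blk F))) (bd K)).symm
  | b :: L, K => by
    refine (sim_cons b (L ++ K)).trans (((Sim.refl b.M).blocks (sim_append L K)).trans ?_)
    exact (Sim.blocks_assoc _ _ _).symm.trans ((sim_cons b L).symm.blocks (Sim.refl _))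

theorem sim_perm {L K : List (Blk F)} (h : L.Perm K) : Sim (bd L) (bd K) := by
  induction h with
  | nil => exact Sim.refl _
  | cons b _ ih => exact (sim_cons b _).trans (((Sim.refl b.M).blocks ih).trans (sim_cons b _).symm)
  | @swap a b L =>
    refine (sim_cons b _).trans (((Sim.refl b.M).blocks (sim_cons a L)).trans ?_)
    refine (Sim.blocks_assoc _ _ _).symm.trans (((Sim.blocks_comm _ _).blocks (Sim.refl _)).trans ?_)
    exact (Sim.blocks_assoc _ _ _).trans (((Sim.refl a.M).blocks (sim_cons b L).symm).trans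
      (sim_cons a _).symm)
  | trans _ _ ih ih' => exact ih.trans ih'

theorem det_bd_cons (b : Blk F) (L : List (Blk F)) : (bd (b :: L)).det = b.M.det * (bd L).det := by
  rw [(sim_cons b L).det_eq, det_fromBlocks_zero₁₂]

theorem det_bd : ∀ L : List (Blk F), (bd L).det = (L.map fun b => b.M.det).prod
  | [] => by simp [bd]
  | b :: L => by rw [det_bd_cons, det_bd L, List.map_cons, List.prod_cons]

theorem sim_blockDiagonal : ∀ (k : ℕ) (f : Fin k → Blk F),
    Sim (Matrix.blockDiagonal' fun i => (f i).M) (bd (List.ofFn f))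
  | 0, f => by
    rw [List.ofFn_zero]
    exact ⟨⟨fun i => i.elim0, fun p => p.1.elim0, fun i => i.elim0, fun p => p.1.elim0⟩, 1,
      Matrix.ext fun p => p.1.elim0⟩
  | k + 1, f => by
    rw [List.ofFn_succ]
    refine Sim.trans ?_ (((Sim.refl (f 0).M).blocks (sim_blockDiagonal k fun i => f i.succ)).trans
      (sim_cons _ _).symm)
    let e : Fin (f 0).n ⊕ (Σ i : Fin k, Fin (f i.succ).n) ≃ Σ i : Fin (k + 1), Fin (f i).n :=
      { toFun := Sum.elim (fun a => ⟨0, a⟩) (fun p => ⟨p.1.succ, p.2⟩)
        invFun := fun p => Fin.cases (motive := fun i => Fin (f i).n →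
          Fin (f 0).n ⊕ (Σ i : Fin k, Fin (f i.succ).n)) Sum.inl (fun i a => Sum.inr ⟨i, a⟩) p.1 p.2
        left_inv := by rintro (a | ⟨i, a⟩) <;> simp
        right_inv := by
          rintro ⟨i, a⟩
          cases i using Fin.cases <;> simp }
    refine ⟨e, 1, ?_⟩
    simp only [Units.val_one, inv_one, Matrix.one_mul, Matrix.mul_one]
    ext ⟨i, a⟩ ⟨j, c⟩
    cases i using Fin.cases <;> cases j using Fin.cases <;>
      simp [e, Matrix.blockDiagonal'_apply, Fin.succ_ne_zero, (Fin.succ_ne_zero _).symm]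

open Polynomial in
theorem exists_blocks {n : ℕ} (G : Matrix (Fin n) (Fin n) F) :
    ∃ L : List (Blk F), Sim G (bd L) := by
  classical
  obtain ⟨ι, hι, q, e, g, ψ, hg, hψ⟩ := KS58.exists_cyclic_decomp G
  let pb : ∀ i, PowerBasis F (AdjoinRoot (g i)) := fun i => AdjoinRoot.powerBasis' (hg i).2.2
  have hroot : ∀ i, (pb i).gen = AdjoinRoot.root (g i) := fun i => by simp [pb]
  have mk : ∀ i, ∃ b : Blk F, ∃ h : b.n = (pb i).dim,
      b.M = Matrix.reindex (finCongr h.symm) (finCongr h.symm)
        (Algebra.leftMulMatrix (pb i).basis (AdjoinRoot.root (g i))) := by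
    intro i
    refine ⟨⟨(pb i).dim, Algebra.leftMulMatrix (pb i).basis (AdjoinRoot.root (g i)), ?_, ?_⟩, rfl,
      by simp⟩
    · intro a c hc
      rw [Algebra.leftMulMatrix_eq_repr_mul, PowerBasis.coe_basis, hroot, ← pow_succ',
        show AdjoinRoot.root (g i) ^ ((c : ℕ) + 1) = (pb i).basis ⟨c + 1, hc⟩ by
          simp [PowerBasis.coe_basis, hroot],
        Module.Basis.repr_self, Finsupp.single_apply]
      simp [Fin.ext_iff, eq_comm]
    · intro c
      set Λ := Algebra.leftMulMatrix (pb i).basis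
      have e1 : Λ (AdjoinRoot.root (g i)) - c • 1 =
          Λ (AdjoinRoot.root (g i) - algebraMap F _ c) := by
        rw [map_sub, AlgHom.commutes, Algebra.algebraMap_eq_smul_one]
      rw [e1]
      by_cases hc : (g i).eval c = 0
      · right
        obtain ⟨hq, hqa, hmon⟩ := hg i
        have hqc : (q i).eval c = 0 := by
          have h1 := (eval_dvd (x := c) hqa.dvd)
          rw [hc, eval_pow] at h1
          exact eq_zero_of_pow_eq_zero (zero_dvd_iff.1 h1)
        have h2 : Associated (q i) (X - C c) :=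
          ((irreducible_X_sub_C c).associated_of_dvd hq (dvd_iff_isRoot.2 hqc)).symm
        have h3 : g i = (X - C c) ^ e i :=
          eq_of_monic_of_associated hmon ((monic_X_sub_C c).pow _) (hqa.trans h2.pow_pow)
        have hd : (pb i).dim = e i := by
          show (g i).natDegree = e i
          rw [h3, natDegree_pow, natDegree_X_sub_C, mul_one]
        rw [← map_pow]
        have h4 : (AdjoinRoot.root (g i) - algebraMap F _ c) ^ (pb i).dim =
            AdjoinRoot.mk (g i) ((X - C c) ^ e i) := by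
          rw [congrArg (fun m => (AdjoinRoot.root (g i) - algebraMap F _ c) ^ m) hd,
            map_pow, map_sub, AdjoinRoot.mk_X, AdjoinRoot.mk_C]
          rfl
        rw [h4, ← h3, AdjoinRoot.mk_self, map_zero]
      · left
        refine IsUnit.map Λ ?_
        obtain ⟨s, hs⟩ := dvd_iff_isRoot.2 (show IsRoot (g i - C ((g i).eval c)) c by simp [IsRoot])
        have h1 := congrArg (AdjoinRoot.mk (g i)) hs
        rw [map_sub, AdjoinRoot.mk_self, map_mul, map_sub, AdjoinRoot.mk_X, AdjoinRoot.mk_C,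
          AdjoinRoot.mk_C, zero_sub] at h1
        have h5 : IsUnit (-(AdjoinRoot.of (g i) ((g i).eval c))) :=
          ((IsUnit.mk0 _ hc).map (AdjoinRoot.of (g i))).neg
        rw [h1] at h5
        exact (IsUnit.mul_iff.1 h5).1
  choose b hb hbM using mk
  set k := Fintype.card ι
  let ε := Fintype.equivFin ι
  refine ⟨List.ofFn fun j => b (ε.symm j), ?_⟩
  refine Sim.trans ?_ (sim_blockDiagonal k fun j => b (ε.symm j))
  -- the basis
  let B : Module.Basis (Σ i, Fin (pb i).dim) F (Fin n → F) :=
    (Pi.basis fun i => (pb i).basis).map ψ.symm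
  let e₁ : (Σ i, Fin (pb i).dim) ≃ Σ j : Fin k, Fin (b (ε.symm j)).n :=
    ((Equiv.sigmaCongrRight fun i => finCongr (hb i).symm).trans
      (Equiv.sigmaCongrLeft' ε))
  let e₂ : (Σ i, Fin (pb i).dim) ≃ Fin n := B.indexEquiv (Pi.basisFun F (Fin n))
  refine Sim.trans (H := LinearMap.toMatrix B B (Matrix.mulVecLin G)) ?_ ⟨e₁.symm, 1, ?_⟩
  · let B' := B.reindex e₂
    refine ⟨e₂, ⟨(Pi.basisFun F (Fin n)).toMatrix B', B'.toMatrix (Pi.basisFun F (Fin n)),
      (Pi.basisFun F (Fin n)).toMatrix_mul_toMatrix_flip B',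
      B'.toMatrix_mul_toMatrix_flip (Pi.basisFun F (Fin n))⟩, ?_⟩
    have h1 : Matrix.reindex e₂ e₂ (LinearMap.toMatrix B B (Matrix.mulVecLin G)) =
        LinearMap.toMatrix B' B' (Matrix.mulVecLin G) := by
      ext i j
      simp [B', LinearMap.toMatrix_apply]
    rw [h1]
    show G = (Pi.basisFun F (Fin n)).toMatrix B' * _ * B'.toMatrix (Pi.basisFun F (Fin n))
    rw [basis_toMatrix_mul_linearMap_toMatrix_mul_basis_toMatrix]
    rw [LinearMap.toMatrix_eq_toMatrix']
    exact (LinearMap.toMatrix'_toLin' G).symm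
  · simp only [Units.val_one, inv_one, Matrix.one_mul, Matrix.mul_one]
    ext ⟨i, a⟩ ⟨j, c⟩
    rw [LinearMap.toMatrix_apply]
    show (Pi.basis fun i => (pb i).basis).repr (ψ (G *ᵥ B ⟨j, c⟩)) ⟨i, a⟩ = _
    rw [Pi.basis_repr, hψ]
    have hB : ψ (B ⟨j, c⟩) = Pi.single j ((pb j).basis c) := by
      simp [B, Pi.basis_apply]
    rw [hB, Matrix.reindex_apply, Matrix.submatrix_apply, Equiv.symm_symm]
    by_cases hij : i = j
    · subst hij
      rw [Pi.single_eq_same]
      have he : ∀ x : Fin (pb i).dim, e₁ ⟨i, x⟩ = ⟨ε i, Fin.cast (by rw [Equiv.symm_apply_apply]; exact (hb i).symm) x⟩ := by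
        intro x
        simp only [e₁, Equiv.trans_apply, Equiv.sigmaCongrRight_apply]
        refine (Equiv.apply_eq_iff_eq_symm_apply _).2 ?_
        simp [Equiv.sigmaCongrLeft']
        rw [Fin.heq_ext_iff (by first | rfl | rw [Equiv.symm_apply_apply] | simp [hb])]
        simp
      rw [he, he, Matrix.blockDiagonal'_apply_eq]
      have gen : ∀ i' (h : i' = i) (x y : Fin (pb i).dim),
          (pb i).basis.repr (AdjoinRoot.root (g i) * (pb i).basis y) x =
            (b i').M (Fin.cast (by rw [h]; exact (hb i).symm) x)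
              (Fin.cast (by rw [h]; exact (hb i).symm) y) := by
        rintro _ rfl x y
        rw [hbM, Matrix.reindex_apply, Matrix.submatrix_apply, Algebra.leftMulMatrix_eq_repr_mul]
        rfl
      exact gen _ (Equiv.symm_apply_apply ε i) a c
    · rw [Pi.single_eq_of_ne hij, mul_zero, map_zero, Finsupp.coe_zero, Pi.zero_apply]
      refine (Matrix.blockDiagonal'_apply_ne _ _ _ ?_).symm
      simp only [e₁, Equiv.trans_apply, Equiv.sigmaCongrRight_apply]
      simpa [Equiv.sigmaCongrLeft'] using hij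

end Cfsg.Agent.FGS77.Thompson
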