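import Cfsg.Agent.FGS77.Thompson.Shifted

/-! A shifted matrix that is a product of conjugates of a Singer element and its inverse, and the
resulting witnesses for cyclic matrices. -/

set_option autoImplicit false

namespace Cfsg.Agent.FGS77.Thompson

open Matrix

theorem zmod_three_aux :
    (∀ z : ZMod 3, z ≠ 0 → z ≠ 1 → z = -1) ∧ (-1 : ZMod 3) ≠ 0 ∧ (-1 : ZMod 3) ≠ 1 := by decide

variable {p : ℕ} [Fact p.Prime]

theorem exists_singer (m : ℕ) (hm : 2 ≤ m) :
    ∃ (Y : Matrix (Fin m) (Fin m) (ZMod p)) (D : GL (Fin m) (ZMod p)), Shifted Y ∧ Y.det = 1 ∧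
      GP D Y ∧ (p = 3 → (D : Matrix (Fin m) (Fin m) (ZMod p)).det = -1) ∧
      ∀ k, 0 < k → k < p ^ m - 1 →
        IsUnit (Polynomial.aeval D.val (Polynomial.X ^ k - 1 : Polynomial (ZMod p))) := by
  classical
  have hp := (Fact.out : p.Prime)
  set K := GaloisField p m
  have hfr : Module.finrank (ZMod p) K = m := GaloisField.finrank p (by omega)
  have : Fintype K := Fintype.ofFinite K
  have hcard : Nat.card K = p ^ m := GaloisField.card p m (by omega)
  obtain ⟨g, hg⟩ := IsCyclic.exists_generator (α := Kˣ)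
  have hog : orderOf g = p ^ m - 1 := by
    rw [orderOf_eq_card_of_forall_mem_zpowers hg, Nat.card_units, hcard]
  set θ : K := (g : K)
  have hθ0 : θ ≠ 0 := g.ne_zero
  set η : K := (θ ^ (p - 1))⁻¹ with hη
  have hpm : p ^ 2 ≤ p ^ m := Nat.pow_le_pow_right hp.pos hm
  have hηint : IsIntegral (ZMod p) η := IsIntegral.of_finite _ _
  have hdeg : m ≤ (minpoly (ZMod p) η).natDegree := by
    by_contra hlt
    push Not at hlt
    set d := (minpoly (ZMod p) η).natDegree
    have : Fintype (IntermediateField.adjoin (ZMod p) ({η} : Set K)) := Fintype.ofFinite _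
    have hcd : Nat.card (IntermediateField.adjoin (ZMod p) ({η} : Set K)) = p ^ d := by
      rw [Module.natCard_eq_pow_finrank (K := ZMod p), IntermediateField.adjoin.finrank hηint,
        Nat.card_zmod]
    have hη0 : (⟨η, IntermediateField.mem_adjoin_simple_self _ η⟩ :
        IntermediateField.adjoin (ZMod p) ({η} : Set K)) ≠ 0 :=
      fun h => inv_ne_zero (pow_ne_zero _ hθ0) (congrArg Subtype.val h)
    have h1 := congrArg Subtype.val (FiniteField.pow_card_sub_one_eq_one _ hη0)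
    rw [← Nat.card_eq_fintype_card, hcd] at h1
    simp only [SubmonoidClass.coe_pow, OneMemClass.coe_one, hη, inv_pow, inv_eq_one, ← pow_mul] at h1
    have h2 : g ^ ((p - 1) * (p ^ d - 1)) = 1 := Units.ext (by simpa using h1)
    have h3 := orderOf_dvd_of_pow_eq_one h2
    rw [hog] at h3
    have hd : 0 < d := minpoly.natDegree_pos hηint
    have h4 : p ^ (d + 1) ≤ p ^ m := Nat.pow_le_pow_right hp.pos hlt
    have h5 : p ^ 1 ≤ p ^ d := Nat.pow_le_pow_right hp.pos hd
    have h6 : 0 < (p - 1) * (p ^ d - 1) := by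
      have := hp.two_le
      rw [pow_one] at h5
      apply Nat.mul_pos <;> omega
    have h7 := Nat.le_of_dvd h6 h3
    have h8 : (p - 1) * (p ^ d - 1) + p ≤ p ^ (d + 1) := by
      obtain ⟨a, ha⟩ : ∃ a, p = a + 1 := ⟨p - 1, by have := hp.pos; omega⟩
      obtain ⟨b, hb⟩ : ∃ b, p ^ d = b + 1 := ⟨p ^ d - 1, by have := hp.pos; have := Nat.one_le_pow d p this; omega⟩
      rw [pow_succ, hb, ha, Nat.add_sub_cancel, Nat.add_sub_cancel]
      nlinarith
    have := hp.two_le
    omega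
  have hli : LinearIndependent (ZMod p) fun i : Fin m => η ^ (i : ℕ) :=
    (linearIndependent_pow η).comp (Fin.castLE hdeg) (Fin.castLE_injective _)
  have : Nonempty (Fin m) := ⟨⟨0, by omega⟩⟩
  set b := basisOfLinearIndependentOfCardEqFinrank hli (by rw [hfr, Fintype.card_fin])
  have hb : ∀ i, b i = η ^ (i : ℕ) := fun i => by
    simp [b, coe_basisOfLinearIndependentOfCardEqFinrank]
  set M := Algebra.leftMulMatrix b
  let D : GL (Fin m) (ZMod p) := Units.map M.toRingHom.toMonoidHom g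
  have : ExpChar K p := .prime hp
  let φ : K ≃ₐ[ZMod p] K := FiniteField.frobeniusAlgEquiv (ZMod p) K p
  have hφ : ∀ x : K, φ x = x ^ p := fun x => by
    simp [φ, FiniteField.frobeniusAlgEquiv_apply, ZMod.card]
  let S : GL (Fin m) (ZMod p) := Units.map (LinearMap.toMatrixAlgEquiv b).toRingHom.toMonoidHom
    ⟨φ.toLinearMap, φ.symm.toLinearMap, LinearMap.ext fun x => φ.apply_symm_apply x,
      LinearMap.ext fun x => φ.symm_apply_apply x⟩
  have hY : GP D (M η) := by
    refine ⟨1, S, ?_⟩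
    rw [one_mul, inv_one, mul_one, Units.val_mul, Units.val_mul, Units.val_mul, ← map_inv, ← map_inv]
    show M η = M θ * (LinearMap.toMatrixAlgEquiv b φ.toLinearMap * M ((g⁻¹ : Kˣ) : K) *
      LinearMap.toMatrixAlgEquiv b φ.symm.toLinearMap)
    have e1 : ∀ x : K, M x = LinearMap.toMatrixAlgEquiv b (Algebra.lmul (ZMod p) K x) := fun x => rfl
    rw [e1 η, e1 θ, e1, ← map_mul, ← map_mul, ← map_mul]
    congr 1
    refine LinearMap.ext fun x => ?_
    show η * x = θ * φ ((g⁻¹ : Kˣ) * φ.symm x)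
    rw [map_mul, AlgEquiv.apply_symm_apply, hφ, Units.val_inv_eq_inv_val, hη, ← mul_assoc, inv_pow]
    congr 1
    have : θ ^ p = θ * θ ^ (p - 1) := by
      rw [← pow_succ']
      congr 1
      have := hp.pos
      omega
    rw [this, mul_inv, ← mul_assoc, mul_inv_cancel₀ hθ0, one_mul]
  refine ⟨M η, D, fun i j hj => ?_, ?_, hY, fun h3 => ?_, fun k hk0 hk => ?_⟩
  · show Algebra.leftMulMatrix b η i j = _
    rw [Algebra.leftMulMatrix_eq_repr_mul, hb, ← pow_succ',
      show η ^ ((j : ℕ) + 1) = b ⟨j + 1, hj⟩ from (hb ⟨j + 1, hj⟩).symm, Module.Basis.repr_self,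
      Finsupp.single_apply]
    simp [Fin.ext_iff, eq_comm]
  · obtain ⟨P, R, h⟩ := hY
    rw [h, Units.val_mul, Units.val_mul, Units.val_mul, Units.val_mul, Units.val_mul,
      Matrix.det_mul, Matrix.det_units_conj, Matrix.det_units_conj, ← Matrix.det_mul, Units.mul_inv,
      Matrix.det_one]
  · subst h3
    show (M θ).det = -1
    rw [← Algebra.norm_eq_matrix_det b θ]
    obtain ⟨y, hy⟩ := FiniteField.norm_surjective (ZMod 3) K (-1)
    have hy0 : y ≠ 0 := fun h => zmod_three_aux.2.1 (by rw [← hy, h, Algebra.norm_zero])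
    obtain ⟨i, hi⟩ := (mem_powers_iff_mem_zpowers).2 (hg (Units.mk0 y hy0))
    have h1 : θ ^ i = y := congrArg Units.val hi
    rw [← h1, map_pow] at hy
    have h2 : Algebra.norm (ZMod 3) θ ≠ 0 := fun h => hθ0 (Algebra.norm_eq_zero_iff.1 h)
    have h3 : Algebra.norm (ZMod 3) θ ≠ 1 := fun h => by
      rw [h, one_pow] at hy; exact zmod_three_aux.2.2 hy.symm
    exact zmod_three_aux.1 _ h2 h3
  · show IsUnit (Polynomial.aeval (M θ) (Polynomial.X ^ k - 1 : Polynomial (ZMod p)))
    rw [Polynomial.aeval_algHom_apply]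
    refine (IsUnit.mk0 _ ?_).map M
    rw [map_sub, map_pow, Polynomial.aeval_X, map_one, sub_ne_zero]
    intro h
    have h1 : g ^ k = 1 := Units.ext (by simpa using h)
    have h2 := Nat.le_of_dvd hk0 (orderOf_dvd_of_pow_eq_one h1)
    omega

/-- Cyclic elements over two elements. -/
theorem wit_two {m : ℕ} (hm : 2 ≤ m) {G : Matrix (Fin (m + 1)) (Fin (m + 1)) (ZMod 2)}
    (hG : Shifted G) (hdet : G.det = 1) :
    Wit 1 1 G ∧ (3 ≤ m → Wit 1 (Polynomial.X ^ 2 + Polynomial.X + 1) G) := by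
  obtain ⟨Y, D, hY, hdY, hGP, -, hunit⟩ := exists_singer (p := 2) m hm
  have h4 : 2 ^ 2 ≤ 2 ^ m := Nat.pow_le_pow_right two_pos hm
  obtain ⟨u, w, s, hs⟩ := exists_corner_shifted hG hY
  have hD : (D : Matrix (Fin m) (Fin m) (ZMod 2)).det = 1 := by
    have h : (D : Matrix (Fin m) (Fin m) (ZMod 2)).det ≠ 0 := D.det.ne_zero
    revert h
    generalize (D : Matrix (Fin m) (Fin m) (ZMod 2)).det = z
    revert z
    decide
  have key : ∀ q : Polynomial (ZMod 2), q.eval 1 ≠ 0 →
      IsUnit (Polynomial.aeval D.val (q * (Polynomial.X - Polynomial.C 1))) → Wit 1 q G := by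
    intro q hq hu
    have h := Pre.step (1 : ZMod 2) one_ne_zero hq ⟨D, hGP, hD, hu⟩ u w s hdY
      (by rw [← hs.det_eq, hdet])
    rw [mul_one] at h
    exact h.sim hs
  refine ⟨key 1 (by simp) ?_, fun hm3 => key _ (by simp; decide) ?_⟩
  · rw [one_mul, Polynomial.C_1]
    simpa using hunit 1 one_pos (by omega)
  · have h8 : 2 ^ 3 ≤ 2 ^ m := Nat.pow_le_pow_right two_pos hm3
    rw [show (Polynomial.X ^ 2 + Polynomial.X + 1) * (Polynomial.X - Polynomial.C (1 : ZMod 2)) =
      Polynomial.X ^ 3 - 1 by rw [Polynomial.C_1]; ring]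
    exact hunit 3 (by norm_num) (by omega)

/-- Cyclic elements over three elements. -/
theorem wit_three {m : ℕ} (hm : 2 ≤ m) {G : Matrix (Fin (m + 1)) (Fin (m + 1)) (ZMod 3)}
    (hG : Shifted G) (hdet : G.det = 1) : Wit 1 (Polynomial.X ^ 2 + 1) G := by
  obtain ⟨Y, D, hY, hdY, hGP, hD, hunit⟩ := exists_singer (p := 3) m hm
  have h9 : 3 ^ 2 ≤ 3 ^ m := Nat.pow_le_pow_right (by norm_num) hm
  obtain ⟨u, w, s, hs⟩ := exists_corner_shifted hG hY
  have hu : IsUnit (Polynomial.aeval D.val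
      ((Polynomial.X ^ 2 + 1) * (Polynomial.X - Polynomial.C (-1 : ZMod 3)))) := by
    have h4 := hunit 4 (by norm_num) (by omega)
    rw [show (Polynomial.X ^ 4 - 1 : Polynomial (ZMod 3)) =
      ((Polynomial.X ^ 2 + 1) * (Polynomial.X - Polynomial.C (-1 : ZMod 3))) * (Polynomial.X - 1) by
        rw [Polynomial.C_neg, Polynomial.C_1]; ring, map_mul] at h4
    exact (((Commute.all ((Polynomial.X ^ 2 + 1) * (Polynomial.X - Polynomial.C (-1 : ZMod 3)))
      (Polynomial.X - 1)).map (Polynomial.aeval (R := ZMod 3) D.val)).isUnit_mul_iff.1 h4).1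
  have h := Pre.step (-1 : ZMod 3) (by decide) (by simp; decide) ⟨D, hGP, hD rfl, hu⟩ u w s hdY
    (by rw [← hs.det_eq, hdet])
  rw [neg_one_mul, neg_neg] at h
  exact h.sim hs

/-- Two blocks over three elements. -/
theorem wit_three_pair {a b : ℕ} {A : Matrix (Fin (a + 2)) (Fin (a + 2)) (ZMod 3)}
    {B : Matrix (Fin (b + 1)) (Fin (b + 1)) (ZMod 3)} (hA : Shifted A) (hB : Shifted B)
    (hdet : A.det * B.det = 1) (hab : 1 ≤ a + b) :
    Wit 1 (Polynomial.X ^ 2 + 1) (fromBlocks A 0 0 B) := by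
  obtain ⟨X, hX, hdX, u, w, s, hs⟩ := exists_corner_pair hA hB (right_ne_zero_of_mul_eq_one hdet)
  obtain ⟨H, hH, hXH⟩ := hX.exists_shifted
  set e : Fin (a + 1 + (b + 1)) ≃ Fin (a + b + 1 + 1) := finCongr (by omega) with he
  set H' := Matrix.reindex e e H with hH'
  have hH'' : Shifted H' := by
    intro i j hj
    show H (e.symm i) (e.symm j) = _
    rw [hH _ _ (by simp [he]; omega)]
    simp [he]
  obtain ⟨Y, D, hY, hdY, hGP, hD, hunit⟩ := exists_singer (p := 3) (a + b + 1) (by omega)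
  have h9 : 3 ^ 2 ≤ 3 ^ (a + b + 1) := Nat.pow_le_pow_right (by norm_num) (by omega)
  obtain ⟨u', w', s', hs'⟩ := exists_corner_shifted hH'' hY
  have h4 : IsUnit (Polynomial.aeval D.val
      ((Polynomial.X ^ 2 + 1) * (Polynomial.X - Polynomial.C (-1 : ZMod 3)) *
        (Polynomial.X - Polynomial.C 1))) := by
    have h4 := hunit 4 (by norm_num) (by omega)
    rwa [show (Polynomial.X ^ 4 - 1 : Polynomial (ZMod 3)) =
      (Polynomial.X ^ 2 + 1) * (Polynomial.X - Polynomial.C (-1 : ZMod 3)) *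
        (Polynomial.X - Polynomial.C 1) by rw [Polynomial.C_neg, Polynomial.C_1]; ring] at h4
  have h1 := Pre.step (1 : ZMod 3) one_ne_zero (by simp; decide) ⟨D, hGP, hD rfl, h4⟩ u' w' s' hdY
    (by rw [← hs'.det_eq, Matrix.det_reindex_self, ← hXH.det_eq, hdX])
  rw [mul_one] at h1
  have h2 := (h1.sim hs').sim (hXH.trans (Sim.of_reindex e H).symm)
  have h3 := Pre.step (-1 : ZMod 3) (by decide) (by simp; decide) h2.pre u w s hdX
    (by rw [← hs.det_eq, det_fromBlocks_zero₁₂, hdet])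
  rw [neg_one_mul, neg_neg] at h3
  exact h3.sim hs

end Cfsg.Agent.FGS77.Thompson
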