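import Cfsg.Agent.FGS77.Thompson.Glue

/-! Explicit commutator certificates in small special linear groups over `ZMod 2` and `ZMod 3`. -/

set_option autoImplicit false
set_option maxRecDepth 20000

namespace Cfsg.Agent.FGS77.Thompson

open Matrix

theorem isCommSL_cert {F : Type*} [Field F] {n : ℕ} {G : Matrix (Fin n) (Fin n) F}
    (a b La Ua Lb Ub : Matrix (Fin n) (Fin n) F) (ha : a = La * Ua) (hb : b = Lb * Ub)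
    (hLa : Matrix.of (fun i j => if i < j then La i j else 0) = (0 : Matrix (Fin n) (Fin n) F))
    (hUa : Matrix.of (fun i j => if j < i then Ua i j else 0) = (0 : Matrix (Fin n) (Fin n) F))
    (hLb : Matrix.of (fun i j => if i < j then Lb i j else 0) = (0 : Matrix (Fin n) (Fin n) F))
    (hUb : Matrix.of (fun i j => if j < i then Ub i j else 0) = (0 : Matrix (Fin n) (Fin n) F))
    (da : (∏ i, La i i) * ∏ i, Ua i i = 1) (db : (∏ i, Lb i i) * ∏ i, Ub i i = 1)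
    (h : a * b = G * (b * a)) : IsCommSL G := by
  replace hLa : ∀ i j : Fin n, i < j → La i j = 0 := fun i j hij => by
    simpa [hij] using congrFun (congrFun hLa i) j
  replace hUa : ∀ i j : Fin n, j < i → Ua i j = 0 := fun i j hij => by
    simpa [hij] using congrFun (congrFun hUa i) j
  replace hLb : ∀ i j : Fin n, i < j → Lb i j = 0 := fun i j hij => by
    simpa [hij] using congrFun (congrFun hLb i) j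
  replace hUb : ∀ i j : Fin n, j < i → Ub i j = 0 := fun i j hij => by
    simpa [hij] using congrFun (congrFun hUb i) j
  have hda : a.det = 1 := by
    rw [ha, Matrix.det_mul, Matrix.det_of_isLowerTriangular La fun i j hij => hLa i j hij,
      Matrix.det_of_isUpperTriangular fun i j hij => hUa i j hij, da]
  have hdb : b.det = 1 := by
    rw [hb, Matrix.det_mul, Matrix.det_of_isLowerTriangular Lb fun i j hij => hLb i j hij,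
      Matrix.det_of_isUpperTriangular fun i j hij => hUb i j hij, db]
  let A : Matrix.SpecialLinearGroup (Fin n) F := ⟨a, hda⟩
  let B : Matrix.SpecialLinearGroup (Fin n) F := ⟨b, hdb⟩
  refine ⟨A, B, ?_⟩
  rw [Matrix.SpecialLinearGroup.coe_mul, Matrix.SpecialLinearGroup.coe_mul,
    Matrix.SpecialLinearGroup.coe_mul]
  change _ = a * b * (A⁻¹).1 * (B⁻¹).1
  have hA : a * (A⁻¹).1 = 1 := congrArg Subtype.val (mul_inv_cancel A)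
  have hB : b * (B⁻¹).1 = 1 := congrArg Subtype.val (mul_inv_cancel B)
  rw [h, Matrix.mul_assoc G, Matrix.mul_assoc b a, hA, Matrix.mul_one, Matrix.mul_assoc, hB,
    Matrix.mul_one]

theorem small_2_c2 :
    IsCommSL (!![0, 1; 1, 1] : Matrix (Fin 2) (Fin 2) (ZMod 2)) :=
  isCommSL_cert (F := ZMod 2) (n := 2) (!![1, 0; 1, 1] : Matrix (Fin 2) (Fin 2) (ZMod 2))
    !![1, 1; 0, 1]
    !![1, 0; 1, 1] !![1, 0; 0, 1]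
    !![1, 0; 0, 1] !![1, 1; 0, 1]
    (by decide +kernel) (by decide +kernel) (by decide +kernel) (by decide +kernel) (by decide +kernel)
    (by decide +kernel) (by decide +kernel) (by decide +kernel) (by decide +kernel)

theorem small_2_T :
    IsCommSL (!![1, 0, 0; 1, 1, 0; 0, 0, 1] : Matrix (Fin 3) (Fin 3) (ZMod 2)) :=
  isCommSL_cert (F := ZMod 2) (n := 3) (!![1, 0, 0; 1, 1, 1; 1, 0, 1] : Matrix (Fin 3) (Fin 3) (ZMod 2))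
    !![1, 0, 0; 0, 1, 1; 0, 0, 1]
    !![1, 0, 0; 1, 1, 0; 1, 0, 1] !![1, 0, 0; 0, 1, 1; 0, 0, 1]
    !![1, 0, 0; 0, 1, 0; 0, 0, 1] !![1, 0, 0; 0, 1, 1; 0, 0, 1]
    (by decide +kernel) (by decide +kernel) (by decide +kernel) (by decide +kernel) (by decide +kernel)
    (by decide +kernel) (by decide +kernel) (by decide +kernel) (by decide +kernel)

theorem small_2_22 :
    IsCommSL (!![1, 0, 0, 0; 1, 1, 0, 0; 0, 0, 1, 0; 0, 0, 1, 1] : Matrix (Fin 4) (Fin 4) (ZMod 2)) :=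
  isCommSL_cert (F := ZMod 2) (n := 4) (!![1, 1, 0, 0; 1, 0, 0, 1; 1, 1, 1, 1; 0, 0, 1, 0] : Matrix (Fin 4) (Fin 4) (ZMod 2))
    !![1, 0, 0, 1; 0, 1, 1, 1; 0, 0, 1, 0; 0, 0, 1, 1]
    !![1, 0, 0, 0; 1, 1, 0, 0; 1, 0, 1, 0; 0, 0, 1, 1] !![1, 1, 0, 0; 0, 1, 0, 1; 0, 0, 1, 1; 0, 0, 0, 1]
    !![1, 0, 0, 0; 0, 1, 0, 0; 0, 0, 1, 0; 0, 0, 1, 1] !![1, 0, 0, 1; 0, 1, 1, 1; 0, 0, 1, 0; 0, 0, 0, 1]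
    (by decide +kernel) (by decide +kernel) (by decide +kernel) (by decide +kernel) (by decide +kernel)
    (by decide +kernel) (by decide +kernel) (by decide +kernel) (by decide +kernel)

theorem small_2_222 :
    IsCommSL (!![1, 0, 0, 0, 0, 0; 1, 1, 0, 0, 0, 0; 0, 0, 1, 0, 0, 0; 0, 0, 1, 1, 0, 0; 0, 0, 0, 0, 1, 0; 0, 0, 0, 0, 1, 1] : Matrix (Fin 6) (Fin 6) (ZMod 2)) :=
  isCommSL_cert (F := ZMod 2) (n := 6) (!![1, 0, 1, 1, 0, 0; 1, 1, 0, 0, 1, 0; 1, 1, 1, 1, 0, 0; 0, 1, 0, 1, 1, 1; 1, 1, 0, 1, 1, 1; 1, 1, 1, 1, 1, 1] : Matrix (Fin 6) (Fin 6) (ZMod 2))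
    !![1, 0, 0, 0, 0, 1; 0, 1, 0, 1, 0, 0; 1, 0, 1, 1, 0, 0; 0, 1, 1, 1, 1, 0; 0, 0, 0, 0, 1, 1; 1, 0, 0, 0, 0, 0]
    !![1, 0, 0, 0, 0, 0; 1, 1, 0, 0, 0, 0; 1, 1, 1, 0, 0, 0; 0, 1, 1, 1, 0, 0; 1, 1, 0, 1, 1, 0; 1, 1, 1, 0, 1, 1] !![1, 0, 1, 1, 0, 0; 0, 1, 1, 1, 1, 0; 0, 0, 1, 1, 1, 0; 0, 0, 0, 1, 1, 1; 0, 0, 0, 0, 1, 0; 0, 0, 0, 0, 0, 1]
    !![1, 0, 0, 0, 0, 0; 0, 1, 0, 0, 0, 0; 1, 0, 1, 0, 0, 0; 0, 1, 1, 1, 0, 0; 0, 0, 0, 0, 1, 0; 1, 0, 0, 0, 0, 1] !![1, 0, 0, 0, 0, 1; 0, 1, 0, 1, 0, 0; 0, 0, 1, 1, 0, 1; 0, 0, 0, 1, 1, 1; 0, 0, 0, 0, 1, 1; 0, 0, 0, 0, 0, 1]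
    (by decide +kernel) (by decide +kernel) (by decide +kernel) (by decide +kernel) (by decide +kernel)
    (by decide +kernel) (by decide +kernel) (by decide +kernel) (by decide +kernel)

theorem small_2_23 :
    IsCommSL (!![1, 0, 0, 0, 0; 1, 1, 0, 0, 0; 0, 0, 1, 0, 0; 0, 0, 1, 1, 0; 0, 0, 0, 1, 1] : Matrix (Fin 5) (Fin 5) (ZMod 2)) :=
  isCommSL_cert (F := ZMod 2) (n := 5) (!![1, 0, 0, 0, 0; 0, 1, 0, 1, 0; 1, 0, 1, 0, 0; 1, 1, 0, 0, 0; 1, 0, 1, 1, 1] : Matrix (Fin 5) (Fin 5) (ZMod 2))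
    !![1, 0, 0, 0, 0; 0, 1, 1, 1, 0; 1, 0, 1, 0, 0; 1, 1, 0, 0, 0; 0, 0, 1, 0, 1]
    !![1, 0, 0, 0, 0; 0, 1, 0, 0, 0; 1, 0, 1, 0, 0; 1, 1, 0, 1, 0; 1, 0, 1, 1, 1] !![1, 0, 0, 0, 0; 0, 1, 0, 1, 0; 0, 0, 1, 0, 0; 0, 0, 0, 1, 0; 0, 0, 0, 0, 1]
    !![1, 0, 0, 0, 0; 0, 1, 0, 0, 0; 1, 0, 1, 0, 0; 1, 1, 1, 1, 0; 0, 0, 1, 0, 1] !![1, 0, 0, 0, 0; 0, 1, 1, 1, 0; 0, 0, 1, 0, 0; 0, 0, 0, 1, 0; 0, 0, 0, 0, 1]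
    (by decide +kernel) (by decide +kernel) (by decide +kernel) (by decide +kernel) (by decide +kernel)
    (by decide +kernel) (by decide +kernel) (by decide +kernel) (by decide +kernel)

theorem small_2_24 :
    IsCommSL (!![1, 0, 0, 0, 0, 0; 1, 1, 0, 0, 0, 0; 0, 0, 1, 0, 0, 0; 0, 0, 1, 1, 0, 0; 0, 0, 0, 1, 1, 0; 0, 0, 0, 0, 1, 1] : Matrix (Fin 6) (Fin 6) (ZMod 2)) :=
  isCommSL_cert (F := ZMod 2) (n := 6) (!![1, 0, 1, 1, 1, 1; 1, 1, 1, 1, 0, 0; 1, 0, 0, 0, 1, 1; 0, 1, 0, 1, 1, 1; 0, 0, 0, 0, 1, 0; 1, 0, 1, 0, 0, 0] : Matrix (Fin 6) (Fin 6) (ZMod 2))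
    !![1, 0, 0, 0, 0, 1; 1, 1, 1, 1, 0, 1; 1, 1, 0, 0, 0, 0; 1, 0, 0, 1, 0, 0; 0, 0, 1, 1, 1, 0; 1, 1, 1, 1, 0, 0]
    !![1, 0, 0, 0, 0, 0; 1, 1, 0, 0, 0, 0; 1, 0, 1, 0, 0, 0; 0, 1, 0, 1, 0, 0; 0, 0, 0, 0, 1, 0; 1, 0, 0, 1, 1, 1] !![1, 0, 1, 1, 1, 1; 0, 1, 0, 0, 1, 1; 0, 0, 1, 1, 0, 0; 0, 0, 0, 1, 0, 0; 0, 0, 0, 0, 1, 0; 0, 0, 0, 0, 0, 1]
    !![1, 0, 0, 0, 0, 0; 1, 1, 0, 0, 0, 0; 1, 1, 1, 0, 0, 0; 1, 0, 0, 1, 0, 0; 0, 0, 1, 0, 1, 0; 1, 1, 0, 0, 0, 1] !![1, 0, 0, 0, 0, 1; 0, 1, 1, 1, 0, 0; 0, 0, 1, 1, 0, 1; 0, 0, 0, 1, 0, 1; 0, 0, 0, 0, 1, 1; 0, 0, 0, 0, 0, 1]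
    (by decide +kernel) (by decide +kernel) (by decide +kernel) (by decide +kernel) (by decide +kernel)
    (by decide +kernel) (by decide +kernel) (by decide +kernel) (by decide +kernel)

theorem small_3_c2 :
    IsCommSL (!![0, 2; 1, 0] : Matrix (Fin 2) (Fin 2) (ZMod 3)) :=
  isCommSL_cert (F := ZMod 3) (n := 2) (!![2, 2; 1, 0] : Matrix (Fin 2) (Fin 2) (ZMod 3))
    !![2, 1; 2, 0]
    !![1, 0; 2, 1] !![2, 2; 0, 2]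
    !![1, 0; 1, 1] !![2, 1; 0, 2]
    (by decide +kernel) (by decide +kernel) (by decide +kernel) (by decide +kernel) (by decide +kernel)
    (by decide +kernel) (by decide +kernel) (by decide +kernel) (by decide +kernel)

theorem small_3_T :
    IsCommSL (!![1, 0, 0; 1, 1, 0; 0, 0, 1] : Matrix (Fin 3) (Fin 3) (ZMod 3)) :=
  isCommSL_cert (F := ZMod 3) (n := 3) (!![2, 0, 1; 2, 2, 1; 1, 0, 0] : Matrix (Fin 3) (Fin 3) (ZMod 3))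
    !![2, 0, 1; 2, 2, 2; 1, 0, 0]
    !![1, 0, 0; 1, 1, 0; 2, 0, 1] !![2, 0, 1; 0, 2, 0; 0, 0, 1]
    !![1, 0, 0; 1, 1, 0; 2, 0, 1] !![2, 0, 1; 0, 2, 1; 0, 0, 1]
    (by decide +kernel) (by decide +kernel) (by decide +kernel) (by decide +kernel) (by decide +kernel)
    (by decide +kernel) (by decide +kernel) (by decide +kernel) (by decide +kernel)

theorem small_3_m211 :
    IsCommSL (!![2, 0, 0, 0; 1, 2, 0, 0; 0, 0, 2, 0; 0, 0, 0, 2] : Matrix (Fin 4) (Fin 4) (ZMod 3)) :=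
  isCommSL_cert (F := ZMod 3) (n := 4) (!![2, 1, 2, 0; 2, 0, 1, 2; 2, 1, 0, 0; 0, 1, 2, 2] : Matrix (Fin 4) (Fin 4) (ZMod 3))
    !![1, 2, 2, 0; 1, 1, 1, 2; 1, 2, 0, 0; 2, 1, 1, 2]
    !![1, 0, 0, 0; 1, 1, 0, 0; 1, 0, 1, 0; 0, 2, 1, 1] !![2, 1, 2, 0; 0, 2, 2, 2; 0, 0, 1, 0; 0, 0, 0, 1]
    !![1, 0, 0, 0; 1, 1, 0, 0; 1, 0, 1, 0; 2, 0, 0, 1] !![1, 2, 2, 0; 0, 2, 2, 2; 0, 0, 1, 0; 0, 0, 0, 2]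
    (by decide +kernel) (by decide +kernel) (by decide +kernel) (by decide +kernel) (by decide +kernel)
    (by decide +kernel) (by decide +kernel) (by decide +kernel) (by decide +kernel)

theorem small_3_222 :
    IsCommSL (!![1, 0, 0, 0, 0, 0; 1, 1, 0, 0, 0, 0; 0, 0, 1, 0, 0, 0; 0, 0, 1, 1, 0, 0; 0, 0, 0, 0, 1, 0; 0, 0, 0, 0, 1, 1] : Matrix (Fin 6) (Fin 6) (ZMod 3)) :=
  isCommSL_cert (F := ZMod 3) (n := 6) (!![1, 0, 1, 2, 1, 1; 1, 1, 0, 1, 1, 0; 2, 2, 2, 1, 1, 1; 2, 0, 0, 0, 2, 2; 1, 2, 1, 2, 2, 2; 0, 1, 0, 1, 2, 2] : Matrix (Fin 6) (Fin 6) (ZMod 3))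
    !![1, 2, 2, 0, 2, 1; 2, 2, 2, 0, 0, 2; 2, 0, 1, 0, 2, 0; 1, 2, 2, 2, 2, 1; 1, 1, 1, 1, 2, 1; 0, 1, 2, 0, 1, 2]
    !![1, 0, 0, 0, 0, 0; 1, 1, 0, 0, 0, 0; 2, 2, 1, 0, 0, 0; 2, 0, 2, 1, 0, 0; 1, 2, 1, 0, 1, 0; 0, 1, 2, 1, 1, 1] !![1, 0, 1, 2, 1, 1; 0, 1, 2, 2, 0, 2; 0, 0, 2, 2, 2, 1; 0, 0, 0, 1, 2, 1; 0, 0, 0, 0, 2, 2; 0, 0, 0, 0, 0, 1]
    !![1, 0, 0, 0, 0, 0; 2, 1, 0, 0, 0, 0; 2, 2, 1, 0, 0, 0; 1, 0, 0, 1, 0, 0; 1, 2, 0, 2, 1, 0; 0, 1, 1, 0, 1, 1] !![1, 2, 2, 0, 2, 1; 0, 1, 1, 0, 2, 0; 0, 0, 1, 0, 0, 1; 0, 0, 0, 2, 0, 0; 0, 0, 0, 0, 2, 0; 0, 0, 0, 0, 0, 1]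
    (by decide +kernel) (by decide +kernel) (by decide +kernel) (by decide +kernel) (by decide +kernel)
    (by decide +kernel) (by decide +kernel) (by decide +kernel) (by decide +kernel)

theorem small_3_m222 :
    IsCommSL (!![2, 0, 0, 0, 0, 0; 1, 2, 0, 0, 0, 0; 0, 0, 2, 0, 0, 0; 0, 0, 1, 2, 0, 0; 0, 0, 0, 0, 2, 0; 0, 0, 0, 0, 1, 2] : Matrix (Fin 6) (Fin 6) (ZMod 3)) :=
  isCommSL_cert (F := ZMod 3) (n := 6) (!![2, 2, 1, 2, 0, 0; 0, 2, 0, 1, 0, 1; 2, 1, 0, 1, 1, 0; 1, 2, 1, 2, 2, 1; 1, 0, 2, 2, 2, 1; 2, 0, 0, 1, 0, 2] : Matrix (Fin 6) (Fin 6) (ZMod 3))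
    !![1, 0, 2, 0, 2, 0; 0, 1, 2, 2, 2, 2; 1, 0, 0, 2, 2, 1; 2, 0, 1, 2, 1, 1; 0, 2, 1, 0, 0, 0; 0, 0, 0, 1, 0, 0]
    !![1, 0, 0, 0, 0, 0; 0, 1, 0, 0, 0, 0; 1, 1, 1, 0, 0, 0; 2, 2, 1, 1, 0, 0; 2, 1, 0, 0, 1, 0; 1, 2, 1, 2, 0, 1] !![2, 2, 1, 2, 0, 0; 0, 2, 0, 1, 0, 1; 0, 0, 2, 1, 1, 2; 0, 0, 0, 1, 1, 0; 0, 0, 0, 0, 2, 0; 0, 0, 0, 0, 0, 1]
    !![1, 0, 0, 0, 0, 0; 0, 1, 0, 0, 0, 0; 1, 0, 1, 0, 0, 0; 2, 0, 0, 1, 0, 0; 0, 2, 0, 1, 1, 0; 0, 0, 0, 2, 0, 1] !![1, 0, 2, 0, 2, 0; 0, 1, 2, 2, 2, 2; 0, 0, 1, 2, 0, 1; 0, 0, 0, 2, 0, 1; 0, 0, 0, 0, 2, 1; 0, 0, 0, 0, 0, 1]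
    (by decide +kernel) (by decide +kernel) (by decide +kernel) (by decide +kernel) (by decide +kernel)
    (by decide +kernel) (by decide +kernel) (by decide +kernel) (by decide +kernel)

theorem small_3_m233 :
    IsCommSL (!![2, 0, 0, 0, 0, 0, 0, 0; 1, 2, 0, 0, 0, 0, 0, 0; 0, 0, 2, 0, 0, 0, 0, 0; 0, 0, 1, 2, 0, 0, 0, 0; 0, 0, 0, 1, 2, 0, 0, 0; 0, 0, 0, 0, 0, 2, 0, 0; 0, 0, 0, 0, 0, 1, 2, 0; 0, 0, 0, 0, 0, 0, 1, 2] : Matrix (Fin 8) (Fin 8) (ZMod 3)) :=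
  isCommSL_cert (F := ZMod 3) (n := 8) (!![2, 0, 1, 0, 2, 1, 0, 2; 0, 2, 1, 2, 1, 2, 1, 1; 0, 2, 0, 1, 2, 0, 0, 1; 2, 1, 2, 1, 2, 0, 2, 2; 2, 0, 2, 2, 2, 2, 2, 0; 1, 2, 0, 2, 0, 1, 1, 0; 2, 2, 2, 2, 1, 1, 2, 2; 0, 1, 1, 1, 1, 0, 0, 1] : Matrix (Fin 8) (Fin 8) (ZMod 3))
    !![1, 0, 0, 0, 1, 0, 0, 0; 1, 2, 1, 0, 0, 2, 1, 0; 2, 1, 0, 2, 0, 0, 2, 0; 2, 0, 2, 0, 1, 2, 0, 0; 0, 2, 2, 0, 2, 1, 1, 2; 0, 0, 1, 0, 1, 2, 2, 1; 0, 0, 1, 0, 1, 2, 0, 2; 2, 2, 2, 1, 2, 1, 2, 1]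
    !![1, 0, 0, 0, 0, 0, 0, 0; 0, 1, 0, 0, 0, 0, 0, 0; 0, 1, 1, 0, 0, 0, 0, 0; 1, 2, 1, 1, 0, 0, 0, 0; 1, 0, 2, 1, 1, 0, 0, 0; 2, 1, 0, 0, 1, 1, 0, 0; 1, 1, 0, 0, 1, 2, 1, 0; 0, 2, 1, 1, 1, 2, 1, 1] !![2, 0, 1, 0, 2, 1, 0, 2; 0, 2, 1, 2, 1, 2, 1, 1; 0, 0, 2, 2, 1, 1, 2, 0; 0, 0, 0, 1, 0, 0, 1, 1; 0, 0, 0, 0, 1, 2, 0, 0; 0, 0, 0, 0, 0, 1, 0, 1; 0, 0, 0, 0, 0, 0, 1, 0; 0, 0, 0, 0, 0, 0, 0, 2]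
    !![1, 0, 0, 0, 0, 0, 0, 0; 1, 1, 0, 0, 0, 0, 0, 0; 2, 2, 1, 0, 0, 0, 0, 0; 2, 0, 2, 1, 0, 0, 0, 0; 0, 1, 1, 2, 1, 0, 0, 0; 0, 0, 1, 2, 0, 1, 0, 0; 0, 0, 1, 2, 0, 1, 1, 0; 2, 1, 1, 1, 1, 1, 2, 1] !![1, 0, 0, 0, 1, 0, 0, 0; 0, 2, 1, 0, 2, 2, 1, 0; 0, 0, 1, 2, 0, 2, 0, 0; 0, 0, 0, 2, 2, 1, 0, 0; 0, 0, 0, 0, 2, 1, 0, 2; 0, 0, 0, 0, 0, 1, 2, 1; 0, 0, 0, 0, 0, 0, 1, 1; 0, 0, 0, 0, 0, 0, 0, 2]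
    (by decide +kernel) (by decide +kernel) (by decide +kernel) (by decide +kernel) (by decide +kernel)
    (by decide +kernel) (by decide +kernel) (by decide +kernel) (by decide +kernel)

end Cfsg.Agent.FGS77.Thompson
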