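import Cfsg.Agent.FGS77.Thompson.Blocks
import Cfsg.Agent.FGS77.Thompson.Singer
import Cfsg.Agent.FGS77.Thompson.Small
import Cfsg.Agent.FGS77.Thompson.Big

/-! Facts about blocks used over two and three elements. -/

set_option autoImplicit false

namespace Cfsg.Agent.FGS77.Thompson

open Matrix

variable {F : Type} [Field F]

/-- `c + shift`. -/
def jor (c : F) (n : ℕ) : Matrix (Fin n) (Fin n) F := c • 1 + KS58.shift F n

theorem hess_jor (c : F) (n : ℕ) : Hess (jor c n) := by
  intro i j hij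
  have hne : i ≠ j := fun h => by subst h; omega
  simp [jor, KS58.shift, Matrix.one_apply_ne hne]

theorem det_jor (c : F) (n : ℕ) : (jor c n).det = c ^ n := by
  rw [Matrix.det_of_isLowerTriangular _ fun i j hij => ?_]
  · simp [jor, KS58.shift]
  · have hlt : i < j := hij
    simp [jor, KS58.shift, Matrix.one_apply_ne hlt.ne]
    omega

theorem Blk.sim_jor (b : Blk F) (c : F) (h : (b.M - c • 1) ^ b.n = 0) :
    Sim b.M (jor c b.n) := by
  rcases Nat.eq_zero_or_pos b.n with hn | hn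
  · exact ⟨Equiv.refl _, 1, Matrix.ext fun i => absurd i.isLt (by omega)⟩
  set N := b.M - c • (1 : Matrix (Fin b.n) (Fin b.n) F) with hN
  have hv : (N ^ (b.n - 1)) *ᵥ Pi.single ⟨0, hn⟩ 1 ≠ 0 := by
    intro h0
    have key : Polynomial.aeval b.M ((Polynomial.X - Polynomial.C c) ^ (b.n - 1)) = N ^ (b.n - 1) := by
      rw [map_pow, map_sub, Polynomial.aeval_X, Polynomial.aeval_C, Algebra.algebraMap_eq_smul_one]
    have h1 : N ^ (b.n - 1) = 0 := by
      refine Matrix.ext_of_mulVec_single fun i => ?_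
      rw [← b.shifted.pow_apply hn i.val i.isLt, Matrix.mulVec_mulVec, Matrix.zero_mulVec]
      have hc : Commute (N ^ (b.n - 1)) (b.M ^ i.val) :=
        (((Commute.refl b.M).sub_left ((Commute.one_left b.M).smul_left c)).pow_pow _ _)
      rw [hc.eq, ← Matrix.mulVec_mulVec, h0, Matrix.mulVec_zero]
    refine absurd (b.shifted.eq_zero_of_aeval _ ?_ (key.trans h1))
      (pow_ne_zero _ (Polynomial.X_sub_C_ne_zero c))
    rw [Polynomial.degree_pow, Polynomial.degree_X_sub_C]
    simp only [nsmul_one]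
    exact_mod_cast Nat.sub_lt hn one_pos
  obtain ⟨Q, hQ⟩ := KS58.isUnit_krylov h hv
  have h2 := KS58.mul_krylov h (Pi.single ⟨0, hn⟩ 1)
  rw [← hQ] at h2
  refine ⟨Equiv.refl _, Q, ?_⟩
  simp only [Matrix.reindex_apply, Equiv.refl_symm, Equiv.coe_refl, Matrix.submatrix_id_id, jor]
  rw [Matrix.mul_add, Matrix.mul_smul, Matrix.mul_one, Matrix.add_mul, Matrix.smul_mul,
    Units.mul_inv, ← h2, Matrix.mul_assoc, Units.mul_inv, Matrix.mul_one, hN]
  abel

theorem Blk.sim_jor' (b : Blk F) (c : F) {n : ℕ} (hn : b.n = n) (h : (b.M - c • 1) ^ b.n = 0) :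
    Sim b.M (jor c n) := by
  subst hn
  exact b.sim_jor c h

theorem sim_pair (a b : Blk F) : Sim (bd [a, b]) (fromBlocks a.M 0 0 b.M) :=
  (sim_cons a [b]).trans ((Sim.refl a.M).blocks
    ((sim_cons b []).trans ((Sim.blocks_comm _ _).trans (sim_nil_blocks _ _))))

theorem sim_single (a : Blk F) : Sim (bd [a]) a.M :=
  (sim_cons a []).trans ((Sim.blocks_comm _ _).trans (sim_nil_blocks _ _))

theorem IsCommSL.append {L K : List (Blk F)} (hL : IsCommSL (bd L)) (hK : IsCommSL (bd K)) :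
    IsCommSL (bd (L ++ K)) :=
  (hL.blocks hK).sim (sim_append L K)

theorem IsCommSL.perm {L K : List (Blk F)} (hL : IsCommSL (bd K)) (h : L.Perm K) :
    IsCommSL (bd L) :=
  hL.sim (sim_perm h)

theorem isCommSL_nil : IsCommSL (bd ([] : List (Blk F))) := isCommSL_one

theorem isCommSL_of_good : ∀ L : List (Blk F), (∀ b ∈ L, IsCommSL b.M) → IsCommSL (bd L)
  | [], _ => isCommSL_nil
  | b :: L, h => IsCommSL.append (L := [b]) ((h b List.mem_cons_self).sim (sim_single b))
      (isCommSL_of_good L fun x hx => h x (List.mem_cons_of_mem _ hx))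

theorem Blk.det_ne_zero {L : List (Blk F)} (h : (bd L).det = 1) {b : Blk F} (hb : b ∈ L) :
    b.M.det ≠ 0 := by
  rw [det_bd] at h
  intro h0
  rw [List.prod_eq_zero (h0 ▸ List.mem_map_of_mem (f := fun x : Blk F => x.M.det) hb)] at h
  exact zero_ne_one h

theorem Shifted.eq_two {M : Matrix (Fin 2) (Fin 2) F} (h : Shifted M) :
    M = !![0, -M.det; 1, M 1 1] := by
  have h00 : M 0 0 = 0 := by simpa using h 0 0 (by simp)
  have h10 : M 1 0 = 1 := by simpa using h 1 0 (by simp)
  ext i j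
  fin_cases i <;> fin_cases j <;> simp [h00, h10, Matrix.det_fin_two]

theorem Sim.size_eq {ι κ : Type*} [Fintype ι] [DecidableEq ι] [Fintype κ] [DecidableEq κ]
    {G : Matrix ι ι F} {H : Matrix κ κ F} (h : Sim G H) : Fintype.card ι = Fintype.card κ :=
  let ⟨e, _⟩ := h; (Fintype.card_congr e).symm

theorem exists_merge {a b : ℕ} {A : Matrix (Fin a) (Fin a) F} {B : Matrix (Fin b) (Fin b) F}
    (ha : 0 < a) (hb : 0 < b) (hA : Shifted A) (hB : Shifted B) (c : F) (k : ℕ)
    (hAc : (A - c • 1) ^ k = 0) (hBc : IsUnit (B - c • 1)) :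
    ∃ H : Matrix (Fin (a + b)) (Fin (a + b)) F, Shifted H ∧ Sim (fromBlocks A 0 0 B) H := by
  refine exists_shifted_merge hb ha hA hB ((Polynomial.X - Polynomial.C c) ^ k) ?_ ?_
  · rw [map_pow, map_sub, Polynomial.aeval_X, Polynomial.aeval_C, Algebra.algebraMap_eq_smul_one,
      hAc]
  · rw [map_pow, map_sub, Polynomial.aeval_X, Polynomial.aeval_C, Algebra.algebraMap_eq_smul_one]
    exact hBc.pow k

theorem jor_succ (c : F) (n : ℕ) : ∃ w : Matrix (Fin 1) (Fin n) F,
    jor c (n + 1) = Matrix.reindex finSumFinEquiv finSumFinEquiv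
      (fromBlocks (jor c n) 0 w (c • (1 : Matrix (Fin 1) (Fin 1) F))) := by
  refine ⟨Matrix.of fun _ j => if n = (j : ℕ) + 1 then 1 else 0, ?_⟩
  ext i j
  obtain ⟨i, rfl⟩ := (finSumFinEquiv : Fin n ⊕ Fin 1 ≃ Fin (n + 1)).surjective i
  obtain ⟨j, rfl⟩ := (finSumFinEquiv : Fin n ⊕ Fin 1 ≃ Fin (n + 1)).surjective j
  rw [Matrix.reindex_apply, Matrix.submatrix_apply, Equiv.symm_apply_apply, Equiv.symm_apply_apply]
  rcases i with i | i <;> rcases j with j | j <;>
    simp [jor, KS58.shift, Matrix.one_apply, Fin.ext_iff]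
  · have := i.isLt
    rw [if_neg (by omega), if_neg (by omega), add_zero]
  · have := j.isLt
    intro hnj
    omega

end Cfsg.Agent.FGS77.Thompson
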