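import Mathlib

/-! Maps assembled from a hyperplane `ker ψ` and a vector `x` with `ψ x = 1`. -/

set_option autoImplicit false

namespace Cfsg.Agent.FGS77.Thompson

variable {F V : Type*} [Field F] [AddCommGroup V] [Module F V]
variable (ψ : Module.Dual F V) (x : V) (hx : ψ x = 1)

/-- Projection to `ker ψ` along `x`. -/
def proj : V →ₗ[F] LinearMap.ker ψ :=
  (LinearMap.id - ψ.smulRight x).codRestrict _ fun v => by simp [hx]

@[simp] theorem coe_proj (v : V) : (proj ψ x hx v : V) = v - ψ v • x := rfl

@[simp] theorem proj_coe (h : LinearMap.ker ψ) : proj ψ x hx h = h := by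
  ext; simp [LinearMap.mem_ker.1 h.2]

@[simp] theorem proj_self : proj ψ x hx x = 0 := by ext; simp [hx]

/-- Lower triangular extension `[[L, 0], [w, 1]]`. -/
def lext (L : Module.End F (LinearMap.ker ψ)) (w : LinearMap.ker ψ →ₗ[F] F) : Module.End F V :=
  (LinearMap.ker ψ).subtype ∘ₗ L ∘ₗ proj ψ x hx + (w ∘ₗ proj ψ x hx + ψ).smulRight x

/-- Upper triangular extension `[[U, u], [0, 1]]`. -/
def uext (U : Module.End F (LinearMap.ker ψ)) (u : LinearMap.ker ψ) : Module.End F V :=
  (LinearMap.ker ψ).subtype ∘ₗ U ∘ₗ proj ψ x hx + ψ.smulRight ((u : V) + x)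

variable {ψ x}

theorem lext_apply (L : Module.End F (LinearMap.ker ψ)) (w : LinearMap.ker ψ →ₗ[F] F) (v : V) :
    lext ψ x hx L w v = (L (proj ψ x hx v) : V) + (w (proj ψ x hx v) + ψ v) • x := by simp [lext]

theorem uext_apply (U : Module.End F (LinearMap.ker ψ)) (u : LinearMap.ker ψ) (v : V) :
    uext ψ x hx U u v = (U (proj ψ x hx v) : V) + ψ v • ((u : V) + x) := by simp [uext]

/-- The compression of `G` to `ker ψ`. -/
def comp (G : Module.End F V) : Module.End F (LinearMap.ker ψ) :=
  proj ψ x hx ∘ₗ G ∘ₗ (LinearMap.ker ψ).subtype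

theorem coe_comp (G : Module.End F V) (h : LinearMap.ker ψ) :
    (comp hx G h : V) = G h - ψ (G h) • x := by simp [comp]

theorem proj_add (h : LinearMap.ker ψ) (t : F) : proj ψ x hx ((h : V) + t • x) = h := by
  rw [map_add, map_smul, proj_coe, proj_self, smul_zero, add_zero]

include hx in
theorem dual_add (h : LinearMap.ker ψ) (t : F) : ψ ((h : V) + t • x) = t := by
  simp [LinearMap.mem_ker.1 h.2, hx]

theorem decomp (v : V) : v = (proj ψ x hx v : V) + ψ v • x := by simp

theorem lext_sub_one_pow (L : Module.End F (LinearMap.ker ψ)) (w : LinearMap.ker ψ →ₗ[F] F)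
    (v : V) : ∀ j : ℕ, ((lext ψ x hx L w - 1) ^ (j + 1)) v =
      (((L - 1) ^ (j + 1)) (proj ψ x hx v) : V) + w (((L - 1) ^ j) (proj ψ x hx v)) • x := by
  intro j
  induction j with
  | zero =>
    simp [lext_apply]
    module
  | succ j ih =>
    rw [pow_succ' _ (j + 1), Module.End.mul_apply, ih, LinearMap.sub_apply, Module.End.one_apply,
      lext_apply, proj_add, dual_add hx, pow_succ' (L - 1) (j + 1), Module.End.mul_apply,
      LinearMap.sub_apply (g := (1 : Module.End F (LinearMap.ker ψ))), Module.End.one_apply,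
      Submodule.coe_sub]
    module

theorem uext_sub_one_pow (U : Module.End F (LinearMap.ker ψ)) (u : LinearMap.ker ψ) (v : V) :
    ∀ j : ℕ, ((uext ψ x hx U u - 1) ^ (j + 1)) v =
      ((((U - 1) ^ (j + 1)) (proj ψ x hx v) + ψ v • ((U - 1) ^ j) u : LinearMap.ker ψ) : V) := by
  intro j
  induction j with
  | zero =>
    simp [uext_apply]
    module
  | succ j ih =>
    rw [pow_succ' _ (j + 1), Module.End.mul_apply, ih, LinearMap.sub_apply, Module.End.one_apply,
      uext_apply, proj_coe, LinearMap.mem_ker.1 (Subtype.prop _), zero_smul, add_zero,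
      ← Submodule.coe_sub, pow_succ' (U - 1) (j + 1), Module.End.mul_apply]
    congr 1
    rw [pow_succ' (U - 1) j]
    simp only [Module.End.mul_apply, LinearMap.sub_apply, Module.End.one_apply, map_add, map_smul]
    module

/-- The product of a lower and an upper extension. -/
theorem lext_mul_uext (G : Module.End F V) (L U : Module.End F (LinearMap.ker ψ))
    (w : LinearMap.ker ψ →ₗ[F] F) (u : LinearMap.ker ψ) (hX : L * U = comp hx G)
    (hw : ∀ h, w (U h) = ψ (G h)) (hu : L u = proj ψ x hx (G x))
    (hs : ψ (G x) = w u + 1) : G = lext ψ x hx L w * uext ψ x hx U u := by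
  refine LinearMap.ext fun v => ?_
  have h1 : uext ψ x hx U u v =
      ((U (proj ψ x hx v) + ψ v • u : LinearMap.ker ψ) : V) + ψ v • x := by
    rw [uext_apply]; simp [add_assoc, smul_add]
  rw [Module.End.mul_apply, h1, lext_apply, proj_add, dual_add hx, map_add, map_smul, map_add,
    map_smul, hw, hu]
  have h2 : L (U (proj ψ x hx v)) = comp hx G (proj ψ x hx v) := by rw [← hX]; rfl
  rw [h2, Submodule.coe_add, Submodule.coe_smul, coe_comp, coe_proj ψ x hx (G x)]
  conv_lhs => rw [decomp hx v, map_add, map_smul]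
  rw [smul_eq_mul, hs]
  module

variable [FiniteDimensional F V]

theorem det_lext (L : Module.End F (LinearMap.ker ψ)) (w : LinearMap.ker ψ →ₗ[F] F) :
    LinearMap.det (lext ψ x hx L w) = LinearMap.det L := by
  let e : V ≃ₗ[F] (LinearMap.ker ψ) × F :=
    { toLinearMap := (proj ψ x hx).prod ψ
      invFun := fun p => (p.1 : V) + p.2 • x
      left_inv := fun v => (decomp hx v).symm
      right_inv := fun p => Prod.ext (proj_add hx p.1 p.2) (dual_add hx p.1 p.2) }
  have hd : LinearMap.det (lext ψ x hx L 0) = LinearMap.det L := by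
    rw [← LinearMap.det_conj (lext ψ x hx L 0) e,
      show (e : V →ₗ[F] (LinearMap.ker ψ) × F) ∘ₗ lext ψ x hx L 0 ∘ₗ
          (e.symm : (LinearMap.ker ψ) × F →ₗ[F] V) =
        LinearMap.prodMap L LinearMap.id from LinearMap.ext fun p => by
          obtain ⟨h, t⟩ := p
          show (proj ψ x hx (lext ψ x hx L 0 ((h : V) + t • x)),
            ψ (lext ψ x hx L 0 ((h : V) + t • x))) = _
          rw [lext_apply, proj_add, dual_add hx]
          simp [proj_add, dual_add hx],
      LinearMap.det_prodMap, LinearMap.det_id, mul_one]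
  have hs : lext ψ x hx L w =
      lext ψ x hx L 0 * LinearMap.transvection (w ∘ₗ proj ψ x hx) x := LinearMap.ext fun v => by
    rw [Module.End.mul_apply, LinearMap.transvection.apply, lext_apply, lext_apply]
    simp [hx]
    module
  rw [hs, map_mul, hd, LinearMap.transvection.det]
  simp

theorem det_uext (U : Module.End F (LinearMap.ker ψ)) (u : LinearMap.ker ψ) :
    LinearMap.det (uext ψ x hx U u) = LinearMap.det U := by
  have hs : uext ψ x hx U u = LinearMap.transvection ψ (u : V) * lext ψ x hx U 0 :=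
    LinearMap.ext fun v => by
      rw [Module.End.mul_apply, LinearMap.transvection.apply, lext_apply, uext_apply]
      simp [LinearMap.mem_ker.1 (U _).2, hx]
      module
  rw [hs, map_mul, det_lext, LinearMap.transvection.det, LinearMap.mem_ker.1 u.2, add_zero, one_mul]

end Cfsg.Agent.FGS77.Thompson
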