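import Cfsg.Agent.FGS77.Thompson.Select
import Cfsg.Agent.FGS77.Thompson.Split

/-! A determinant one map is a product of two regular unipotent maps with prescribed ends. -/

set_option autoImplicit false

namespace Cfsg.Agent.FGS77.Thompson

universe u v

variable {F : Type u} [Field F]

/-- The factorisation delivered by the induction. -/
def Fac {V : Type v} [AddCommGroup V] [Module F V] (G : Module.End F V) (x u : V) : Prop :=
  ∃ L U : Module.End F V, G = L * U ∧ (L - 1) ^ Module.finrank F V = 0 ∧
    (U - 1) ^ Module.finrank F V = 0 ∧ (∃ h, ((L - 1) ^ (Module.finrank F V - 1)) h = x) ∧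
    ((U - 1) ^ (Module.finrank F V - 1)) u ≠ 0

theorem five_embedding (e : Fin 4 ↪ F) (h2 : (2 : F) ≠ 0) : Nonempty (Fin 5 ↪ F) := by
  rcases finite_or_infinite F with hfin | hinf
  · have := Fintype.ofFinite F
    refine Function.Embedding.nonempty_of_card_le ?_
    have h4 := Fintype.card_le_of_injective e e.injective
    simp only [Fintype.card_fin] at h4 ⊢
    by_contra hc
    have h : ((4 : ℕ) : F) = 0 := by
      rw [show (4 : ℕ) = Fintype.card F by omega, Nat.cast_card_eq_zero]
    exact h2 (mul_self_eq_zero.1 (by linear_combination (norm := (push_cast; ring)) h))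
  · exact ⟨Fin.valEmbedding.trans (Infinite.natEmbedding F)⟩

section step

variable {V : Type v} [AddCommGroup V] [Module F V] [FiniteDimensional F V]

/-- What a member `ψ` of the affine family gives. -/
theorem member_data (G Gi : Module.End F V) (hGi : G * Gi = 1) (hdet : LinearMap.det G = 1)
    (ψ : Module.Dual F V) (x : V) (hx : ψ x = 1) (hy : ψ (Gi x) = 1) :
    ∃ Xi : Module.End F (LinearMap.ker ψ), comp hx G * Xi = 1 ∧
      ψ (G x) = ψ (G (Xi (proj ψ x hx (G x)) : V)) + 1 ∧
      LinearMap.det (comp hx G) = 1 := by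
  have hGinj : ∀ v, Gi (G v) = v := fun v => by
    rw [← Module.End.mul_apply, mul_eq_one_comm.1 hGi]; rfl
  have hXinj : Function.Injective (comp hx G) := by
    rw [← LinearMap.ker_eq_bot, LinearMap.ker_eq_bot']
    intro h hh
    have h1 := congrArg Subtype.val hh
    rw [coe_comp, Submodule.coe_zero, sub_eq_zero] at h1
    have h2 := hGinj (h : V)
    rw [h1, map_smul] at h2
    have h3 := congrArg ψ h2
    rw [map_smul, hy, LinearMap.mem_ker.1 h.2, smul_eq_mul, mul_one] at h3
    rw [h3, zero_smul] at h2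
    exact Subtype.ext h2.symm
  let X' := LinearEquiv.ofInjectiveEndo (comp hx G) hXinj
  have hXi : comp hx G * (X'.symm : LinearMap.ker ψ →ₗ[F] LinearMap.ker ψ) = 1 :=
    LinearMap.ext fun h => X'.apply_symm_apply h
  set h0 := X'.symm (proj ψ x hx (G x)) with hh0
  have hs : ψ (G x) = ψ (G (h0 : V)) + 1 := by
    have h1 := congrArg Subtype.val (X'.apply_symm_apply (proj ψ x hx (G x)))
    rw [← hh0, LinearEquiv.coe_ofInjectiveEndo, coe_comp, coe_proj] at h1
    have h2 : G (x - h0) = (ψ (G x) - ψ (G (h0 : V))) • x := by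
      rw [map_sub]; linear_combination (norm := module) -h1
    have h3 := congrArg (fun v => ψ (Gi v)) h2
    simp only [hGinj, map_sub, map_smul, hy, hx, LinearMap.mem_ker.1 h0.2, sub_zero, smul_eq_mul,
      mul_one] at h3
    linear_combination -h3
  refine ⟨_, hXi, hs, ?_⟩
  have hprod := lext_mul_uext hx G (comp hx G) 1 (ψ ∘ₗ G ∘ₗ (LinearMap.ker ψ).subtype) h0
    (mul_one _) (fun h => rfl) (X'.apply_symm_apply _) hs
  rw [hprod, map_mul, det_lext, det_uext, map_one, mul_one] at hdet
  exact hdet

/-- One step of the induction: the functional to use. -/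
theorem exists_functional (e : Fin 4 ↪ F) (G Gi : Module.End F V) (hGi : G * Gi = 1)
    (hdet : LinearMap.det G = 1) (x u : V) (hx0 : x ≠ 0) (hn : 2 ≤ Module.finrank F V)
    (H : Hyp G x u) :
    ∃ (ψ : Module.Dual F V) (hψx : ψ x = 1), ψ (Gi x) = 1 ∧ ψ u ≠ 0 ∧
      (∃ v, ψ ((G - 1) v) ≠ 0) ∧
      (3 ≤ Module.finrank F V →
        2 ≤ Module.finrank F (LinearMap.range (comp hψx G - 1)) ∧
          ∀ c : F, comp hψx G ≠ c • 1) := by
  obtain ⟨hr, hnoneig, himg, hthree, hthree', hvec⟩ := H
  set N : Module.End F V := G - 1 with hN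
  have hGG : ∀ v, G (Gi v) = v := fun v => by rw [← Module.End.mul_apply, hGi]; rfl
  have hGinj : ∀ v, Gi (G v) = v := fun v => by
    rw [← Module.End.mul_apply, mul_eq_one_comm.1 hGi]; rfl
  have hxy : x - Gi x = Gi (N x) := by simp [hN, hGinj]
  have hNx : N x ≠ 0 := fun h0 => hnoneig 1 (by simpa [hN, sub_eq_zero] using h0)
  have hxline : x ∉ F ∙ (x - Gi x) := by
    intro h
    obtain ⟨t, ht⟩ := Submodule.mem_span_singleton.1 h
    have h1 := congrArg G ht
    rw [hxy, map_smul, hGG] at h1
    have h1' : t • (G x - x) = G x := by simpa [hN] using h1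
    by_cases ht1 : t = 1
    · subst ht1
      rw [one_smul, sub_eq_self] at h1'
      exact hx0 h1'
    · refine hnoneig ((t - 1)⁻¹ * t) ?_
      have h2 : (t - 1) • G x = t • x := by linear_combination (norm := module) h1'
      rw [mul_smul, ← h2, smul_smul, inv_mul_cancel₀ (sub_ne_zero.2 ht1), one_smul]
  set P : Module.Dual F V → Prop := fun a => a x = 1 ∧ a (Gi x) = 1 with hP
  have hPaff : ∀ a b, P a → P b → ∀ t : F, P (a + t • (b - a)) := fun a b ha hb t => by
    obtain ⟨ha1, ha2⟩ := ha
    obtain ⟨hb1, hb2⟩ := hb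
    constructor <;> simp [ha1, ha2, hb1, hb2]
  have mem : ∀ z, z ∉ F ∙ (x - Gi x) → ∃ a, P a ∧ a z ≠ 0 := fun z hz => exists_member hxline hz
  have hPne : ∃ a, P a := let ⟨a, ha, _⟩ := mem x hxline; ⟨a, ha⟩
  have hu : u ∉ F ∙ (x - Gi x) := fun h => by
    obtain ⟨t, ht⟩ := Submodule.mem_span_singleton.1 h
    exact hvec t (by rw [← ht, map_smul, hxy, hGG])
  -- an image vector off the line
  obtain ⟨v₂, hv₂⟩ : ∃ v, N v ∉ F ∙ (x - Gi x) := by
    by_contra hc
    push Not at hc
    have h1 : LinearMap.range N ≤ F ∙ (x - Gi x) := by rintro _ ⟨v, rfl⟩; exact hc v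
    have := Submodule.finrank_mono h1
    have := (finrank_span_le_card ({x - Gi x} : Set V) (R := F))
    simp at this
    omega
  -- the rank condition
  by_cases hn3 : Module.finrank F V < 3
  · have h2 : Module.finrank F V = 2 := by omega
    obtain ⟨a, ha, hau⟩ := mem u hu
    obtain ⟨b, hb, hbv⟩ := mem (N v₂) hv₂
    refine ⟨a, ha.1, ha.2, hau, ⟨v₂, fun h0 => ?_⟩, fun h3 => absurd h3 (by omega)⟩
    have htop : LinearMap.range N = ⊤ :=
      Submodule.eq_top_of_finrank_eq (by have := Submodule.finrank_le (LinearMap.range N); omega)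
    have hspan : N v₂ ∈ Submodule.span F (Set.range ![x, Gi x]) := by
      rw [Submodule.eq_top_of_finrank_eq (K := F)
        (S := Submodule.span F (Set.range ![x, Gi x]))]
      · trivial
      · rw [finrank_span_eq_card, h2, Fintype.card_fin]
        rw [LinearIndependent.pair_iff]
        intro s t hst
        have ht : t = 0 := by
          by_contra ht
          refine hxline (Submodule.mem_span_singleton.2 ?_)
          have hy : Gi x = (-(t⁻¹ * s)) • x := by
            have := congrArg (fun w => t⁻¹ • w) hst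
            simp only [smul_add, smul_smul, inv_mul_cancel₀ ht, one_smul, smul_zero] at this
            linear_combination (norm := module) this
          exfalso
          have h5 := congrArg G hy
          rw [hGG, map_smul] at h5
          have hs : -(t⁻¹ * s) ≠ 0 := fun e => hx0 (by rw [h5, e, zero_smul])
          refine hnoneig (-(t⁻¹ * s))⁻¹ ?_
          conv_rhs => rw [h5, smul_smul, inv_mul_cancel₀ hs, one_smul]
        subst ht
        simp [hx0] at hst
        exact ⟨hst, rfl⟩
    rw [Matrix.range_cons, Matrix.range_cons, Matrix.range_empty, Set.union_empty,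
      Set.singleton_union, Submodule.mem_span_pair] at hspan
    obtain ⟨p, q, hpq⟩ := hspan
    rw [← hpq] at h0 hbv
    simp [ha.1, ha.2] at h0
    simp [hb.1, hb.2] at hbv
    exact hbv (by linear_combination h0)
  rw [not_lt] at hn3
  have h4 : ∃ L₄ : List (V × F), L₄.length ≤ 1 ∧
      (LinearMap.range N ≠ ⊤ → 3 ≤ Module.finrank F (LinearMap.range N) → L₄ = []) ∧
      (∀ q ∈ L₄, ∃ a, P a ∧ a q.1 ≠ q.2) ∧
      ∀ a, P a → (∀ q ∈ L₄, a q.1 ≠ q.2) →
        ∀ S : Submodule F V, (∀ h, a h = 0 → N h ∈ S) → x ∈ S → 3 ≤ Module.finrank F S := by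
    by_cases htop : LinearMap.range N = ⊤
    · have hinj : Function.Injective N :=
        LinearMap.injective_iff_surjective.2 (LinearMap.range_eq_top.1 htop)
      obtain ⟨z, hz⟩ := LinearMap.range_eq_top.1 htop x
      by_cases h3 : Module.finrank F V = 3
      · have hzl : z ∉ F ∙ (x - Gi x) := by
          intro h
          obtain ⟨t, ht⟩ := Submodule.mem_span_singleton.1 h
          have h1 := congrArg (fun w => N (G w)) ht
          simp only [hxy, map_smul, hGG] at h1
          have h2 : N (G z) = G x := by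
            rw [← hz]; simp only [hN, LinearMap.sub_apply, Module.End.one_apply, map_sub]
          rw [h2] at h1
          have ht0 : t ≠ 0 := fun e => hx0 (by
            rw [e, zero_smul] at h1
            rw [← hGinj x, ← h1, map_zero])
          exact hthree' h3 htop t⁻¹
            (by rw [← h1, smul_smul, inv_mul_cancel₀ ht0, one_smul])
        obtain ⟨a₀, ha₀, ha₀z⟩ := mem z hzl
        refine ⟨[(z, 0)], le_rfl, fun h => absurd htop h, by simpa using ⟨a₀, ha₀, ha₀z⟩, ?_⟩
        intro a _ haq S hS hxS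
        simp at haq
        have hS' : S = ⊤ := eq_top_iff.2 fun v _ => by
          obtain ⟨w, rfl⟩ := LinearMap.range_eq_top.1 htop v
          have h1 := hS (w - (a w / a z) • z) (by simp [div_mul_cancel₀ _ haq])
          rw [map_sub, map_smul, hz] at h1
          have h2 := S.add_mem h1 (S.smul_mem (a w / a z) hxS)
          rwa [sub_add_cancel] at h2
        rw [hS', finrank_top]; omega
      · refine ⟨[], by simp, fun _ _ => rfl, by simp, fun a ha _ S hS _ => ?_⟩
        have h1 : Module.finrank F (LinearMap.ker a) ≤ Module.finrank F S :=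
          LinearMap.finrank_le_finrank_of_injective
            (f := N.restrict (p := LinearMap.ker a) (q := S) fun h hh => hS h (LinearMap.mem_ker.1 hh))
            fun p q hpq => Subtype.ext (hinj (congrArg Subtype.val hpq :))
        have h5 := LinearMap.finrank_range_add_finrank_ker a
        have h6 : Module.finrank F (LinearMap.range a) ≤ 1 :=
          (Submodule.finrank_le _).trans (by simp)
        omega
    · have hxR : x ∉ LinearMap.range N := fun h => htop (himg h)
      have key : ∀ a : Module.Dual F V, ∀ S : Submodule F V, (∀ h, a h = 0 → N h ∈ S) → x ∈ S →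
          Module.finrank F ↥(Submodule.map N (LinearMap.ker a)) + 1 ≤ Module.finrank F S := by
        intro a S hS hxS
        have h1 : Submodule.map N (LinearMap.ker a) ≤ S := by
          rintro _ ⟨h, hh, rfl⟩; exact hS h (LinearMap.mem_ker.1 hh)
        have h2 : x ∉ Submodule.map N (LinearMap.ker a) := fun h =>
          hxR (LinearMap.map_le_range h)
        have h3 : Submodule.map N (LinearMap.ker a) < S := lt_of_le_of_ne h1 fun e => h2 (e ▸ hxS)
        have := Submodule.finrank_lt_finrank_of_lt h3
        omega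
      by_cases hr3 : 3 ≤ Module.finrank F (LinearMap.range N)
      · refine ⟨[], by simp, fun _ _ => rfl, by simp, fun a ha _ S hS hxS => ?_⟩
        have h1 := key a S hS hxS
        have h2 : LinearMap.range N ≤ Submodule.map N (LinearMap.ker a) ⊔ F ∙ N x := by
          rintro _ ⟨v, rfl⟩
          rw [show v = (v - a v • x) + a v • x by abel, map_add, map_smul]
          exact Submodule.add_mem_sup
            (Submodule.mem_map_of_mem (by simp [ha.1]))
            (Submodule.smul_mem _ _ (Submodule.mem_span_singleton_self _))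
        have h3 := Submodule.finrank_mono h2
        have h4 := Submodule.finrank_add_le_finrank_add_finrank (Submodule.map N (LinearMap.ker a))
          (F ∙ N x)
        rw [finrank_span_singleton hNx] at h4
        omega
      · obtain ⟨k, hk, hkl⟩ : ∃ k ∈ LinearMap.ker N, k ∉ F ∙ (x - Gi x) := by
          by_contra hc
          push Not at hc
          have h1 : LinearMap.ker N ≤ F ∙ (x - Gi x) := hc
          have h2 := Submodule.finrank_mono h1
          have h3 := LinearMap.finrank_range_add_finrank_ker N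
          have h4 : Module.finrank F (F ∙ (x - Gi x)) = 1 := by
            rw [finrank_span_singleton]
            intro e
            rw [hxy] at e
            exact hNx (by rw [← hGG (N x), e, map_zero])
          have h5 : LinearMap.ker N = F ∙ (x - Gi x) :=
            Submodule.eq_of_le_of_finrank_le h1 (by omega)
          have h6 : N (Gi (N x)) = 0 := by
            rw [← hxy]
            exact LinearMap.mem_ker.1 (h5 ▸ Submodule.mem_span_singleton_self _)
          refine hthree (by omega) htop ?_
          have h7 : N (N x) = G (N (Gi (N x))) := by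
            simp [hN, hGG]
          rw [h7, h6, map_zero]
        obtain ⟨a₀, ha₀, ha₀k⟩ := mem k hkl
        refine ⟨[(k, 0)], le_rfl, fun _ h => absurd h hr3, by simpa using ⟨a₀, ha₀, ha₀k⟩, ?_⟩
        intro a _ haq S hS hxS
        simp at haq
        have h1 : LinearMap.range N ≤ Submodule.map N (LinearMap.ker a) := by
          rintro _ ⟨v, rfl⟩
          exact ⟨v - (a v / a k) • k, LinearMap.mem_ker.2 (by simp [div_mul_cancel₀ _ haq]),
            by simp [LinearMap.mem_ker.1 hk]⟩
        have h2 := Submodule.finrank_mono h1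
        have := key a S hS hxS
        omega
  obtain ⟨L₄, hL₄, hL₄', hL₄ok, hL₄use⟩ := h4
  have rank_ok : ∀ (a : Module.Dual F V) (ha : P a), (∀ q ∈ L₄, a q.1 ≠ q.2) →
      2 ≤ Module.finrank F (LinearMap.range (comp ha.1 G - 1)) := by
    intro a ha haq
    set R := LinearMap.range (comp ha.1 G - 1)
    set S := R.map (LinearMap.ker a).subtype ⊔ F ∙ x
    have h1 : ∀ h, a h = 0 → N h ∈ S := by
      intro h hh
      have h2 : N h = ((comp ha.1 G - 1) ⟨h, LinearMap.mem_ker.2 hh⟩ : V) + a (G h) • x := by
        simp [hN, coe_comp]; abel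
      rw [h2]
      exact Submodule.add_mem_sup
        (Submodule.mem_map_of_mem (LinearMap.mem_range_self _ _))
        (Submodule.smul_mem _ _ (Submodule.mem_span_singleton_self _))
    have h2 := hL₄use a ha haq S h1 (Submodule.mem_sup_right (Submodule.mem_span_singleton_self _))
    have h3 := Submodule.finrank_add_le_finrank_add_finrank (R.map (LinearMap.ker a).subtype) (F ∙ x)
    rw [finrank_span_singleton hx0] at h3
    have h4 := Submodule.finrank_map_le (LinearMap.ker a).subtype R
    have h5 : Module.finrank F S =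
      Module.finrank F ↥(R.map (LinearMap.ker a).subtype ⊔ F ∙ x) := rfl
    omega
  obtain ⟨L₃, hL₃, hL₃ok, hL₃use, hL₃five⟩ : ∃ L₃ : List (V × F), L₃.length ≤ 1 ∧
      (∀ q ∈ L₃, ∃ a, P a ∧ a q.1 ≠ q.2) ∧
      (∀ (a : Module.Dual F V) (ha : P a), (∀ q ∈ L₃, a q.1 ≠ q.2) →
        ∀ c : F, c ≠ 1 → comp ha.1 G ≠ c • 1) ∧
      (L₃ ≠ [] → Module.finrank F (LinearMap.range N) < 3 → (2 : F) ≠ 0) := by
    by_cases hbad : ∃ (a : Module.Dual F V) (ha : P a) (c : F), c ≠ 1 ∧ comp ha.1 G = c • 1
    swap
    · exact ⟨[], by simp, by simp, fun a ha _ c hc e => hbad ⟨a, ha, c, hc, e⟩, by simp⟩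
    obtain ⟨a₁, ha₁, c₁, hc₁, he₁⟩ := hbad
    have hs : ∀ (a : Module.Dual F V) (ha : P a) (c : F), comp ha.1 G = c • 1 →
        ∀ h, a h = 0 → G h = c • h + a (G h) • x := by
      intro a ha c he h hh
      have h1 := congrArg Subtype.val (LinearMap.congr_fun he ⟨h, LinearMap.mem_ker.2 hh⟩)
      rw [coe_comp] at h1
      simp at h1
      rw [← h1]; abel
    have huniq : ∀ (a : Module.Dual F V) (ha : P a) (c : F), comp ha.1 G = c • 1 → a = a₁ := by
      intro a ha c he
      by_contra hne
      obtain ⟨h₁, hh₁, hah₁⟩ : ∃ h, a₁ h = 0 ∧ a h ≠ 0 := by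
        by_contra hcon
        push Not at hcon
        refine hne (LinearMap.ext fun v => ?_)
        have := hcon (v - a₁ v • x) (by simp [ha₁.1])
        rw [map_sub, map_smul, ha.1, smul_eq_mul, mul_one, sub_eq_zero] at this
        exact this
      by_cases hcc : c = c₁
      · subst hcc
        have hall : ∀ v, ∃ t : F, G v = c • v + t • x := by
          intro v
          set s := a v / a h₁
          have hv : a (v - s • h₁) = 0 := by simp [s, div_mul_cancel₀ _ hah₁]
          have e1 := hs a ha c he _ hv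
          have e2 := hs a₁ ha₁ c he₁ _ hh₁
          refine ⟨a (G (v - s • h₁)) + s * a₁ (G h₁), ?_⟩
          rw [show G v = G (v - s • h₁) + s • G h₁ by rw [map_sub, map_smul]; abel]
          conv_lhs => rw [e1, e2]
          module
        obtain ⟨t, ht⟩ := hall x
        exact hnoneig (c + t) (by rw [ht, add_smul])
      · have h1 := LinearMap.finrank_range_add_finrank_ker a
        have h2 := LinearMap.finrank_range_add_finrank_ker a₁
        have h3 : Module.finrank F (LinearMap.range a) ≤ 1 :=
          (Submodule.finrank_le _).trans (by simp)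
        have h4 : Module.finrank F (LinearMap.range a₁) ≤ 1 :=
          (Submodule.finrank_le _).trans (by simp)
        have h5 := Submodule.finrank_sup_add_finrank_inf_eq (LinearMap.ker a) (LinearMap.ker a₁)
        have h6 := Submodule.finrank_le (LinearMap.ker a ⊔ LinearMap.ker a₁)
        obtain ⟨h, hhm, hh0⟩ : ∃ h ∈ LinearMap.ker a ⊓ LinearMap.ker a₁, h ≠ (0 : V) := by
          refine Submodule.exists_mem_ne_zero_of_ne_bot fun e => ?_
          rw [e, finrank_bot] at h5
          omega
        obtain ⟨hha, hha₁⟩ := Submodule.mem_inf.1 hhm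
        rw [LinearMap.mem_ker] at hha hha₁
        have e1 := hs a ha c he h hha
        have e2 := hs a₁ ha₁ c₁ he₁ h hha₁
        have h7 : (c - c₁) • h = (a₁ (G h) - a (G h)) • x := by
          linear_combination (norm := module) e2 - e1
        have h8 := congrArg a h7
        simp [hha, ha.1] at h8
        rw [← h8, zero_smul, smul_eq_zero] at h7
        exact hh0 (h7.resolve_left (sub_ne_zero.2 hcc))
    obtain ⟨z, hz⟩ : ∃ z, z ∉ Submodule.span F (Set.range ![x, Gi x]) := by
      by_contra hcon
      push Not at hcon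
      have h1 := finrank_range_le_card (R := F) ![x, Gi x]
      rw [Set.finrank, show Submodule.span F (Set.range ![x, Gi x]) = ⊤ from
        eq_top_iff.2 fun v _ => hcon v, finrank_top] at h1
      simp at h1
      omega
    obtain ⟨f, hfz, hf⟩ := exists_dual _ hz
    have hb : P (a₁ + f) := by
      refine ⟨?_, ?_⟩
      · simp [ha₁.1, hf x (Submodule.subset_span ⟨0, rfl⟩)]
      · simp [ha₁.2, hf (Gi x) (Submodule.subset_span ⟨1, rfl⟩)]
    refine ⟨[(z, a₁ z)], le_rfl, by simpa using ⟨a₁ + f, hb, by simp [hfz]⟩, ?_, fun _ hr2 => ?_⟩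
    · intro a ha haq c hc he
      simp at haq
      exact haq (by rw [huniq a ha c he])
    · have h3 : Module.finrank F V = 3 := by
        have h1 := LinearMap.finrank_range_add_finrank_ker N
        have h2 : LinearMap.ker N ⊓ LinearMap.ker a₁ = ⊥ := by
          refine (Submodule.eq_bot_iff _).2 fun h hh => ?_
          obtain ⟨hN', ha'⟩ := Submodule.mem_inf.1 hh
          rw [LinearMap.mem_ker] at hN' ha'
          have e1 := hs a₁ ha₁ c₁ he₁ h ha'
          have e2 : G h = h := by simpa [hN, sub_eq_zero] using hN'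
          rw [e2, ha', zero_smul, add_zero] at e1
          have h7 : (1 - c₁) • h = 0 := by rw [sub_smul, one_smul, ← e1, sub_self]
          exact (smul_eq_zero.1 h7).resolve_left (sub_ne_zero.2 (Ne.symm hc₁))
        have h4 := Submodule.finrank_sup_add_finrank_inf_eq (LinearMap.ker N) (LinearMap.ker a₁)
        rw [h2, finrank_bot] at h4
        have h5 := LinearMap.finrank_range_add_finrank_ker a₁
        have h6 : Module.finrank F (LinearMap.range a₁) ≤ 1 :=
          (Submodule.finrank_le _).trans (by simp)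
        have h7 := Submodule.finrank_le (LinearMap.ker N ⊔ LinearMap.ker a₁)
        omega
      obtain ⟨Xi, -, -, hdX⟩ := member_data G Gi hGi hdet a₁ x ha₁.1 ha₁.2
      rw [he₁, LinearMap.det_smul, map_one, mul_one] at hdX
      have hm : Module.finrank F (LinearMap.ker a₁) = 2 := by
        have h5 := LinearMap.finrank_range_add_finrank_ker a₁
        rw [LinearMap.range_eq_top.2 (fun t => ⟨t • x, by simp [ha₁.1]⟩), finrank_top,
          Module.finrank_self] at h5
        omega
      rw [hm] at hdX
      intro h20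
      refine hc₁ ?_
      have : (c₁ - 1) * (c₁ - 1) = 0 := by linear_combination hdX - (c₁ - 1) * h20
      exact sub_eq_zero.1 (mul_self_eq_zero.1 this)
  have hbase : ∀ L₂ : List (V × F), (∀ q ∈ L₂, ∃ a, P a ∧ a q.1 ≠ q.2) →
      (∀ (m : ℕ) (em : Fin m ↪ F), ((u, (0 : F)) :: L₂ ++ (L₃ ++ L₄)).length < m →
        ∃ a, P a ∧ a u ≠ 0 ∧ (∀ q ∈ L₂, a q.1 ≠ q.2) ∧ (∀ q ∈ L₃, a q.1 ≠ q.2) ∧
          ∀ q ∈ L₄, a q.1 ≠ q.2) := by
    intro L₂ hL₂ m em hlen
    obtain ⟨a, ha, hall⟩ := exists_avoid_affine em P hPaff hPne _ hlen fun q hq => by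
      simp only [List.cons_append, List.mem_cons, List.mem_append] at hq
      rcases hq with rfl | hq | hq | hq
      · exact mem u hu
      · exact hL₂ q hq
      · exact hL₃ok q hq
      · exact hL₄ok q hq
    exact ⟨a, ha, hall (u, 0) (by simp), fun q hq => hall q (by simp [hq]),
      fun q hq => hall q (by simp [hq]), fun q hq => hall q (by simp [hq])⟩
  have finish : ∀ (a : Module.Dual F V) (ha : P a), a u ≠ 0 → (∀ q ∈ L₃, a q.1 ≠ q.2) →
      (∀ q ∈ L₄, a q.1 ≠ q.2) → (∃ v, a (N v) ≠ 0) →
      ∃ (ψ : Module.Dual F V) (hψx : ψ x = 1), ψ (Gi x) = 1 ∧ ψ u ≠ 0 ∧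
        (∃ v, ψ (N v) ≠ 0) ∧
        (3 ≤ Module.finrank F V →
          2 ≤ Module.finrank F (LinearMap.range (comp hψx G - 1)) ∧
            ∀ c : F, comp hψx G ≠ c • 1) := by
    intro a ha hau h3 h4 hv
    refine ⟨a, ha.1, ha.2, hau, hv, fun _ => ⟨rank_ok a ha h4, fun c hc => ?_⟩⟩
    by_cases hc1 : c = 1
    · have := rank_ok a ha h4
      rw [hc, hc1, one_smul, sub_self, LinearMap.range_zero, finrank_bot] at this
      omega
    · exact hL₃use a ha h3 c hc1 hc
  by_cases htop : LinearMap.range N = ⊤
  · obtain ⟨a, ha, hau, -, h3, h4⟩ := hbase [] (by simp) 4 e (by simp; omega)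
    obtain ⟨v, hv⟩ := LinearMap.range_eq_top.1 htop x
    exact finish a ha hau h3 h4 ⟨v, by rw [hv, ha.1]; exact one_ne_zero⟩
  · have h2ok : ∀ q ∈ [(N v₂, (0 : F))], ∃ a, P a ∧ a q.1 ≠ q.2 := by
      simpa using mem _ hv₂
    by_cases hsmall : 3 ≤ Module.finrank F (LinearMap.range N) ∨ L₃ = []
    · have hlen : ((u, (0 : F)) :: [(N v₂, (0 : F))] ++ (L₃ ++ L₄)).length < 4 := by
        rcases hsmall with h | h
        · rw [hL₄' htop h]; simp; omega
        · rw [h]; simp; omega
      obtain ⟨a, ha, hau, h2, h3, h4⟩ := hbase _ h2ok 4 e hlen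
      exact finish a ha hau h3 h4 ⟨v₂, h2 _ (List.mem_singleton_self _)⟩
    · rw [not_or, not_le] at hsmall
      obtain ⟨e5⟩ := five_embedding e (hL₃five hsmall.2 hsmall.1)
      obtain ⟨a, ha, hau, h2, h3, h4⟩ := hbase _ h2ok 5 e5 (by simp; omega)
      exact finish a ha hau h3 h4 ⟨v₂, h2 _ (List.mem_singleton_self _)⟩

end step

/-- The induction. -/
theorem exists_fac (e : Fin 4 ↪ F) : ∀ (n : ℕ) {V : Type v} [AddCommGroup V] [Module F V]
    [FiniteDimensional F V], Module.finrank F V = n → ∀ (G : Module.End F V),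
    LinearMap.det G = 1 → ∀ x u : V, x ≠ 0 → u ≠ 0 → (2 ≤ n → Hyp G x u) → Fac G x u := by
  intro n
  induction n with
  | zero =>
    intro V _ _ _ hn G _ x u hx0 _ _
    exact absurd ((finrank_zero_iff_forall_zero (K := F)).1 hn x) hx0
  | succ m ih =>
    intro V _ _ _ hn G hdet x u hx0 hu0 H
    rcases Nat.eq_zero_or_pos m with rfl | hm
    · have h1 : G = 1 := LinearMap.ext fun v => by
        obtain ⟨b, hb0, hb⟩ := finrank_eq_one_iff'.1 hn
        obtain ⟨c, hc⟩ := hb (G b)
        have hG : G = c • 1 := LinearMap.ext fun w => by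
          obtain ⟨s, rfl⟩ := hb w
          simp [← hc, smul_comm s c b]
        rw [hG, LinearMap.det_smul, map_one, mul_one, hn, pow_one] at hdet
        simp [hG, hdet]
      refine ⟨1, 1, by simp [h1], by simp [hn], by simp [hn], ⟨x, by simp [hn]⟩, ?_⟩
      simpa [hn] using hu0
    have H' := H (by omega)
    obtain ⟨Gu, hGu⟩ := (LinearMap.isUnit_iff_isUnit_det G).2 (by rw [hdet]; exact isUnit_one)
    set Gi : Module.End F V := ↑(Gu⁻¹)
    have hGi : G * Gi = 1 := by rw [← hGu]; exact Gu.mul_inv
    obtain ⟨ψ, hψx, hψy, hψu, ⟨v, hv⟩, hψ3⟩ := exists_functional e G Gi hGi hdet x u hx0 (by omega) H'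
    obtain ⟨Xi, hXi, hs, hdX⟩ := member_data G Gi hGi hdet ψ x hψx hψy
    have hm' : Module.finrank F (LinearMap.ker ψ) = m := by
      have h5 := LinearMap.finrank_range_add_finrank_ker ψ
      rw [LinearMap.range_eq_top.2 (fun t => ⟨t • x, by simp [hψx]⟩), finrank_top,
        Module.finrank_self] at h5
      omega
    set X := comp hψx G with hX
    set w : LinearMap.ker ψ →ₗ[F] F := ψ ∘ₗ G ∘ₗ (LinearMap.ker ψ).subtype with hw
    set ub := proj ψ x hψx (G x) with hub
    have hub0 : ub ≠ 0 := fun h0 => by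
      have := congrArg Subtype.val h0
      rw [hub, coe_proj, Submodule.coe_zero, sub_eq_zero] at this
      exact H'.noneig _ this
    have hw0 : w ≠ 0 := fun h0 => by
      refine hv ?_
      have hwv : ∀ h : LinearMap.ker ψ, ψ (G h) = 0 := fun h => LinearMap.congr_fun h0 h
      rw [hwv (Xi ub), zero_add] at hs
      rw [decomp hψx v, map_add, map_smul, LinearMap.sub_apply, LinearMap.sub_apply,
        Module.End.one_apply, Module.End.one_apply, map_add, map_sub, hwv, map_smul, map_sub, hs,
        hψx, LinearMap.mem_ker.1 (proj ψ x hψx v).2]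
      simp
    have hXi' : Xi * X = 1 := mul_eq_one_comm.1 hXi
    obtain ⟨x', hx', hwx', Hx'⟩ : ∃ x', x' ≠ 0 ∧ w (Xi x') ≠ 0 ∧
        (2 ≤ m → Hyp X x' (Xi ub)) := by
      by_cases hm2 : 2 ≤ m
      · obtain ⟨hr, hns⟩ := hψ3 (by omega)
        obtain ⟨x', h1, h2, h3⟩ := exists_hyp e X Xi hXi hdX hr hns w hw0 ub hub0
        exact ⟨x', h1, h2, fun _ => h3⟩
      · obtain ⟨h, hh⟩ : ∃ h, w h ≠ 0 := by
          by_contra hc
          push Not at hc
          exact hw0 (LinearMap.ext hc)
        refine ⟨X h, fun h0 => hh ?_, ?_, fun h => absurd h hm2⟩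
        · have := congrArg Xi h0
          rw [← Module.End.mul_apply, hXi', Module.End.one_apply, map_zero] at this
          simp [this]
        · rwa [← Module.End.mul_apply, hXi', Module.End.one_apply]
    have hu' : Xi ub ≠ 0 := fun h0 => hub0 (by
      have := congrArg X h0
      rwa [← Module.End.mul_apply, hXi, Module.End.one_apply, map_zero] at this)
    obtain ⟨L₁, U₁, hLU, hL, hU, ⟨h', hh'⟩, hu₁⟩ := ih hm' X hdX x' (Xi ub) hx' hu' Hx'
    rw [hm'] at hL hU hh' hu₁
    obtain ⟨j, rfl⟩ : ∃ j, m = j + 1 := ⟨m - 1, by omega⟩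
    simp only [Nat.add_sub_cancel] at hh' hu₁
    set w'' : LinearMap.ker ψ →ₗ[F] F := w ∘ₗ Xi ∘ₗ L₁ with hw''
    have hLx' : L₁ x' = x' := by
      have := LinearMap.congr_fun hL h'
      rw [pow_succ', Module.End.mul_apply, hh', LinearMap.sub_apply, Module.End.one_apply,
        LinearMap.zero_apply, sub_eq_zero] at this
      exact this
    have hwU : ∀ h, w'' (U₁ h) = ψ (G h) := fun h => by
      show w (Xi ((L₁ * U₁) h)) = _
      rw [← hLU, ← Module.End.mul_apply, hXi']
      rfl
    have huL : L₁ (U₁ (Xi ub)) = ub := by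
      rw [← Module.End.mul_apply, ← hLU, ← Module.End.mul_apply, hXi, Module.End.one_apply]
    have hs' : ψ (G x) = w'' (U₁ (Xi ub)) + 1 := by rw [hwU]; exact hs
    refine ⟨lext ψ x hψx L₁ w'', uext ψ x hψx U₁ (U₁ (Xi ub)),
      lext_mul_uext hψx G L₁ U₁ w'' _ hLU.symm hwU huL hs', ?_, ?_, ?_, ?_⟩
    · refine LinearMap.ext fun z => ?_
      rw [hn, lext_sub_one_pow, pow_succ' _ (j + 1), Module.End.mul_apply, hL]
      simp
    · refine LinearMap.ext fun z => ?_
      rw [hn, uext_sub_one_pow, pow_succ' _ (j + 1), Module.End.mul_apply, hU]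
      simp
    · have hwx : w'' x' ≠ 0 := by simpa [hw'', hLx'] using hwx'
      refine ⟨(w'' x')⁻¹ • (h' : V), ?_⟩
      rw [hn, Nat.add_sub_cancel, map_smul, lext_sub_one_pow, proj_coe, hL, hh']
      simp [smul_smul, inv_mul_cancel₀ hwx]
    · rw [hn, Nat.add_sub_cancel, uext_sub_one_pow, hU]
      intro h0
      have h1 : ψ u • (((U₁ - 1) ^ j) (U₁ (Xi ub))) = 0 := by simpa using h0
      have h2 : ((U₁ - 1) ^ j) (U₁ (Xi ub)) = U₁ (((U₁ - 1) ^ j) (Xi ub)) := by
        rw [← Module.End.mul_apply, ← Module.End.mul_apply]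
        exact LinearMap.congr_fun (((Commute.refl U₁).sub_left (Commute.one_left _)).pow_left j).eq _
      rw [h2, smul_eq_zero] at h1
      have h3 := congrArg (fun z => (Xi * L₁) z) (h1.resolve_left hψu)
      rw [← Module.End.mul_apply, mul_assoc, ← hLU, hXi', Module.End.one_apply, map_zero] at h3
      exact hu₁ h3

end Cfsg.Agent.FGS77.Thompson
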