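import Mathlib

/-! Products of a conjugate of `D` and a conjugate of `D⁻¹`, glued along a block decomposition. -/

set_option autoImplicit false

namespace Cfsg.Agent.FGS77.Thompson

open Matrix

variable {F : Type*} [Field F] {ι κ : Type*} [Fintype ι] [DecidableEq ι] [Fintype κ] [DecidableEq κ]

/-- `G` is a product of a conjugate of `D` and a conjugate of `D⁻¹`. -/
def GP (D : GL ι F) (G : Matrix ι ι F) : Prop :=
  ∃ P R : GL ι F, G = ((P * D * P⁻¹ * (R * D⁻¹ * R⁻¹) : GL ι F) : Matrix ι ι F)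

/-- The centraliser of `D` has every determinant. -/
def DS (D : GL ι F) : Prop :=
  ∀ c : F, c ≠ 0 → ∃ Z : GL ι F, Commute Z D ∧ (Z : Matrix ι ι F).det = c

/-- No non-zero map intertwines the two. -/
def Sep (D : GL ι F) (E : GL κ F) : Prop :=
  (∀ T : Matrix κ ι F, (E : Matrix κ κ F) * T = T * (D : Matrix ι ι F) → T = 0) ∧
    ∀ T : Matrix ι κ F, (D : Matrix ι ι F) * T = T * (E : Matrix κ κ F) → T = 0

/-- A commutator in the special linear group. -/
def IsCommSL (G : Matrix ι ι F) : Prop :=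
  ∃ a b : Matrix.SpecialLinearGroup ι F,
    G = ((a * b * a⁻¹ * b⁻¹ : Matrix.SpecialLinearGroup ι F) : Matrix ι ι F)

theorem sl_comm_coe (a b : Matrix.SpecialLinearGroup ι F) :
    ((a * b * a⁻¹ * b⁻¹ : Matrix.SpecialLinearGroup ι F) : Matrix ι ι F) =
      ((a.toGL * b.toGL * a.toGL⁻¹ * b.toGL⁻¹ : GL ι F) : Matrix ι ι F) := by
  rw [← map_inv, ← map_inv, ← map_mul, ← map_mul, ← map_mul]
  rfl

theorem isCommSL_of_gl {G : Matrix ι ι F} (a b : GL ι F) (ha : (a : Matrix ι ι F).det = 1)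
    (hb : (b : Matrix ι ι F).det = 1) (h : G = ((a * b * a⁻¹ * b⁻¹ : GL ι F) : Matrix ι ι F)) :
    IsCommSL G := by
  obtain ⟨a', ha'⟩ : ∃ a' : Matrix.SpecialLinearGroup ι F, a'.toGL = a :=
    ⟨⟨_, ha⟩, Units.ext rfl⟩
  obtain ⟨b', hb'⟩ : ∃ b' : Matrix.SpecialLinearGroup ι F, b'.toGL = b :=
    ⟨⟨_, hb⟩, Units.ext rfl⟩
  refine ⟨a', b', ?_⟩
  rw [h, sl_comm_coe, ha', hb']

theorem GP.isCommSL {D : GL ι F} {G : Matrix ι ι F} (h : GP D G)
    (hD : (D : Matrix ι ι F).det = 1) (hs : DS D) : IsCommSL G := by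
  obtain ⟨P, R, rfl⟩ := h
  have hP : (P : Matrix ι ι F).det ≠ 0 := P.det.ne_zero
  have hR : (R : Matrix ι ι F).det ≠ 0 := R.det.ne_zero
  obtain ⟨Z, hZ, hZd⟩ := hs ((P : Matrix ι ι F).det / (R : Matrix ι ι F).det) (div_ne_zero hP hR)
  refine isCommSL_of_gl (P * D * P⁻¹) (R * Z * P⁻¹) ?_ ?_ (congrArg Units.val ?_)
  · rw [Units.val_mul, Units.val_mul, Matrix.det_units_conj, hD]
  · rw [Units.val_mul, Units.val_mul, Matrix.det_mul, Matrix.det_mul, hZd,
      Matrix.coe_units_inv, Matrix.det_nonsing_inv, Ring.inverse_eq_inv']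
    field_simp
  · have h1 : Z * D⁻¹ * Z⁻¹ = D⁻¹ := by rw [hZ.inv_right.eq, mul_inv_cancel_right]
    calc P * D * P⁻¹ * (R * D⁻¹ * R⁻¹) = P * D * P⁻¹ * (R * (Z * D⁻¹ * Z⁻¹) * R⁻¹) := by rw [h1]
      _ = _ := by group

theorem GP.conj {D : GL ι F} {G : Matrix ι ι F} (h : GP D G) (Q : GL ι F) :
    GP D ((Q : Matrix ι ι F) * G * ((Q⁻¹ : GL ι F) : Matrix ι ι F)) := by
  obtain ⟨P, R, rfl⟩ := h
  refine ⟨Q * P, Q * R, ?_⟩
  rw [← Units.val_mul, ← Units.val_mul]
  exact congrArg Units.val (by group)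

theorem GP.reindex {D : GL ι F} {G : Matrix ι ι F} (h : GP D G) (e : ι ≃ κ) :
    GP (Units.map (Matrix.reindexAlgEquiv F F e).toMonoidHom D) (Matrix.reindex e e G) := by
  obtain ⟨P, R, rfl⟩ := h
  refine ⟨Units.map (Matrix.reindexAlgEquiv F F e).toMonoidHom P,
    Units.map (Matrix.reindexAlgEquiv F F e).toMonoidHom R, ?_⟩
  simp only [← map_inv, ← map_mul]
  rfl

theorem IsCommSL.reindex {G : Matrix ι ι F} (h : IsCommSL G) (e : ι ≃ κ) :
    IsCommSL (Matrix.reindex e e G) := by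
  obtain ⟨a, b, rfl⟩ := h
  have hd : ∀ x : Matrix.SpecialLinearGroup ι F,
      (Matrix.reindexAlgEquiv F F e x.1).det = 1 := fun x => by
    rw [Matrix.det_reindexAlgEquiv, x.2]
  refine isCommSL_of_gl (Units.map (Matrix.reindexAlgEquiv F F e).toMonoidHom a.toGL)
    (Units.map (Matrix.reindexAlgEquiv F F e).toMonoidHom b.toGL) (hd a) (hd b) ?_
  simp only [← map_inv, ← map_mul]
  rfl

theorem IsCommSL.conj {G : Matrix ι ι F} (h : IsCommSL G) (Q : GL ι F) :
    IsCommSL ((Q : Matrix ι ι F) * G * ((Q⁻¹ : GL ι F) : Matrix ι ι F)) := by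
  obtain ⟨a, b, rfl⟩ := h
  refine isCommSL_of_gl (Q * a.toGL * Q⁻¹) (Q * b.toGL * Q⁻¹) ?_ ?_ ?_
  · rw [Units.val_mul, Units.val_mul, Matrix.det_units_conj]; exact a.2
  · rw [Units.val_mul, Units.val_mul, Matrix.det_units_conj]; exact b.2
  · rw [sl_comm_coe, ← Units.val_mul, ← Units.val_mul]
    exact congrArg Units.val (by group)

theorem isCommSL_one : IsCommSL (1 : Matrix ι ι F) := ⟨1, 1, by simp⟩

theorem IsCommSL.blocks {G : Matrix ι ι F} {H : Matrix κ κ F} (hG : IsCommSL G) (hH : IsCommSL H) :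
    IsCommSL (fromBlocks G 0 0 H) := by
  obtain ⟨a, b, rfl⟩ := hG
  obtain ⟨a', b', rfl⟩ := hH
  have hd : ∀ (x : Matrix.SpecialLinearGroup ι F) (y : Matrix.SpecialLinearGroup κ F),
      (fromBlocks x.1 0 0 y.1).det = 1 := fun x y => by
    rw [det_fromBlocks_zero₁₂, x.2, y.2, one_mul]
  let mk : Matrix.SpecialLinearGroup ι F → Matrix.SpecialLinearGroup κ F →
      Matrix.SpecialLinearGroup (ι ⊕ κ) F := fun x y => ⟨_, hd x y⟩
  have hmul : ∀ x y x' y', mk x y * mk x' y' = mk (x * x') (y * y') := fun x y x' y' =>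
    Subtype.ext (by
      show fromBlocks x.1 0 0 y.1 * fromBlocks x'.1 0 0 y'.1 = _
      rw [fromBlocks_multiply]
      simp [mk])
  have hone : mk 1 1 = 1 := Subtype.ext fromBlocks_one
  have hi : ∀ x y, (mk x y)⁻¹ = mk x⁻¹ y⁻¹ := fun x y =>
    inv_eq_of_mul_eq_one_right (by rw [hmul, mul_inv_cancel, mul_inv_cancel, hone])
  refine ⟨mk a a', mk b b', ?_⟩
  rw [hi, hi, hmul, hmul, hmul]

/-- A block diagonal unit. -/
def blkGL (D : GL ι F) (E : GL κ F) : GL (ι ⊕ κ) F :=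
  ⟨fromBlocks D.val 0 0 E.val, fromBlocks (D⁻¹).val 0 0 (E⁻¹).val,
    by rw [fromBlocks_multiply]; simp [fromBlocks_one],
    by rw [fromBlocks_multiply]; simp [fromBlocks_one]⟩

theorem det_blkGL (D : GL ι F) (E : GL κ F) :
    (blkGL D E : Matrix (ι ⊕ κ) (ι ⊕ κ) F).det = (D : Matrix ι ι F).det * (E : Matrix κ κ F).det :=
  det_fromBlocks_zero₁₂ _ _ _

theorem DS.blk {D : GL ι F} {E : GL κ F} (h : DS E) : DS (blkGL D E) := by
  intro c hc
  obtain ⟨Z, hZ, hd⟩ := h c hc
  refine ⟨blkGL 1 Z, Units.ext ?_, by simp [det_blkGL, hd]⟩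
  have h1 := congrArg Units.val hZ.eq
  simp only [blkGL, Units.val_mul, fromBlocks_multiply] at h1 ⊢
  simp [h1]

theorem DS.of_scalar [Subsingleton ι] [Nonempty ι] (D : GL ι F) : DS D := by
  intro c hc
  have : Unique ι := uniqueOfSubsingleton (Classical.arbitrary ι)
  refine ⟨Matrix.GeneralLinearGroup.mkOfDetNeZero (c • (1 : Matrix ι ι F))
    (by simp [hc]), Units.ext ?_, by simp [Matrix.GeneralLinearGroup.mkOfDetNeZero]⟩
  simp [Matrix.GeneralLinearGroup.mkOfDetNeZero]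

/-- A polynomial killing one and invertible at the other separates. -/
theorem sep_of_aeval {D : GL ι F} {E : GL κ F} (p : Polynomial F)
    (h0 : Polynomial.aeval (D : Matrix ι ι F) p = 0)
    (h1 : IsUnit (Polynomial.aeval (E : Matrix κ κ F) p)) : Sep D E := by
  constructor <;> intro T hT
  · have hpow : ∀ k : ℕ, (E : Matrix κ κ F) ^ k * T = T * (D : Matrix ι ι F) ^ k := by
      intro k
      induction k with
      | zero => simp
      | succ k ih =>
        rw [pow_succ, Matrix.mul_assoc, hT, ← Matrix.mul_assoc, ih, Matrix.mul_assoc, ← pow_succ]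
    have : Polynomial.aeval (E : Matrix κ κ F) p * T = T * Polynomial.aeval (D : Matrix ι ι F) p := by
      simp only [Polynomial.aeval_eq_sum_range, Matrix.sum_mul, Matrix.mul_sum, Matrix.smul_mul,
        Matrix.mul_smul, hpow]
    rw [h0, Matrix.mul_zero] at this
    obtain ⟨U, hU⟩ := h1
    calc T = ((U⁻¹ : GL κ F) : Matrix κ κ F) * (U : Matrix κ κ F) * T := by simp
      _ = 0 := by rw [Matrix.mul_assoc, hU, this, Matrix.mul_zero]
  · have hpow : ∀ k : ℕ, (D : Matrix ι ι F) ^ k * T = T * (E : Matrix κ κ F) ^ k := by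
      intro k
      induction k with
      | zero => simp
      | succ k ih =>
        rw [pow_succ, Matrix.mul_assoc, hT, ← Matrix.mul_assoc, ih, Matrix.mul_assoc, ← pow_succ]
    have : Polynomial.aeval (D : Matrix ι ι F) p * T = T * Polynomial.aeval (E : Matrix κ κ F) p := by
      simp only [Polynomial.aeval_eq_sum_range, Matrix.sum_mul, Matrix.mul_sum, Matrix.smul_mul,
        Matrix.mul_smul, hpow]
    rw [h0, Matrix.zero_mul] at this
    obtain ⟨U, hU⟩ := h1
    calc T = T * (U : Matrix κ κ F) * ((U⁻¹ : GL κ F) : Matrix κ κ F) := by simp [Matrix.mul_assoc]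
      _ = 0 := by rw [hU, ← this, Matrix.zero_mul]

theorem Sep.conj {D : GL ι F} {E : GL κ F} (h : Sep D E) (P : GL ι F) (R : GL κ F) :
    Sep (P * D * P⁻¹) (R * E * R⁻¹) := by
  constructor <;> intro T hT
  · have h1 := h.1 ((R⁻¹ : GL κ F).val * T * P.val) (by
      have := congrArg (fun M => (R⁻¹ : GL κ F).val * M * P.val) hT
      simpa [Matrix.mul_assoc] using this)
    calc T = R.val * ((R⁻¹ : GL κ F).val * T * P.val) * (P⁻¹ : GL ι F).val := by
          simp [← Matrix.mul_assoc]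
      _ = 0 := by rw [h1, Matrix.mul_zero, Matrix.zero_mul]
  · have h1 := h.2 ((P⁻¹ : GL ι F).val * T * R.val) (by
      have := congrArg (fun M => (P⁻¹ : GL ι F).val * M * R.val) hT
      simpa [Matrix.mul_assoc] using this)
    calc T = P.val * ((P⁻¹ : GL ι F).val * T * R.val) * (R⁻¹ : GL κ F).val := by
          simp [← Matrix.mul_assoc]
      _ = 0 := by rw [h1, Matrix.mul_zero, Matrix.zero_mul]

theorem Sep.inv {D : GL ι F} {E : GL κ F} (h : Sep D E) : Sep D⁻¹ E⁻¹ := by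
  constructor <;> intro T hT
  · refine h.1 T ?_
    have := congrArg (fun M => E.val * M * D.val) hT
    simpa [← Matrix.mul_assoc, eq_comm] using this
  · refine h.2 T ?_
    have := congrArg (fun M => D.val * M * E.val) hT
    simpa [← Matrix.mul_assoc, eq_comm] using this

omit [Fintype ι] [DecidableEq ι] [Fintype κ] [DecidableEq κ] in
/-- An injective Sylvester map is surjective. -/
theorem exists_sylvester [Fintype ι] [Fintype κ] (A : Matrix ι ι F) (B : Matrix κ κ F)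
    (h : ∀ T : Matrix ι κ F, A * T = T * B → T = 0) (w : Matrix ι κ F) :
    ∃ T : Matrix ι κ F, T * B - A * T = w := by
  let f : Matrix ι κ F →ₗ[F] Matrix ι κ F :=
    { toFun := fun T => T * B - A * T
      map_add' := fun S T => by rw [Matrix.add_mul, Matrix.mul_add]; abel
      map_smul' := fun c T => by simp [Matrix.smul_mul, Matrix.mul_smul, smul_sub] }
  have hinj : Function.Injective f := by
    rw [← LinearMap.ker_eq_bot, LinearMap.ker_eq_bot']
    exact fun T hT => h T (sub_eq_zero.1 hT).symm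
  exact LinearMap.injective_iff_surjective.1 hinj w

/-- Gluing along a block decomposition. -/
theorem GP.glue {D : GL ι F} {E : GL κ F} (hsep : Sep D E) {X : Matrix ι ι F} {Y : Matrix κ κ F}
    (hX : GP D X) (hY : GP E Y) (u : Matrix ι κ F) (w : Matrix κ ι F) :
    GP (blkGL D E) (fromBlocks X u w (Y + w * X⁻¹ * u)) := by
  obtain ⟨P, R, rfl⟩ := hX
  obtain ⟨P', R', rfl⟩ := hY
  set A := P * D * P⁻¹ with hA
  set B := R * D⁻¹ * R⁻¹ with hB
  set A' := P' * E * P'⁻¹ with hA'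
  set B' := R' * E⁻¹ * R'⁻¹ with hB'
  set w' := w * (B⁻¹ : GL ι F).val with hw'
  set u' := (A⁻¹ : GL ι F).val * u with hu'
  obtain ⟨T, hT⟩ := exists_sylvester A'.val A.val (hsep.conj P P').1 w'
  obtain ⟨S, hS⟩ := exists_sylvester B.val B'.val (hsep.inv.conj R R').2 u'
  let L₀ : GL (ι ⊕ κ) F := ⟨fromBlocks 1 0 T 1, fromBlocks 1 0 (-T) 1,
    by rw [fromBlocks_multiply]; simp [fromBlocks_one],
    by rw [fromBlocks_multiply]; simp [fromBlocks_one]⟩
  let U₀ : GL (ι ⊕ κ) F := ⟨fromBlocks 1 S 0 1, fromBlocks 1 (-S) 0 1,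
    by rw [fromBlocks_multiply]; simp [fromBlocks_one],
    by rw [fromBlocks_multiply]; simp [fromBlocks_one]⟩
  refine ⟨L₀ * blkGL P P', U₀ * blkGL R R', ?_⟩
  have eL : L₀ * blkGL P P' * blkGL D E * (L₀ * blkGL P P')⁻¹ =
      L₀ * blkGL A A' * L₀⁻¹ := by
    rw [_root_.mul_inv_rev, show blkGL A A' = blkGL P P' * blkGL D E * (blkGL P P')⁻¹ from
      Units.ext (by
        show fromBlocks A.val 0 0 A'.val = fromBlocks _ _ _ _ * fromBlocks _ _ _ _ * fromBlocks _ _ _ _
        simp [hA, hA', fromBlocks_multiply])]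
    group
  have eU : U₀ * blkGL R R' * (blkGL D E)⁻¹ * (U₀ * blkGL R R')⁻¹ =
      U₀ * blkGL B B' * U₀⁻¹ := by
    rw [_root_.mul_inv_rev, show blkGL B B' = blkGL R R' * (blkGL D E)⁻¹ * (blkGL R R')⁻¹ from
      Units.ext (by
        show fromBlocks B.val 0 0 B'.val = fromBlocks _ _ _ _ * fromBlocks _ _ _ _ * fromBlocks _ _ _ _
        simp [hB, hB', fromBlocks_multiply])]
    group
  rw [eL, eU, Units.val_mul, Units.val_mul, Units.val_mul, Units.val_mul, Units.val_mul]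
  show _ = fromBlocks 1 0 T 1 * fromBlocks A.val 0 0 A'.val * fromBlocks 1 0 (-T) 1 *
    (fromBlocks 1 S 0 1 * fromBlocks B.val 0 0 B'.val * fromBlocks 1 (-S) 0 1)
  simp only [fromBlocks_multiply, Matrix.one_mul, Matrix.mul_one, Matrix.zero_mul, Matrix.mul_zero,
    add_zero, zero_add, Matrix.mul_neg]
  rw [show T * A.val + -(A'.val * T) = w' by rw [← hT, sub_eq_add_neg],
    show -(B.val * S) + S * B'.val = u' by rw [← hS, sub_eq_add_neg, add_comm]]
  have hAB : (A.val * B.val)⁻¹ = (B⁻¹ : GL ι F).val * (A⁻¹ : GL ι F).val := by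
    rw [← Units.val_mul, ← Units.val_mul, ← Matrix.coe_units_inv, _root_.mul_inv_rev]
  have hAv : P.val * D.val * (P⁻¹ : GL ι F).val = A.val := by simp only [hA, Units.val_mul]
  have hBv : R.val * (D⁻¹ : GL ι F).val * (R⁻¹ : GL ι F).val = B.val := by
    simp only [hB, Units.val_mul]
  rw [hAv, hBv, hAB]
  congr 1
  · simp
  · simp [hu', ← Matrix.mul_assoc]
  · simp [hw', Matrix.mul_assoc]
  · simp [hw', hu', Matrix.mul_assoc, add_comm]

/-- The corner lemma. -/
theorem GP.corner [Subsingleton κ] [Nonempty κ] {D : GL ι F} {E : GL κ F} (hsep : Sep D E)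
    {X : Matrix ι ι F} (hX : GP D X) (u : Matrix ι κ F) (w : Matrix κ ι F) (s : Matrix κ κ F)
    (hdX : X.det = 1) (hdet : (fromBlocks X u w s).det = 1) :
    GP (blkGL D E) (fromBlocks X u w s) := by
  have : Invertible X := X.invertibleOfIsUnitDet (by rw [hdX]; exact isUnit_one)
  rw [Matrix.det_fromBlocks₁₁, hdX, one_mul, Matrix.invOf_eq_nonsing_inv] at hdet
  have : Unique κ := uniqueOfSubsingleton (Classical.arbitrary κ)
  have h1 : s - w * X⁻¹ * u = 1 := by
    ext i j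
    obtain rfl := Subsingleton.elim i j
    rw [Matrix.det_unique, Subsingleton.elim (default : κ) i] at hdet
    simpa using hdet
  have h2 : GP E (1 : Matrix κ κ F) := by
    refine ⟨1, 1, ?_⟩
    simp only [inv_one, one_mul, mul_one, mul_inv_cancel, Units.val_one]
  have := GP.glue hsep hX h2 u w
  rwa [← h1, sub_add_cancel] at this

end Cfsg.Agent.FGS77.Thompson
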