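import Cfsg.Agent.FGS77.Thompson.Glue

/-! Scalar elements of `SL_n` over a finite field are commutators. -/

set_option autoImplicit false

namespace Cfsg.Agent.FGS77.Thompson

open Matrix

variable {F : Type*} [Field F] {ι : Type*} [Fintype ι] [DecidableEq ι]

theorem isCommSL_of_rel (c : F) (a b : Matrix ι ι F) (ha : a.det = 1) (hb : b.det = 1)
    (h : a * b = c • (b * a)) : IsCommSL (c • (1 : Matrix ι ι F)) := by
  let A : Matrix.SpecialLinearGroup ι F := ⟨a, ha⟩
  let B : Matrix.SpecialLinearGroup ι F := ⟨b, hb⟩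
  refine ⟨A, B, ?_⟩
  rw [Matrix.SpecialLinearGroup.coe_mul, Matrix.SpecialLinearGroup.coe_mul,
    Matrix.SpecialLinearGroup.coe_mul]
  change _ = a * b * (A⁻¹).1 * (B⁻¹).1
  have hA : a * (A⁻¹).1 = 1 := congrArg Subtype.val (mul_inv_cancel A)
  have hB : b * (B⁻¹).1 = 1 := congrArg Subtype.val (mul_inv_cancel B)
  rw [h, Matrix.smul_mul, Matrix.smul_mul, Matrix.mul_assoc b a, hA, Matrix.mul_one, hB]

theorem perm_mul_apply (σ : Equiv.Perm ι) (M : Matrix ι ι F) (i j : ι) :
    (σ.permMatrix F * M) i j = M (σ i) j := by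
  simp [Equiv.Perm.permMatrix, Matrix.mul_apply, PEquiv.toMatrix, Equiv.toPEquiv]

/-- Scalar elements. -/
theorem isCommSL_scalar [Fintype F] (n : ℕ) (c : F) (hc : c ^ n = 1) :
    IsCommSL (c • (1 : Matrix (Fin n) (Fin n) F)) := by
  classical
  rcases Nat.eq_zero_or_pos n with rfl | hn
  · rw [Subsingleton.elim (c • (1 : Matrix (Fin 0) (Fin 0) F)) 1]; exact isCommSL_one
  obtain ⟨m, rfl⟩ : ∃ m, n = m + 1 := ⟨n - 1, by omega⟩
  have hpow : ∀ x : Fin (m + 1), c ^ ((x + 1 : Fin (m + 1)) : ℕ) = c ^ (x : ℕ) * c := fun x => by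
    rw [← pow_succ, Fin.val_add, ← pow_eq_pow_mod _ hc, Fin.val_one', pow_add,
      ← pow_eq_pow_mod _ hc, pow_one, pow_succ]
  by_cases hA : c ^ (∑ i : Fin (m + 1), (i : ℕ)) = 1
  · set σ : Equiv.Perm (Fin (m + 1)) := Equiv.subRight 1
    set ε : F := ((Equiv.Perm.sign σ : ℤ) : F)
    have hε : ε ≠ 0 := by
      rcases Int.units_eq_one_or (Equiv.Perm.sign σ) with h | h <;> simp [ε, h]
    refine isCommSL_of_rel c (Matrix.diagonal fun i : Fin (m + 1) => c ^ (i : ℕ))
      (σ.permMatrix F * Matrix.diagonal (Function.update (fun _ => (1 : F)) 0 ε⁻¹)) ?_ ?_ ?_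
    · rw [Matrix.det_diagonal, Finset.prod_pow_eq_pow_sum, hA]
    · rw [Matrix.det_mul, Matrix.det_permutation, Matrix.det_diagonal, Fin.prod_univ_succ]
      simp [Fin.succ_ne_zero, ε]
      exact mul_inv_cancel₀ hε
    · ext i j
      rw [Matrix.diagonal_mul, Matrix.smul_apply, smul_eq_mul, Matrix.mul_assoc, perm_mul_apply,
        perm_mul_apply, Matrix.diagonal_mul_diagonal, Matrix.diagonal_apply, Matrix.diagonal_apply]
      by_cases hij : σ i = j
      · subst hij
        have h := hpow (σ i)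
        rw [show σ i + 1 = i by simp [σ]] at h
        rw [if_pos rfl, if_pos rfl, h]
        ring
      · rw [if_neg hij, if_neg hij]; simp
  -- the exponent is odd: `n = 2k`, `c ^ k = -1`
  have hsum : (∑ i : Fin (m + 1), (i : ℕ)) * 2 = (m + 1) * m := by
    rw [Fin.sum_univ_eq_sum_range (fun i => i) (m + 1), Finset.sum_range_id_mul_two]
    rfl
  rcases Nat.even_or_odd' m with ⟨k, rfl | rfl⟩
  · refine absurd ?_ hA
    rw [show ∑ i : Fin (2 * k + 1), (i : ℕ) = (2 * k + 1) * k by linarith, pow_mul, hc, one_pow]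
  have hS : ∑ i : Fin (2 * k + 1 + 1), (i : ℕ) = (k + 1) * (2 * k + 1) := by linarith
  have hck : c ^ (k + 1) = -1 := by
    have h1 : c ^ (k + 1) * c ^ (k + 1) = 1 := by
      rw [← pow_add, show k + 1 + (k + 1) = 2 * k + 1 + 1 by omega, hc]
    exact (mul_self_eq_one_iff.1 h1).resolve_left fun h2 => hA (by rw [hS, pow_mul, h2, one_pow])
  have h2 : (2 : F) ≠ 0 := by
    intro h2
    apply hA
    rw [hS, pow_mul, hck, show (-1 : F) = 1 by linear_combination -h2, one_pow]
  set K := k + 1 with hK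
  have hpw : ∀ x : Fin K, c ^ ((x + 1 : Fin K) : ℕ) = if x = Fin.last k then -(c ^ (x : ℕ) * c)
      else c ^ (x : ℕ) * c := by
    intro x
    split_ifs with hx
    · subst hx
      rw [Fin.last_add_one, Fin.val_zero, pow_zero, ← pow_succ, Fin.val_last, hck, neg_neg]
    · rw [Fin.val_add_one, if_neg hx, pow_succ]
  set A₀ : Matrix (Fin 2) (Fin 2) F := !![0, c; 1, 0]
  set σ : Equiv.Perm (Fin 2 × Fin K) := (Equiv.refl _).prodCongr (Equiv.subRight 1)
  set ε : F := ((Equiv.Perm.sign σ : ℤ) : F)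
  have hε : ε ≠ 0 := by
    rcases Int.units_eq_one_or (Equiv.Perm.sign σ) with h | h <;> simp [ε, h]
  have hodd : Fintype.card F % 2 = 1 := by
    refine FiniteField.odd_card_of_char_ne_two fun h => h2 ?_
    have := ringChar.Nat.cast_ringChar (R := F)
    rw [h] at this
    exact_mod_cast this
  have hc0 : c ≠ 0 := fun h => by simp [h] at hck
  obtain ⟨x, y, hxy⟩ : ∃ x y : F, c * y ^ 2 - x ^ 2 = ε⁻¹ := by
    obtain ⟨a, b, hab⟩ := FiniteField.exists_root_sum_quadratic
      (f := Polynomial.X ^ 2 + Polynomial.C ε⁻¹) (g := Polynomial.C (-c) * Polynomial.X ^ 2)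
      (Polynomial.degree_X_pow_add_C (by norm_num) _)
      (Polynomial.degree_C_mul_X_pow 2 (neg_ne_zero.2 hc0)) hodd
    simp at hab
    exact ⟨a, b, by linear_combination -hab⟩
  set d : Fin K → Matrix (Fin 2) (Fin 2) F := fun l =>
    if l = Fin.last k then !![x, c * y; -y, -x] else 1
  have hdd : ∀ l, (d l).det = if l = Fin.last k then ε⁻¹ else 1 := fun l => by
    simp only [d]
    split_ifs with hl
    · rw [Matrix.det_fin_two_of, ← hxy]; ring
    · exact Matrix.det_one
  have key : IsCommSL (c • (1 : Matrix (Fin 2 × Fin K) (Fin 2 × Fin K) F)) := by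
    refine isCommSL_of_rel c (blockDiagonal fun l : Fin K => c ^ (l : ℕ) • A₀)
      (σ.permMatrix F * blockDiagonal d) ?_ ?_ ?_
    · rw [Matrix.det_blockDiagonal]
      simp only [Matrix.det_smul, Fintype.card_fin, A₀, Matrix.det_fin_two_of, zero_mul, mul_one,
        zero_sub]
      rw [Finset.prod_mul_distrib, Finset.prod_const, Finset.card_univ, Fintype.card_fin,
        Finset.prod_pow, Finset.prod_pow_eq_pow_sum, ← pow_mul, neg_pow c, hck]
      have hs : (∑ i : Fin K, (i : ℕ)) * 2 = K * k := by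
        rw [Fin.sum_univ_eq_sum_range (fun i => i) K, Finset.sum_range_id_mul_two]
        rfl
      rw [hs, pow_mul, hck, ← pow_succ, ← pow_add,
        show k + (K + 1) = 2 * (k + 1) by omega, pow_mul, neg_one_sq, one_pow]
    · rw [Matrix.det_mul, Matrix.det_permutation, Matrix.det_blockDiagonal]
      simp only [hdd, Finset.prod_ite_eq', Finset.mem_univ, if_true]
      exact mul_inv_cancel₀ hε
    · ext ⟨i, l⟩ ⟨j, l'⟩
      rw [Matrix.smul_apply, smul_eq_mul, Matrix.mul_apply, Matrix.mul_assoc, perm_mul_apply,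
        ← blockDiagonal_mul]
      simp only [blockDiagonal_apply, σ, Equiv.prodCongr_apply, Equiv.refl_apply, Prod.map_apply,
        perm_mul_apply, Fintype.sum_prod_type, ite_mul, zero_mul, Finset.sum_ite_eq,
        Finset.mem_univ, if_true]
      simp only [Equiv.subRight_apply]
      by_cases hl : l - 1 = l'
      · subst hl
        simp only [if_true]
        have := hpw (l - 1)
        rw [sub_add_cancel] at this
        rw [this]
        simp only [d]
        split_ifs with hx
        · fin_cases i <;> fin_cases j <;>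
            simp [A₀, Matrix.mul_apply, Fin.sum_univ_two, Matrix.one_apply] <;> ring
        · fin_cases i <;> fin_cases j <;>
            simp [A₀, Matrix.mul_apply, Fin.sum_univ_two, Matrix.one_apply] <;> ring
      · simp [hl]
  have hcard : Fintype.card (Fin 2 × Fin K) = 2 * k + 1 + 1 := by simp [hK]; omega
  have := key.reindex (Fintype.equivFinOfCardEq hcard)
  rwa [Matrix.reindex_apply, Matrix.submatrix_smul, Pi.smul_apply, Pi.smul_apply,
    Matrix.submatrix_one_equiv] at this

end Cfsg.Agent.FGS77.Thompson
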