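import Cfsg.Agent.FGS77.Thompson.Avoid

/-! The choice of the next vector in the factorisation into regular unipotent maps. -/

set_option autoImplicit false

namespace Cfsg.Agent.FGS77.Thompson

variable {F V : Type*} [Field F] [AddCommGroup V] [Module F V]

/-- The conditions on a vector `x` and a vector `u` that drive the induction. -/
structure Hyp (G : Module.End F V) (x u : V) : Prop where
  rank : 2 ≤ Module.finrank F (LinearMap.range (G - 1))
  noneig : ∀ c : F, G x ≠ c • x
  img : x ∈ LinearMap.range (G - 1) → LinearMap.range (G - 1) = ⊤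
  three : Module.finrank F V = 3 → LinearMap.range (G - 1) ≠ ⊤ → (G - 1) ((G - 1) x) ≠ 0
  three' : Module.finrank F V = 3 → LinearMap.range (G - 1) = ⊤ →
    ∀ t : F, (G - 1) ((G - 1) x) ≠ t • G x
  vec : ∀ t : F, G u ≠ t • (G - 1) x

theorem exists_noneig (f : Module.End F V) (h : ∀ c : F, f ≠ c • 1) :
    ∃ y, ∀ c : F, f y ≠ c • y := by
  by_contra hc
  push Not at hc
  by_cases hz : ∀ v : V, v = 0
  · exact h 0 (LinearMap.ext fun v => by rw [hz v]; simp)
  push Not at hz
  obtain ⟨v, hv⟩ := hz
  obtain ⟨c, hcv⟩ := hc v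
  refine h c (LinearMap.ext fun w => ?_)
  obtain ⟨d, hdw⟩ := hc w
  simp only [LinearMap.smul_apply, Module.End.one_apply]
  by_cases hw : w ∈ F ∙ v
  · obtain ⟨s, rfl⟩ := Submodule.mem_span_singleton.1 hw
    rw [map_smul, hcv, smul_comm]
  obtain ⟨e, he⟩ := hc (v + w)
  rw [map_add, hcv, hdw] at he
  have h0 : (c - e) • v + (d - e) • w = 0 := by linear_combination (norm := module) he
  have hde : d = e := by
    by_contra hne
    refine hw (Submodule.mem_span_singleton.2 ⟨-((d - e)⁻¹ * (c - e)), ?_⟩)
    have := congrArg (fun z => (d - e)⁻¹ • z) h0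
    simp only [smul_add, smul_smul, inv_mul_cancel₀ (sub_ne_zero.2 hne), one_smul, smul_zero] at this
    linear_combination (norm := module) -this
  rw [hde, sub_self, zero_smul, add_zero, smul_eq_zero] at h0
  rw [hdw, hde, sub_eq_zero.1 (h0.resolve_right hv)]

variable [FiniteDimensional F V]

open Polynomial in
/-- In dimension three, `(G - 1)² = t • G` is impossible for `det G = 1` and bijective `G - 1`,
unless `G` is scalar. -/
theorem sq_ne_smul (G : Module.End F V) (h3 : Module.finrank F V = 3) (hdet : LinearMap.det G = 1)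
    (hns : ∀ c : F, G ≠ c • 1) (hinj : Function.Injective (G - 1 : Module.End F V)) (t : F) :
    (G - 1) * (G - 1) ≠ t • G := by
  intro hN
  have hne : Nontrivial V := Module.nontrivial_of_finrank_eq_succ h3
  set a : F := 2 + t with ha
  have h2 : G * G = a • G - 1 := by
    rw [mul_sub, sub_mul, sub_mul, one_mul, mul_one, one_mul] at hN
    rw [ha]
    linear_combination (norm := module) hN
  have hdeg : G.charpoly.natDegree = 3 := by rw [LinearMap.charpoly_natDegree, h3]
  have hlc : G.charpoly.coeff 3 = 1 := by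
    rw [← hdeg]; exact (LinearMap.charpoly_monic G).coeff_natDegree
  have hc0 : G.charpoly.coeff 0 = -1 := by
    have := LinearMap.det_eq_sign_charpoly_coeff G
    rw [hdet, h3] at this
    linear_combination this
  have hCH := LinearMap.aeval_self_charpoly G
  rw [aeval_eq_sum_range, hdeg] at hCH
  simp only [Finset.sum_range_succ, Finset.sum_range_zero, zero_add, pow_zero, pow_one, hlc, hc0]
    at hCH
  rw [pow_succ' G 2, pow_two, h2, mul_sub, mul_smul_comm, h2, mul_one] at hCH
  set b := G.charpoly.coeff 1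
  set d := G.charpoly.coeff 2
  have h0 : (a * a - 1 + d * a + b) • G + (-a - d - 1) • (1 : Module.End F V) = 0 := by
    linear_combination (norm := module) hCH
  have hA : a * a - 1 + d * a + b = 0 := by
    by_contra hA
    refine hns (-(-a - d - 1) / (a * a - 1 + d * a + b)) ?_
    have := congrArg (fun z => (a * a - 1 + d * a + b)⁻¹ • z) h0
    simp only [smul_add, smul_smul, inv_mul_cancel₀ hA, one_smul, smul_zero] at this
    rw [eq_neg_of_add_eq_zero_left this, ← neg_smul]
    ring_nf
  have hB : -a - d - 1 = 0 := by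
    rw [hA, zero_smul, zero_add, smul_eq_zero] at h0
    exact h0.resolve_right one_ne_zero
  have h1 : G.charpoly.IsRoot 1 := by
    rw [Polynomial.IsRoot, eval_eq_sum_range, hdeg]
    simp only [Finset.sum_range_succ, Finset.sum_range_zero, zero_add, hlc, hc0, one_pow, mul_one]
    linear_combination hA + (a - 1) * hB
  obtain ⟨v, hv⟩ := ((Module.End.hasEigenvalue_iff_isRoot_charpoly G 1).2 h1).exists_hasEigenvector
  exact hv.2 (hinj (by simp [hv.apply_eq_smul]))

/-- The choice of the next vector. -/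
theorem exists_hyp (e : Fin 4 ↪ F) (G Gi : Module.End F V) (hGi : G * Gi = 1)
    (hdet : LinearMap.det G = 1) (hr : 2 ≤ Module.finrank F (LinearMap.range (G - 1)))
    (hns : ∀ c : F, G ≠ c • 1) (w : Module.Dual F V) (hw : w ≠ 0) (u : V) (hu : u ≠ 0) :
    ∃ x, x ≠ 0 ∧ w (Gi x) ≠ 0 ∧ Hyp G x (Gi u) := by
  have hGG : ∀ v, G (Gi v) = v := fun v => by rw [← Module.End.mul_apply, hGi]; rfl
  have hGi' : Gi * G = 1 := mul_eq_one_comm.1 hGi
  have hGinj : ∀ v, Gi (G v) = v := fun v => by rw [← Module.End.mul_apply, hGi']; rfl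
  have hdim : 2 ≤ Module.finrank F V := hr.trans (Submodule.finrank_le _)
  set N : Module.End F V := G - 1 with hN
  have hK : LinearMap.ker (w ∘ₗ Gi) ≠ ⊤ := fun h => hw (LinearMap.ext fun v => by
    have := LinearMap.mem_ker.1 (h ▸ Submodule.mem_top : G v ∈ LinearMap.ker (w ∘ₗ Gi))
    simpa [hGinj] using this)
  set P := (F ∙ u).comap N with hPdef
  have hP : P ≠ ⊤ := fun h => by
    have h1 : LinearMap.range N ≤ F ∙ u := by
      rintro _ ⟨v, rfl⟩
      exact (h ▸ Submodule.mem_top : v ∈ P)
    have := Submodule.finrank_mono h1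
    rw [finrank_span_singleton hu] at this
    omega
  have hvec : ∀ x, x ∉ P → ∀ t : F, G (Gi u) ≠ t • N x := by
    intro x hx t ht
    rw [hGG] at ht
    refine hx (Submodule.mem_span_singleton.2 ⟨t⁻¹, ?_⟩)
    have ht0 : t ≠ 0 := fun e => hu (by simp [ht, e])
    rw [ht, smul_smul, inv_mul_cancel₀ ht0, one_smul]
  have heig : ∀ x, x ∉ P → ∀ c : F, G x = c • x → c ≠ 1 := by
    intro x hx c hc e
    exact hx (show N x ∈ F ∙ u by simp [hN, hc, e])
  by_cases htop : LinearMap.range N = ⊤
  swap
  · set Q : Submodule F V := if Module.finrank F V = 3 then LinearMap.ker (N ∘ₗ N) else ⊥ with hQdef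
    have hQ : Q ≠ ⊤ := by
      intro h
      by_cases h3 : Module.finrank F V = 3
      · rw [hQdef, if_pos h3] at h
        have h1 : LinearMap.range N ≤ LinearMap.ker N := by
          rintro _ ⟨v, rfl⟩
          exact LinearMap.mem_ker.2
            (LinearMap.mem_ker.1 (h ▸ Submodule.mem_top : v ∈ LinearMap.ker (N ∘ₗ N)))
        have := Submodule.finrank_mono h1
        have := LinearMap.finrank_range_add_finrank_ker N
        omega
      · rw [hQdef, if_neg h3] at h
        have := congrArg (fun p : Submodule F V => Module.finrank F p) h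
        simp at this
        omega
    obtain ⟨x, hx⟩ := exists_avoid e [LinearMap.ker (w ∘ₗ Gi), P, LinearMap.range N, Q] le_rfl
      (by simp [hK, hP, htop, hQ])
    simp only [List.forall_mem_cons] at hx
    obtain ⟨hxK, hxP, hxR, hxQ, -⟩ := hx
    refine ⟨x, fun e => hxP (e ▸ P.zero_mem), fun e => hxK (LinearMap.mem_ker.2 e), hr, ?_,
      fun hR => absurd hR hxR, fun h3 _ => ?_, fun _ h => absurd h htop, hvec x hxP⟩
    · intro c hc
      have hc1 := heig x hxP c hc
      refine hxR ⟨(c - 1)⁻¹ • x, ?_⟩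
      rw [map_smul, show N x = (c - 1) • x by simp [hN, hc, sub_smul], smul_smul,
        inv_mul_cancel₀ (sub_ne_zero.2 hc1), one_smul]
    · rw [hQdef, if_pos h3] at hxQ
      exact fun e => hxQ (LinearMap.mem_ker.2 e)
  have hinj : Function.Injective N :=
    LinearMap.injective_iff_surjective.2 (LinearMap.range_eq_top.1 htop)
  set f : Module.End F V := if Module.finrank F V = 3 then Gi * (N * N) else G with hfdef
  have hf : ∀ c : F, f ≠ c • 1 := by
    intro c hc
    by_cases h3 : Module.finrank F V = 3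
    · rw [hfdef, if_pos h3] at hc
      refine sq_ne_smul G h3 hdet hns hinj c ?_
      have := congrArg (G * ·) hc
      rwa [← mul_assoc, hGi, one_mul, mul_smul_comm, mul_one] at this
    · rw [hfdef, if_neg h3] at hc
      exact hns c hc
  obtain ⟨y, hy⟩ := exists_noneig f hf
  have hy0 : y ≠ 0 := fun e => hy 0 (by simp [e])
  obtain ⟨z, hz, hwz⟩ : ∃ z, z ∉ F ∙ y ∧ (w (Gi y) ≠ 0 ∨ w (Gi z) ≠ 0) := by
    by_cases hwy : w (Gi y) = 0
    · obtain ⟨v, hv⟩ : ∃ v, w (Gi v) ≠ 0 := by
        by_contra hcon
        push Not at hcon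
        exact hK (LinearMap.ker_eq_top.2 (LinearMap.ext hcon))
      refine ⟨v, fun hm => ?_, Or.inr hv⟩
      obtain ⟨s, rfl⟩ := Submodule.mem_span_singleton.1 hm
      simp [hwy] at hv
    · obtain ⟨v, hv⟩ : ∃ v, v ∉ F ∙ y := by
        by_contra hcon
        push Not at hcon
        exact span_singleton_ne_top hdim y (eq_top_iff.2 fun v _ => hcon v)
      exact ⟨v, hv, Or.inl hwy⟩
  set PL : Submodule F V := Submodule.span F (Set.range ![y, z]) with hpl
  have hPL : Module.finrank F PL = 2 := by
    rw [hpl, finrank_span_eq_card]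
    · simp
    · rw [LinearIndependent.pair_iff]
      intro s t hst
      have ht : t = 0 := by
        by_contra ht
        refine hz (Submodule.mem_span_singleton.2 ⟨-(t⁻¹ * s), ?_⟩)
        have := congrArg (fun v => t⁻¹ • v) hst
        simp only [smul_add, smul_smul, inv_mul_cancel₀ ht, one_smul, smul_zero] at this
        linear_combination (norm := module) -this
      subst ht
      simp [hy0] at hst
      exact ⟨hst, rfl⟩
  have hyPL : y ∈ PL := Submodule.subset_span ⟨0, rfl⟩
  have hzPL : z ∈ PL := Submodule.subset_span ⟨1, rfl⟩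
  obtain ⟨a, b, hab⟩ := exists_two_lines f PL hPL.le hyPL hy
  have hline : ∀ p : Submodule F V, Module.finrank F p ≤ 1 → p.comap PL.subtype ≠ ⊤ := by
    intro p hp h
    have h1 : PL ≤ p := fun v hv => (h ▸ Submodule.mem_top : (⟨v, hv⟩ : PL) ∈ p.comap PL.subtype)
    have := Submodule.finrank_mono h1
    omega
  have hsp : ∀ v : V, Module.finrank F (F ∙ v) ≤ 1 := fun v =>
    (finrank_span_le_card ({v} : Set V)).trans (by simp)
  have hP1 : Module.finrank F P ≤ 1 := by
    refine le_trans ?_ (hsp u)
    refine LinearMap.finrank_le_finrank_of_injective (f := N.restrict (p := P) (q := F ∙ u) fun v hv => hv) ?_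
    intro p q hpq
    exact Subtype.ext (hinj (congrArg Subtype.val hpq :))
  have hK' : (LinearMap.ker (w ∘ₗ Gi)).comap PL.subtype ≠ ⊤ := by
    intro h
    rcases hwz with h' | h'
    · exact h' (LinearMap.mem_ker.1
        (h ▸ Submodule.mem_top : (⟨y, hyPL⟩ : PL) ∈ (LinearMap.ker (w ∘ₗ Gi)).comap PL.subtype))
    · exact h' (LinearMap.mem_ker.1
        (h ▸ Submodule.mem_top : (⟨z, hzPL⟩ : PL) ∈ (LinearMap.ker (w ∘ₗ Gi)).comap PL.subtype))
  obtain ⟨⟨x, hxPL⟩, hx⟩ := exists_avoid e [(LinearMap.ker (w ∘ₗ Gi)).comap PL.subtype,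
    P.comap PL.subtype, (F ∙ a).comap PL.subtype, (F ∙ b).comap PL.subtype] le_rfl
    (by simp [hK', hline _ hP1, hline _ (hsp a), hline _ (hsp b)])
  simp only [List.forall_mem_cons, Submodule.mem_comap, Submodule.coe_subtype] at hx
  obtain ⟨hxK, hxP, hxa, hxb, -⟩ := hx
  have hfx : ∀ c : F, f x ≠ c • x := fun c hc => (hab x hxPL c hc).elim hxa hxb
  refine ⟨x, fun e => hxP (e ▸ P.zero_mem), fun e => hxK (LinearMap.mem_ker.2 e), hr, ?_,
    fun _ => htop, fun _ h => absurd htop h, fun h3 _ t ht => ?_, hvec x hxP⟩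
  · intro c hc
    by_cases h3 : Module.finrank F V = 3
    · have hc0 : c ≠ 0 := by
        rintro rfl
        rw [zero_smul] at hc
        exact hfx 0 (by rw [← hGinj x, hc, map_zero, map_zero, smul_zero])
      refine hfx ((c - 1) * (c - 1) * c⁻¹) ?_
      rw [hfdef, if_pos h3]
      have h1 : N x = (c - 1) • x := by simp [hN, hc, sub_smul]
      have h2 : Gi x = c⁻¹ • x := by
        conv_rhs => rw [← hGinj x, hc, map_smul, smul_smul, inv_mul_cancel₀ hc0, one_smul]
      rw [Module.End.mul_apply, Module.End.mul_apply, h1, map_smul, h1, smul_smul, map_smul, h2,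
        smul_smul]
    · exact hfx c (by rw [hfdef, if_neg h3]; exact hc)
  · refine hfx t ?_
    rw [hfdef, if_pos h3, Module.End.mul_apply, Module.End.mul_apply]
    rw [ht, map_smul, hGinj]

end Cfsg.Agent.FGS77.Thompson
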