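import Cfsg.Agent.FGS77.Thompson.Sim

/-! Matrices sending each basis vector but the last to the next one. -/

set_option autoImplicit false

namespace Cfsg.Agent.FGS77.Thompson

open Matrix

variable {F : Type*} [Field F]

/-- All columns but the last are those of the shift. -/
def Shifted {n : ℕ} (G : Matrix (Fin n) (Fin n) F) : Prop :=
  ∀ i j : Fin n, (j : ℕ) + 1 < n → G i j = if (i : ℕ) = (j : ℕ) + 1 then 1 else 0

/-- Zero below the subdiagonal, one on it. -/
def Hess {n : ℕ} (G : Matrix (Fin n) (Fin n) F) : Prop :=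
  ∀ i j : Fin n, (j : ℕ) + 1 ≤ i → G i j = if (i : ℕ) = (j : ℕ) + 1 then 1 else 0

/-- `k ↦ k` on `Fin m`, the extra point is the last. -/
abbrev lastEquiv (m : ℕ) : Fin m ⊕ Fin 1 ≃ Fin (m + 1) := finSumFinEquiv

/-- Conjugating by a shear in the last vector. -/
theorem sim_shear {ι κ : Type*} [Fintype ι] [DecidableEq ι] [Fintype κ] [DecidableEq κ]
    (A : Matrix ι ι F) (B : Matrix ι κ F) (C : Matrix κ ι F) (D : Matrix κ κ F) (z : Matrix ι κ F) :
    ∃ (u : Matrix ι κ F) (w : Matrix κ ι F) (s : Matrix κ κ F),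
      Sim (fromBlocks A B C D) (fromBlocks (A - z * C) u w s) := by
  let P : GL (ι ⊕ κ) F := ⟨fromBlocks 1 z 0 1, fromBlocks 1 (-z) 0 1,
    by rw [fromBlocks_multiply]; simp [fromBlocks_one],
    by rw [fromBlocks_multiply]; simp [fromBlocks_one]⟩
  refine ⟨A * z + B - z * (C * z + D), C, C * z + D, Equiv.refl _, P, ?_⟩
  show _ = fromBlocks 1 z 0 1 * _ * fromBlocks 1 (-z) 0 1
  simp only [Matrix.reindex_apply, Equiv.refl_symm, Equiv.coe_refl, Matrix.submatrix_id_id,
    fromBlocks_multiply]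
  congr 1
  · simp
  · simp [Matrix.mul_neg, Matrix.mul_add, Matrix.mul_sub]
  · simp
  · simp

/-- A shifted matrix can have any shifted matrix as its corner. -/
theorem exists_corner_shifted {m : ℕ} {G : Matrix (Fin (m + 1)) (Fin (m + 1)) F} (hG : Shifted G)
    {X : Matrix (Fin m) (Fin m) F} (hX : Shifted X) :
    ∃ (u : Matrix (Fin m) (Fin 1) F) (w : Matrix (Fin 1) (Fin m) F) (s : Matrix (Fin 1) (Fin 1) F),
      Sim G (fromBlocks X u w s) := by
  set G' := Matrix.reindex (lastEquiv m).symm (lastEquiv m).symm G with hG'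
  have hsim : Sim G G' := (Sim.of_reindex _ G).symm
  set z : Matrix (Fin m) (Fin 1) F := Matrix.of fun i _ =>
    if h : 0 < m then -(X i ⟨m - 1, by omega⟩) else 0 with hz
  obtain ⟨u, w, s, h⟩ := sim_shear G'.toBlocks₁₁ G'.toBlocks₁₂ G'.toBlocks₂₁ G'.toBlocks₂₂ z
  rw [fromBlocks_toBlocks] at h
  have hXeq : G'.toBlocks₁₁ - z * G'.toBlocks₂₁ = X := by
    ext i j
    have hm : 0 < m := Fin.pos j
    have hj : (j : ℕ) + 1 < m + 1 := by have := j.isLt; omega
    have e1 : G'.toBlocks₁₁ i j = if (i : ℕ) = (j : ℕ) + 1 then 1 else 0 := by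
      show G (lastEquiv m (Sum.inl i)) (lastEquiv m (Sum.inl j)) = _
      rw [hG _ _ (by simp [j.isLt])]
      exact if_congr (by simp) rfl rfl
    have e2 : G'.toBlocks₂₁ 0 j = if m = (j : ℕ) + 1 then 1 else 0 := by
      show G (lastEquiv m (Sum.inr 0)) (lastEquiv m (Sum.inl j)) = _
      rw [hG _ _ (by simp [j.isLt])]
      exact if_congr (by simp) rfl rfl
    rw [Matrix.sub_apply, Matrix.mul_apply, Fin.sum_univ_one, e1, e2]
    by_cases hjl : m = (j : ℕ) + 1
    · have hi := i.isLt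
      rw [if_neg (by omega), if_pos hjl, hz, Matrix.of_apply, dif_pos hm,
        show (⟨m - 1, by omega⟩ : Fin m) = j from Fin.ext (by simp; omega)]
      ring
    · have := j.isLt
      rw [if_neg hjl, hX i j (by omega)]
      ring
  rw [hXeq] at h
  exact ⟨u, w, s, hsim.trans h⟩

theorem det_shifted {m : ℕ} {X : Matrix (Fin (m + 1)) (Fin (m + 1)) F} (hX : Shifted X) :
    X.det = (-1) ^ m * X 0 (Fin.last m) := by
  rw [Matrix.det_succ_row_zero, Finset.sum_eq_single (Fin.last m)]
  · have : X.submatrix Fin.succ (Fin.last m).succAbove = 1 := by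
      ext i j
      rw [Matrix.submatrix_apply, Fin.succAbove_last, hX _ _ (by simp [j.isLt]), Matrix.one_apply]
      simp [Fin.ext_iff]
    rw [this, Matrix.det_one, mul_one, Fin.val_last]
  · intro j _ hj
    have hjl : (j : ℕ) + 1 < m + 1 := by
      have := Fin.val_lt_last hj
      omega
    rw [hX 0 j hjl]
    simp
  · simp

/-- Two shifted blocks whose product of determinants is one have a shifted corner of
determinant one. -/
theorem exists_corner_pair {a b : ℕ} {A : Matrix (Fin (a + 2)) (Fin (a + 2)) F}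
    {B : Matrix (Fin (b + 1)) (Fin (b + 1)) F} (hA : Shifted A) (hB : Shifted B)
    (hdB : B.det ≠ 0) :
    ∃ (X : Matrix (Fin (a + 1 + (b + 1))) (Fin (a + 1 + (b + 1))) F) (_ : Hess X)
      (_ : X.det = 1) (u : Matrix (Fin (a + 1 + (b + 1))) (Fin 1) F)
      (w : Matrix (Fin 1) (Fin (a + 1 + (b + 1))) F) (s : Matrix (Fin 1) (Fin 1) F),
      Sim (fromBlocks A 0 0 B) (fromBlocks X u w s) := by
  set A' := Matrix.reindex (lastEquiv (a + 1)).symm (lastEquiv (a + 1)).symm A with hA'
  have hA11 : ∀ i j, A'.toBlocks₁₁ i j = if (i : ℕ) = (j : ℕ) + 1 then 1 else 0 := fun i j => by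
    show A (lastEquiv (a + 1) (Sum.inl i)) (lastEquiv (a + 1) (Sum.inl j)) = _
    rw [hA _ _ (by have := j.isLt; simp; omega)]
    exact if_congr (by simp) rfl rfl
  have hA21 : ∀ j, A'.toBlocks₂₁ 0 j = if a + 1 = (j : ℕ) + 1 then 1 else 0 := fun j => by
    show A (lastEquiv (a + 1) (Sum.inr 0)) (lastEquiv (a + 1) (Sum.inl j)) = _
    rw [hA _ _ (by have := j.isLt; simp; omega)]
    exact if_congr (by simp) rfl rfl
  -- regroup as (first part of `A`, `B`), last of `A`
  set big : Matrix ((Fin (a + 1) ⊕ Fin (b + 1)) ⊕ Fin 1) ((Fin (a + 1) ⊕ Fin (b + 1)) ⊕ Fin 1) F :=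
    fromBlocks (fromBlocks A'.toBlocks₁₁ 0 0 B)
      (Matrix.of fun i k => Sum.elim (fun p => A'.toBlocks₁₂ p k) (fun _ => 0) i)
      (Matrix.of fun k j => Sum.elim (fun p => A'.toBlocks₂₁ k p) (fun _ => 0) j)
      A'.toBlocks₂₂ with hbig
  have hsim : Sim (fromBlocks A 0 0 B) big := by
    have h1 : Sim (fromBlocks A 0 0 B) (fromBlocks A' 0 0 B) :=
      Sim.blocks (Sim.of_reindex _ A).symm (Sim.refl B)
    refine h1.trans ⟨(Equiv.sumAssoc _ _ _).trans
      (((Equiv.refl _).sumCongr (Equiv.sumComm _ _)).trans (Equiv.sumAssoc _ _ _).symm), 1, ?_⟩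
    ext ((i | i) | i) ((j | j) | j) <;>
      simp [hbig, Matrix.toBlocks₁₁, Matrix.toBlocks₁₂, Matrix.toBlocks₂₁, Matrix.toBlocks₂₂]
  set r0 : F := (-1) ^ a * B.det⁻¹ with hr0
  set z : Matrix (Fin (a + 1) ⊕ Fin (b + 1)) (Fin 1) F := Matrix.of fun i _ =>
    Sum.elim (fun p : Fin (a + 1) => if p = 0 then -r0 else 0)
      (fun q : Fin (b + 1) => if q = 0 then (-1 : F) else 0) i with hz
  obtain ⟨u, w, s, h⟩ := sim_shear (fromBlocks A'.toBlocks₁₁ 0 0 B) _ _ A'.toBlocks₂₂ z
  set X₀ := fromBlocks A'.toBlocks₁₁ 0 0 B - z * (Matrix.of fun (k : Fin 1) j =>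
    Sum.elim (fun p => A'.toBlocks₂₁ k p) (fun _ => (0 : F)) j) with hX₀
  set R : Matrix (Fin (a + 1)) (Fin (a + 1)) F := Matrix.of fun i j =>
    if (j : ℕ) + 1 < a + 1 then (if (i : ℕ) = (j : ℕ) + 1 then 1 else 0)
    else (if i = 0 then r0 else 0) with hR
  set E : Matrix (Fin (b + 1)) (Fin (a + 1)) F := Matrix.of fun i j =>
    if (j : ℕ) + 1 < a + 1 then 0 else (if i = 0 then (1 : F) else 0) with hE
  have hX₀eq : X₀ = fromBlocks R 0 E B := by
    ext (i | i) (j | j) <;>
      simp only [hX₀, Matrix.sub_apply, Matrix.mul_apply, Fin.sum_univ_one, fromBlocks_apply₁₁,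
        fromBlocks_apply₁₂, fromBlocks_apply₂₁, fromBlocks_apply₂₂, hz, Matrix.of_apply,
        Sum.elim_inl, Sum.elim_inr, hA11, hA21, hR, hE, Matrix.zero_apply, mul_zero, sub_zero]
    · have := i.isLt
      have := j.isLt
      by_cases hj : (j : ℕ) + 1 < a + 1
      · rw [if_pos hj, if_neg (by omega : ¬ a + 1 = (j : ℕ) + 1)]; ring
      · rw [if_neg hj, if_neg (by omega : ¬ (i : ℕ) = (j : ℕ) + 1),
          if_pos (by omega : a + 1 = (j : ℕ) + 1)]
        split_ifs <;> ring
    · have := j.isLt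
      by_cases hj : (j : ℕ) + 1 < a + 1
      · rw [if_pos hj, if_neg (by omega : ¬ a + 1 = (j : ℕ) + 1)]; ring
      · rw [if_neg hj, if_pos (by omega : a + 1 = (j : ℕ) + 1)]
        split_ifs <;> ring
  set e := (finSumFinEquiv : Fin (a + 1) ⊕ Fin (b + 1) ≃ Fin (a + 1 + (b + 1)))
  refine ⟨Matrix.reindex e e X₀, ?_, ?_,
    u.submatrix e.symm id, w.submatrix id e.symm, s, ?_⟩
  · intro i j hj
    obtain ⟨i, rfl⟩ := e.surjective i
    obtain ⟨j, rfl⟩ := e.surjective j
    rw [hX₀eq, Matrix.reindex_apply, Matrix.submatrix_apply, Equiv.symm_apply_apply,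
      Equiv.symm_apply_apply]
    have hi := (e i).isLt
    rcases i with i | i <;> rcases j with j | j <;>
      simp [e, hR, hE] at hj hi ⊢
    · have := i.isLt
      have := j.isLt
      repeat' split
      all_goals simp only [Fin.ext_iff, Fin.val_zero] at *
      all_goals first | rfl | omega | exact (if_pos (by omega)).symm | exact (if_neg (by omega)).symm
    · have := j.isLt
      have := i.isLt
      omega
    · have := j.isLt
      have := i.isLt
      repeat' split
      all_goals simp only [Fin.ext_iff, Fin.val_zero] at *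
      all_goals first | rfl | omega | exact (if_pos (by omega)).symm | exact (if_neg (by omega)).symm
    · rw [hB i j (by have := i.isLt; omega)]
      repeat' split
      all_goals first | rfl | omega | exact (if_pos (by omega)).symm | exact (if_neg (by omega)).symm
  · rw [Matrix.det_reindex_self, hX₀eq, Matrix.det_fromBlocks_zero₁₂,
      det_shifted (m := a) (X := R) (fun i j hj => by simp only [hR, Matrix.of_apply, if_pos hj])]
    simp [hR, hr0, ← mul_assoc, ← pow_add, ← two_mul, pow_mul, inv_mul_cancel₀ hdB]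
  · refine hsim.trans (h.trans ⟨e.symm.sumCongr (Equiv.refl _), 1, ?_⟩)
    ext (i | i) (j | j) <;> simp [hX₀]

/-- A cyclic vector makes a matrix similar to a shifted one. -/
theorem exists_shifted_of_krylov {n : ℕ} (G : Matrix (Fin n) (Fin n) F) (v : Fin n → F)
    (h : (Matrix.of fun i (j : Fin n) => ((G ^ (j : ℕ)) *ᵥ v) i).det ≠ 0) :
    ∃ H : Matrix (Fin n) (Fin n) F, Shifted H ∧ Sim G H := by
  set K := Matrix.of fun i (j : Fin n) => ((G ^ (j : ℕ)) *ᵥ v) i with hK
  obtain ⟨Q, hQ⟩ := (Matrix.isUnit_iff_isUnit_det K).2 (Ne.isUnit h)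
  refine ⟨(Q⁻¹).val * G * Q.val, fun i j hj => ?_, Equiv.refl _, Q,
    by simp [← Matrix.mul_assoc]⟩
  have h1 : ∀ k, (G * K) k j = K k ⟨j + 1, hj⟩ := fun k => by
    simp only [hK, Matrix.of_apply]
    rw [pow_succ', ← Matrix.mulVec_mulVec]
    rfl
  rw [Matrix.mul_assoc, hQ, Matrix.mul_apply]
  simp only [h1]
  rw [← Matrix.mul_apply, ← hQ, Units.inv_mul, Matrix.one_apply]
  simp [Fin.ext_iff]

theorem Hess.exists_shifted {n : ℕ} {X : Matrix (Fin n) (Fin n) F} (hX : Hess X) :
    ∃ H : Matrix (Fin n) (Fin n) F, Shifted H ∧ Sim X H := by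
  rcases Nat.eq_zero_or_pos n with rfl | hn
  · exact ⟨X, fun i => i.elim0, Sim.refl X⟩
  have key : ∀ k (hk : k < n), (((X ^ k) *ᵥ Pi.single ⟨0, hn⟩ 1) ⟨k, hk⟩ = 1) ∧
      ∀ i : Fin n, k < i → ((X ^ k) *ᵥ Pi.single ⟨0, hn⟩ 1) i = 0 := by
    intro k
    induction k with
    | zero =>
      intro hk
      rw [pow_zero, Matrix.one_mulVec]
      exact ⟨by simp, fun i hi => by simp [Pi.single_apply, Fin.ext_iff]; omega⟩
    | succ k ih =>
      intro hk
      obtain ⟨h1, h2⟩ := ih (by omega)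
      rw [pow_succ', ← Matrix.mulVec_mulVec]
      generalize hv : (X ^ k) *ᵥ Pi.single ⟨0, hn⟩ 1 = v at h1 h2
      refine ⟨?_, fun i hi => ?_⟩
      · simp only [Matrix.mulVec, dotProduct]
        rw [Finset.sum_eq_single (⟨k, by omega⟩ : Fin n)]
        · rw [h1, mul_one, hX _ _ (by simp), if_pos rfl]
        · intro j _ hj
          have hj' : (j : ℕ) ≠ k := fun h => hj (Fin.ext h)
          rcases Nat.lt_or_gt_of_ne hj' with h | h
          · rw [hX _ _ (by simp; omega), if_neg (by simp; omega), zero_mul]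
          · rw [h2 j h, mul_zero]
        · simp
      · simp only [Matrix.mulVec, dotProduct]
        refine Finset.sum_eq_zero fun j _ => ?_
        rcases Nat.lt_or_ge k j with h | h
        · rw [h2 j h, mul_zero]
        · rw [hX _ _ (by omega), if_neg (by omega), zero_mul]
  refine exists_shifted_of_krylov X (Pi.single ⟨0, hn⟩ 1) ?_
  rw [Matrix.det_of_isUpperTriangular (M := Matrix.of fun i (j : Fin n) =>
    ((X ^ (j : ℕ)) *ᵥ Pi.single ⟨0, hn⟩ 1) i) fun i j hij => (key j.val j.isLt).2 i hij]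
  rw [Finset.prod_eq_one fun i _ => ?_]
  · exact one_ne_zero
  · exact (key i.val i.isLt).1

theorem Shifted.pow_apply {n : ℕ} {A : Matrix (Fin n) (Fin n) F} (hA : Shifted A) (hn : 0 < n) :
    ∀ k (hk : k < n), (A ^ k) *ᵥ Pi.single ⟨0, hn⟩ 1 = Pi.single ⟨k, hk⟩ 1 := by
  intro k
  induction k with
  | zero => intro hk; rw [pow_zero, Matrix.one_mulVec]
  | succ k ih =>
    intro hk
    rw [pow_succ', ← Matrix.mulVec_mulVec, ih (by omega)]
    ext i
    rw [Matrix.mulVec_single_one, Matrix.col_apply, hA i ⟨k, by omega⟩ hk]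
    simp [Pi.single_apply, Fin.ext_iff]

open Polynomial in
theorem Shifted.eq_zero_of_aeval {n : ℕ} {A : Matrix (Fin n) (Fin n) F} (hA : Shifted A)
    (q : F[X]) (hq : q.degree < n) (h : aeval A q = 0) : q = 0 := by
  rcases Nat.eq_zero_or_pos n with rfl | hn
  · exact degree_eq_bot.1 (Nat.WithBot.lt_zero_iff.1 hq)
  ext k
  rw [coeff_zero]
  by_cases hk : k < n
  · by_cases hq0 : q = 0
    · simp [hq0]
    have hdeg : q.natDegree < n := (natDegree_lt_iff_degree_lt hq0).2 hq
    have h1 : aeval A q *ᵥ Pi.single ⟨0, hn⟩ 1 = 0 := by rw [h, Matrix.zero_mulVec]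
    rw [aeval_eq_sum_range' hdeg, Matrix.sum_mulVec] at h1
    have h2 := congrFun h1 ⟨k, hk⟩
    rw [Finset.sum_apply, Finset.sum_eq_single k] at h2
    · rw [Matrix.smul_mulVec, hA.pow_apply hn k hk] at h2
      simpa using h2
    · intro j hj hjk
      rw [Matrix.smul_mulVec, hA.pow_apply hn j (Finset.mem_range.1 hj)]
      simp [Ne.symm hjk]
    · simp [hk]
  · exact coeff_eq_zero_of_degree_lt (lt_of_lt_of_le hq (by exact_mod_cast not_lt.1 hk))

open Polynomial in
/-- Coprime shifted blocks merge. -/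
theorem exists_shifted_merge {a b : ℕ} (hb : 0 < b) (ha : 0 < a) {A : Matrix (Fin a) (Fin a) F}
    {B : Matrix (Fin b) (Fin b) F} (hA : Shifted A) (hB : Shifted B) (p : F[X])
    (hpA : aeval A p = 0) (hpB : IsUnit (aeval B p)) :
    ∃ H : Matrix (Fin (a + b)) (Fin (a + b)) F, Shifted H ∧ Sim (fromBlocks A 0 0 B) H := by
  set e := (finSumFinEquiv : Fin a ⊕ Fin b ≃ Fin (a + b))
  set G := fromBlocks A 0 0 B with hG
  set v : Fin a ⊕ Fin b → F := Sum.elim (Pi.single ⟨0, ha⟩ 1) (Pi.single ⟨0, hb⟩ 1) with hv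
  have hdet : (Matrix.of fun i (j : Fin (a + b)) =>
      ((Matrix.reindexAlgEquiv F F e G ^ (j : ℕ)) *ᵥ (v ∘ e.symm)) i).det ≠ 0 := by
    intro h0
    obtain ⟨c, hc0, hc⟩ := Matrix.exists_mulVec_eq_zero_iff.2 h0
    set q : F[X] := ∑ j : Fin (a + b), C (c j) * X ^ (j : ℕ) with hq
    have h1 : aeval (Matrix.reindexAlgEquiv F F e G) q *ᵥ (v ∘ e.symm) = 0 := by
      rw [← hc, hq, map_sum, Matrix.sum_mulVec]
      ext i
      rw [Finset.sum_apply, Matrix.mulVec, dotProduct]
      refine Finset.sum_congr rfl fun j _ => ?_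
      rw [map_mul, map_pow, aeval_C, aeval_X, ← Algebra.smul_def, Matrix.smul_mulVec]
      simp [mul_comm]
    rw [aeval_reindex, Matrix.reindexAlgEquiv_apply, Matrix.reindex_apply,
      Matrix.submatrix_mulVec_equiv] at h1
    have h2 : aeval G q *ᵥ v = 0 := by
      ext i
      have := congrFun h1 (e i)
      simpa [Function.comp_def] using this
    rw [hG, aeval_fromBlocks, hv, Matrix.fromBlocks_mulVec] at h2
    simp only [Sum.elim_comp_inl, Sum.elim_comp_inr, Matrix.zero_mulVec, add_zero, zero_add] at h2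
    have hqA : aeval A q *ᵥ Pi.single ⟨0, ha⟩ 1 = 0 := funext fun i => congrFun h2 (Sum.inl i)
    have hqB : aeval B q *ᵥ Pi.single ⟨0, hb⟩ 1 = 0 := funext fun i => congrFun h2 (Sum.inr i)
    have kill : ∀ {n : ℕ} (hn : 0 < n) {M : Matrix (Fin n) (Fin n) F}, Shifted M → ∀ r : F[X],
        aeval M r *ᵥ Pi.single ⟨0, hn⟩ 1 = 0 → aeval M r = 0 := by
      intro n hn M hM r hr
      refine Matrix.ext_of_mulVec_single fun i => ?_
      rw [← hM.pow_apply hn i.val i.isLt, Matrix.mulVec_mulVec, Matrix.zero_mulVec,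
        show aeval M r * M ^ i.val = M ^ i.val * aeval M r from by
          have h := ((Commute.all r (X ^ i.val)).map (aeval M)).eq
          rwa [map_pow, aeval_X] at h,
        ← Matrix.mulVec_mulVec, hr, Matrix.mulVec_zero]
    have hA0 := kill ha hA q hqA
    obtain ⟨r, hr⟩ := minpoly.dvd F A hA0
    have hmA : a ≤ (minpoly F A).natDegree := by
      by_contra hlt
      push Not at hlt
      refine minpoly.ne_zero (Matrix.isIntegral A) (hA.eq_zero_of_aeval _ ?_ (minpoly.aeval F A))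
      exact lt_of_le_of_lt degree_le_natDegree (by exact_mod_cast hlt)
    obtain ⟨t, ht⟩ := minpoly.dvd F A hpA
    rw [ht, map_mul] at hpB
    have hu : IsUnit (aeval B (minpoly F A)) :=
      (((Commute.all (minpoly F A) t).map (aeval B)).isUnit_mul_iff.1 hpB).1
    have hr0 : aeval B r = 0 := by
      have h3 := kill hb hB q hqB
      rw [hr, map_mul] at h3
      exact hu.mul_right_eq_zero.1 h3
    have hqdeg : q.degree < (a + b : ℕ) := degree_sum_fin_lt c
    have hq0 : q = 0 := by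
      by_contra hne
      have hrne : r ≠ 0 := fun e => hne (by rw [hr, e, mul_zero])
      have hd := natDegree_mul (minpoly.ne_zero (Matrix.isIntegral A)) hrne
      rw [← hr] at hd
      have hlt := (natDegree_lt_iff_degree_lt hne).2 hqdeg
      exact hrne (hB.eq_zero_of_aeval r ((natDegree_lt_iff_degree_lt hrne).1 (by omega)) hr0)
    refine hc0 (funext fun j => ?_)
    have := congrArg (fun s : F[X] => s.coeff j) hq0
    simp [hq, coeff_X_pow, Fin.val_inj] at this
    exact this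
  obtain ⟨H, hH, hs⟩ := exists_shifted_of_krylov _ _ hdet
  exact ⟨H, hH, (Sim.of_reindex e G).symm.trans hs⟩

end Cfsg.Agent.FGS77.Thompson
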