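import Cfsg.Agent.FGS77.Thompson.Glue

/-! Similarity across index types, and witnesses with control on the spectrum. -/

set_option autoImplicit false

namespace Cfsg.Agent.FGS77.Thompson

set_option linter.unusedSectionVars false

open Matrix

variable {F : Type*} [Field F] {ι κ μ ν : Type*} [Fintype ι] [DecidableEq ι] [Fintype κ]
  [DecidableEq κ] [Fintype μ] [DecidableEq μ] [Fintype ν] [DecidableEq ν]

/-- Similar matrices. -/
def Sim (G : Matrix ι ι F) (H : Matrix κ κ F) : Prop :=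
  ∃ (e : κ ≃ ι) (Q : GL ι F), G = Q.val * Matrix.reindex e e H * (Q⁻¹).val

theorem Sim.refl (G : Matrix ι ι F) : Sim G G := ⟨Equiv.refl _, 1, by simp⟩

theorem Sim.of_reindex (e : κ ≃ ι) (H : Matrix κ κ F) : Sim (Matrix.reindex e e H) H :=
  ⟨e, 1, by simp⟩

theorem Sim.symm {G : Matrix ι ι F} {H : Matrix κ κ F} (h : Sim G H) : Sim H G := by
  obtain ⟨e, Q, rfl⟩ := h
  refine ⟨e.symm, Units.map (Matrix.reindexAlgEquiv F F e.symm).toMonoidHom Q⁻¹, ?_⟩
  rw [← map_inv, inv_inv]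
  show H = Matrix.reindexAlgEquiv F F e.symm _ * Matrix.reindexAlgEquiv F F e.symm _ *
    Matrix.reindexAlgEquiv F F e.symm _
  rw [← map_mul, ← map_mul]
  simp [← Matrix.mul_assoc]

theorem Sim.trans {G : Matrix ι ι F} {H : Matrix κ κ F} {K : Matrix μ μ F} (h : Sim G H)
    (h' : Sim H K) : Sim G K := by
  obtain ⟨e, Q, rfl⟩ := h
  obtain ⟨e', Q', rfl⟩ := h'
  refine ⟨e'.trans e, Q * Units.map (Matrix.reindexAlgEquiv F F e).toMonoidHom Q', ?_⟩
  rw [_root_.mul_inv_rev, Units.val_mul, Units.val_mul, ← map_inv]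
  show _ = Q.val * Matrix.reindexAlgEquiv F F e Q'.val * _ *
    (Matrix.reindexAlgEquiv F F e (Q'⁻¹).val * (Q⁻¹).val)
  rw [show Matrix.reindex e e (Q'.val * Matrix.reindex e' e' K * (Q'⁻¹).val) =
    Matrix.reindexAlgEquiv F F e Q'.val * Matrix.reindexAlgEquiv F F e (Matrix.reindex e' e' K) *
      Matrix.reindexAlgEquiv F F e (Q'⁻¹).val by rw [← map_mul, ← map_mul]; rfl]
  simp only [Matrix.mul_assoc]
  rfl

theorem Sim.conj (P : GL ι F) (G : Matrix ι ι F) : Sim (P.val * G * (P⁻¹).val) G :=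
  ⟨Equiv.refl _, P, by simp⟩

theorem Sim.det_eq {G : Matrix ι ι F} {H : Matrix κ κ F} (h : Sim G H) : G.det = H.det := by
  obtain ⟨e, Q, rfl⟩ := h
  rw [Matrix.det_units_conj, Matrix.det_reindex_self]

theorem Sim.blocks {G : Matrix ι ι F} {H : Matrix κ κ F} {G' : Matrix μ μ F} {H' : Matrix ν ν F}
    (h : Sim G H) (h' : Sim G' H') : Sim (fromBlocks G 0 0 G') (fromBlocks H 0 0 H') := by
  obtain ⟨e, Q, rfl⟩ := h
  obtain ⟨e', Q', rfl⟩ := h'
  refine ⟨e.sumCongr e', blkGL Q Q', ?_⟩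
  show _ = fromBlocks Q.val 0 0 Q'.val * _ * fromBlocks (Q⁻¹).val 0 0 (Q'⁻¹).val
  rw [show Matrix.reindex (e.sumCongr e') (e.sumCongr e') (fromBlocks H 0 0 H') =
    fromBlocks (Matrix.reindex e e H) 0 0 (Matrix.reindex e' e' H') by
      ext (i | i) (j | j) <;> rfl]
  simp [fromBlocks_multiply]

theorem Sim.blocks_comm (G : Matrix ι ι F) (H : Matrix κ κ F) :
    Sim (fromBlocks G 0 0 H) (fromBlocks H 0 0 G) :=
  ⟨Equiv.sumComm _ _, 1, by ext (i | i) (j | j) <;> simp⟩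

theorem Sim.blocks_assoc (G : Matrix ι ι F) (H : Matrix κ κ F) (K : Matrix μ μ F) :
    Sim (fromBlocks (fromBlocks G 0 0 H) 0 0 K) (fromBlocks G 0 0 (fromBlocks H 0 0 K)) :=
  ⟨(Equiv.sumAssoc _ _ _).symm, 1, by ext ((i | i) | i) ((j | j) | j) <;> simp⟩

theorem IsCommSL.sim {G : Matrix ι ι F} {H : Matrix κ κ F} (hH : IsCommSL H) (h : Sim G H) :
    IsCommSL G := by
  obtain ⟨e, Q, rfl⟩ := h
  exact (hH.reindex e).conj Q

/-- `G` is a product of a conjugate of some `D` of determinant `δ` and one of `D⁻¹`, with `p D`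
invertible. -/
def Pre (δ : F) (p : Polynomial F) (G : Matrix ι ι F) : Prop :=
  ∃ D : GL ι F, GP D G ∧ (D : Matrix ι ι F).det = δ ∧ IsUnit (Polynomial.aeval D.val p)

/-- The same, with centralisers of every determinant. -/
def Wit (δ : F) (p : Polynomial F) (G : Matrix ι ι F) : Prop :=
  ∃ D : GL ι F, GP D G ∧ (D : Matrix ι ι F).det = δ ∧ IsUnit (Polynomial.aeval D.val p) ∧ DS D

theorem Wit.pre {δ : F} {p : Polynomial F} {G : Matrix ι ι F} (h : Wit δ p G) : Pre δ p G :=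
  let ⟨D, h1, h2, h3, _⟩ := h; ⟨D, h1, h2, h3⟩

theorem Wit.isCommSL {p : Polynomial F} {G : Matrix ι ι F} (h : Wit 1 p G) : IsCommSL G :=
  let ⟨_, h1, h2, _, h4⟩ := h; h1.isCommSL h2 h4

theorem aeval_reindex (e : κ ≃ ι) (A : Matrix κ κ F) (p : Polynomial F) :
    Polynomial.aeval (Matrix.reindexAlgEquiv F F e A) p =
      Matrix.reindexAlgEquiv F F e (Polynomial.aeval A p) :=
  Polynomial.aeval_algHom_apply (Matrix.reindexAlgEquiv F F e) A p

theorem aeval_fromBlocks (p : Polynomial F) (A : Matrix ι ι F) (B : Matrix κ κ F) :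
    Polynomial.aeval (fromBlocks A 0 0 B) p =
      fromBlocks (Polynomial.aeval A p) 0 0 (Polynomial.aeval B p) := by
  induction p using Polynomial.induction_on with
  | C a =>
    simp only [Polynomial.aeval_C, Algebra.algebraMap_eq_smul_one]
    rw [← fromBlocks_one, fromBlocks_smul, smul_zero, smul_zero]
  | add p q hp hq => simp only [map_add, hp, hq, fromBlocks_add, add_zero]
  | monomial k a ih =>
    rw [pow_succ, ← mul_assoc, map_mul (Polynomial.aeval (fromBlocks A 0 0 B)), ih,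
      Polynomial.aeval_X, fromBlocks_multiply]
    simp

theorem GP.transport {D : GL κ F} {G : Matrix ι ι F} {H : Matrix κ κ F} (h : GP D H) (hs : Sim G H) :
    ∃ e : κ ≃ ι, GP (Units.map (Matrix.reindexAlgEquiv F F e).toMonoidHom D) G := by
  obtain ⟨e, Q, rfl⟩ := hs
  exact ⟨e, (h.reindex e).conj Q⟩

theorem DS.map {D : GL κ F} (h : DS D) (e : κ ≃ ι) :
    DS (Units.map (Matrix.reindexAlgEquiv F F e).toMonoidHom D) := fun c hc => by
  obtain ⟨Z, hZ, hd⟩ := h c hc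
  exact ⟨_, hZ.map (Units.map (Matrix.reindexAlgEquiv F F e).toMonoidHom),
    (Matrix.det_reindexAlgEquiv F F e (Z : Matrix κ κ F)).trans hd⟩

theorem Pre.sim {δ : F} {p : Polynomial F} {G : Matrix ι ι F} {H : Matrix κ κ F} (h : Pre δ p H)
    (hs : Sim G H) : Pre δ p G := by
  obtain ⟨D, h1, h2, h3⟩ := h
  obtain ⟨e, he⟩ := h1.transport hs
  refine ⟨_, he, (Matrix.det_reindexAlgEquiv F F e (D : Matrix κ κ F)).trans h2, ?_⟩
  show IsUnit (Polynomial.aeval (Matrix.reindexAlgEquiv F F e D.val) p)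
  rw [aeval_reindex]
  exact h3.map _

theorem Wit.sim {δ : F} {p : Polynomial F} {G : Matrix ι ι F} {H : Matrix κ κ F} (h : Wit δ p H)
    (hs : Sim G H) : Wit δ p G := by
  obtain ⟨D, h1, h2, h3, h4⟩ := h
  obtain ⟨e, he⟩ := h1.transport hs
  refine ⟨_, he, (Matrix.det_reindexAlgEquiv F F e (D : Matrix κ κ F)).trans h2, ?_, h4.map e⟩
  show IsUnit (Polynomial.aeval (Matrix.reindexAlgEquiv F F e D.val) p)
  rw [aeval_reindex]
  exact h3.map _

theorem isUnit_fromBlocks {A : Matrix ι ι F} {B : Matrix κ κ F} (hA : IsUnit A) (hB : IsUnit B) :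
    IsUnit (fromBlocks A 0 0 B) := by
  rw [Matrix.isUnit_iff_isUnit_det, det_fromBlocks_zero₁₂]
  exact ((Matrix.isUnit_iff_isUnit_det A).1 hA).mul ((Matrix.isUnit_iff_isUnit_det B).1 hB)

theorem GP.blocks {D : GL ι F} {E : GL κ F} {X : Matrix ι ι F} {Y : Matrix κ κ F} (hX : GP D X)
    (hY : GP E Y) : GP (blkGL D E) (fromBlocks X 0 0 Y) := by
  obtain ⟨P, R, rfl⟩ := hX
  obtain ⟨P', R', rfl⟩ := hY
  refine ⟨blkGL P P', blkGL R R', ?_⟩
  show _ = fromBlocks P.val 0 0 P'.val * fromBlocks D.val 0 0 E.val *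
    fromBlocks (P⁻¹).val 0 0 (P'⁻¹).val * (fromBlocks R.val 0 0 R'.val *
    fromBlocks (D⁻¹).val 0 0 (E⁻¹).val * fromBlocks (R⁻¹).val 0 0 (R'⁻¹).val)
  simp [fromBlocks_multiply]

theorem Wit.blocks {δ δ' : F} {p : Polynomial F} {X : Matrix ι ι F} {Y : Matrix κ κ F}
    (hX : Pre δ p X) (hY : Wit δ' p Y) : Wit (δ * δ') p (fromBlocks X 0 0 Y) := by
  obtain ⟨D, h1, h2, h3⟩ := hX
  obtain ⟨E, k1, k2, k3, k4⟩ := hY
  refine ⟨blkGL D E, h1.blocks k1, by rw [det_blkGL, h2, k2], ?_, k4.blk⟩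
  show IsUnit (Polynomial.aeval (fromBlocks D.val 0 0 E.val) p)
  rw [aeval_fromBlocks]
  exact isUnit_fromBlocks h3 k3

/-- A corner step: from a witness for the corner to one for the whole. -/
theorem Pre.step {δ : F} {p : Polynomial F} (lam : F) (hlam : lam ≠ 0) (hp : p.eval lam ≠ 0)
    {X : Matrix ι ι F} (hX : Pre δ (p * (Polynomial.X - Polynomial.C lam)) X)
    (u : Matrix ι (Fin 1) F) (w : Matrix (Fin 1) ι F) (s : Matrix (Fin 1) (Fin 1) F)
    (hdX : X.det = 1) (hdet : (fromBlocks X u w s).det = 1) :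
    Wit (δ * lam) p (fromBlocks X u w s) := by
  obtain ⟨D, h1, h2, h3⟩ := hX
  rw [map_mul] at h3
  let E : GL (Fin 1) F := Matrix.GeneralLinearGroup.mkOfDetNeZero (lam • (1 : Matrix (Fin 1) (Fin 1) F))
    (by simpa using hlam)
  have hE : ∀ q : Polynomial F, Polynomial.aeval E.val q = q.eval lam • (1 : Matrix (Fin 1) (Fin 1) F) :=
    fun q => by
      show Polynomial.aeval (lam • (1 : Matrix (Fin 1) (Fin 1) F)) q = _
      rw [← Algebra.algebraMap_eq_smul_one, Polynomial.aeval_algebraMap_apply,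
        Algebra.algebraMap_eq_smul_one, Polynomial.coe_aeval_eq_eval]
  have hcomm : Commute (Polynomial.aeval D.val p)
      (Polynomial.aeval D.val (Polynomial.X - Polynomial.C lam)) :=
    (Commute.all p (Polynomial.X - Polynomial.C lam)).map _
  obtain ⟨hu1, hu2⟩ := (hcomm.isUnit_mul_iff).1 h3
  have hsep' : Sep E D := sep_of_aeval (Polynomial.X - Polynomial.C lam) (by rw [hE]; simp) hu2
  refine ⟨blkGL D E, GP.corner ⟨hsep'.2, hsep'.1⟩ h1 u w s hdX hdet, ?_, ?_,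
    DS.blk (DS.of_scalar E)⟩
  · rw [det_blkGL, h2]
    congr 1
    show (lam • (1 : Matrix (Fin 1) (Fin 1) F)).det = lam
    simp
  · show IsUnit (Polynomial.aeval (fromBlocks D.val 0 0 E.val) p)
    rw [aeval_fromBlocks, hE]
    refine isUnit_fromBlocks hu1 ?_
    rw [Matrix.isUnit_iff_isUnit_det]
    simp [hp]

/-- Gluing with a block killed by `p`. -/
theorem Wit.glue {p : Polynomial F} {X : Matrix ι ι F} (hX : Wit 1 p X) {E : GL κ F}
    (hE : (E : Matrix κ κ F).det = 1) (hEp : Polynomial.aeval E.val p = 0) {Y : Matrix κ κ F}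
    (hY : GP E Y) (w : Matrix κ ι F) : IsCommSL (fromBlocks X 0 w Y) := by
  obtain ⟨D, h1, h2, h3, h4⟩ := hX
  have hsep : Sep E D := sep_of_aeval p hEp h3
  have h := GP.glue ⟨hsep.2, hsep.1⟩ h1 hY 0 w
  rw [Matrix.mul_zero, add_zero] at h
  refine h.isCommSL (by rw [det_blkGL, h2, hE, one_mul]) fun c hc => ?_
  obtain ⟨Z, hZ, hd⟩ := h4 c hc
  refine ⟨blkGL Z 1, Units.ext ?_, by simp [det_blkGL, hd]⟩
  have h5 := congrArg Units.val hZ.eq
  simp only [blkGL, Units.val_mul, fromBlocks_multiply] at h5 ⊢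
  simp [h5]

end Cfsg.Agent.FGS77.Thompson
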