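import Cfsg.Agent.FGS77.Thompson.ThreeBlocks

/-! Every element of `SL_n(3)`, `n ≥ 3`, is a commutator. -/

set_option autoImplicit false

namespace Cfsg.Agent.FGS77.Thompson

open Matrix

local notation "F₃" => ZMod 3
local notation "q₀" => (Polynomial.X ^ 2 + 1 : Polynomial (ZMod 3))

/-- Two points and a single eigenvalue, of determinant one. -/
def Blk.IsJThree (b : Blk F₃) : Prop := b.n = 2 ∧ ∃ c : F₃, (b.M - c • 1) ^ b.n = 0

noncomputable instance : DecidablePred Blk.IsJThree := Classical.decPred _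

theorem f3_cases : ∀ z : F₃, z ≠ 0 → z = 1 ∨ z = -1 := by decide

theorem Blk.det_of_nilp {F : Type} [Field F] (b : Blk F) (c : F)
    (h : (b.M - c • 1) ^ b.n = 0) : b.M.det = c ^ b.n := by
  rw [(b.sim_jor c h).det_eq, det_jor]

theorem IsJThree.det_eq {b : Blk F₃} (h : b.IsJThree) (hd : b.M.det ≠ 0) : b.M.det = 1 := by
  obtain ⟨hn, c, hc⟩ := h
  rw [b.det_of_nilp c hc, hn] at hd ⊢
  have key : ∀ c : F₃, c ^ 2 ≠ 0 → c ^ 2 = 1 := by decide
  exact key c hd

theorem IsJThree.exists_jor {b : Blk F₃} (h : b.IsJThree) (hd : b.M.det = 1) :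
    ∃ c : F₃, (c = 1 ∨ c = -1) ∧ (b.M - c • 1) ^ b.n = 0 ∧ Sim b.M (jor c 2) := by
  obtain ⟨hn, c, hc⟩ := h
  refine ⟨c, f3_cases c ?_, hc, b.sim_jor' c hn hc⟩
  rintro rfl
  rw [b.det_of_nilp 0 hc, hn] at hd
  exact zero_ne_one ((zero_pow (two_ne_zero)).symm.trans hd)

theorem good_three (b : Blk F₃) (hd : b.M.det = 1) (hJ : ¬ b.IsJThree) : IsCommSL b.M := by
  obtain ⟨n, M, hs, hp⟩ := b
  match n, M, hs, hp, hd, hJ with
  | 0, M, _, _, _, _ =>
    show IsCommSL M
    rw [Subsingleton.elim M 1]; exact isCommSL_one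
  | 1, M, _, _, hd, _ =>
    show IsCommSL M
    rw [eq_one_of_det le_rfl M hd]; exact isCommSL_one
  | 2, M, hs, hp, hd, hJ =>
    show IsCommSL M
    replace hd : M.det = 1 := hd
    have hM : M = !![0, -1; 1, M 1 1] := hs.eq_two.trans (by rw [hd])
    have hx : M 1 1 = 0 := by
      by_contra hx
      refine hJ ⟨rfl, -(M 1 1), ?_⟩
      show (M - (-(M 1 1)) • 1) ^ 2 = 0
      have key : ∀ z : F₃, z ≠ 0 → (!![0, -1; 1, z] - (-z) • (1 : Matrix (Fin 2) (Fin 2) F₃)) ^ 2 = 0 := by
        intro z hz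
        rcases f3_cases z hz with rfl | rfl <;> decide +kernel
      exact (congrArg (fun X => (X - (-(M 1 1)) • 1) ^ 2) hM).trans (key _ hx)
    rw [hM, hx, show (!![0, -1; 1, 0] : Matrix (Fin 2) (Fin 2) F₃) = !![0, 2; 1, 0] by
      decide +kernel]
    exact small_3_c2
  | m + 3, M, hs, _, hd, _ =>
    exact (wit_single hs (by omega) hd).isCommSL

theorem neg_pos {b : Blk F₃} (h : b.M.det = -1) : 0 < b.n := by
  by_contra hc
  obtain ⟨n, M, hs, hp⟩ := b
  obtain rfl : n = 0 := by simpa using hc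
  have h' : M.det = -1 := h
  rw [Matrix.det_isEmpty] at h'
  exact absurd h' (by decide)

theorem negpair_three (a b : Blk F₃) (ha : a.M.det = -1) (hb : b.M.det = -1) :
    IsCommSL (fromBlocks a.M 0 0 b.M) := by
  have ha0 := neg_pos ha
  have hb0 := neg_pos hb
  have hd : a.M.det * b.M.det = 1 := by rw [ha, hb]; decide
  obtain ⟨n, A, hA, pA⟩ := a
  obtain ⟨k, B, hB, pB⟩ := b
  show IsCommSL (fromBlocks A 0 0 B)
  replace ha : A.det = -1 := ha
  replace hb : B.det = -1 := hb
  replace hd : A.det * B.det = 1 := hd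
  have h12 : ∀ (U : Matrix (Fin 1) (Fin 1) F₃) (V : Matrix (Fin 2) (Fin 2) F₃), U.det = -1 →
      V.det = -1 → Shifted V → (∀ c : F₃, IsUnit (V - c • 1) ∨ (V - c • 1) ^ 2 = 0) →
      IsCommSL (fromBlocks U 0 0 V) := by
    intro U V hU hV hVs hVp
    have hU' : (U - (-1 : F₃) • 1) ^ 1 = 0 := by
      rw [Matrix.det_fin_one] at hU
      rw [pow_one]
      ext i j
      fin_cases i; fin_cases j
      simp [hU]
    have hu : IsUnit (V - (-1 : F₃) • 1) := by
      refine (hVp (-1)).resolve_right fun h => ?_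
      have := Blk.det_of_nilp ⟨2, V, hVs, hVp⟩ (-1) h
      change V.det = (-1 : F₃) ^ 2 at this
      rw [hV] at this
      exact absurd this (by decide)
    obtain ⟨H, hH, hs⟩ := exists_merge one_pos two_pos (shifted_one U) hVs (-1) 1 hU' hu
    refine ((wit_single hH (by omega) ?_).sim hs).isCommSL
    rw [← hs.det_eq, det_fromBlocks_zero₁₂, hU, hV]
    decide
  rcases Nat.lt_or_ge n 2 with hn | hn
  · obtain rfl : n = 1 := by change 0 < n at ha0; omega
    rcases Nat.lt_or_ge k 2 with hk | hk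
    · obtain rfl : k = 1 := by change 0 < k at hb0; omega
      rw [Matrix.det_fin_one] at ha hb
      refine IsCommSL.sim (isCommSL_scalar 2 (-1 : F₃) (by decide))
        ((Sim.of_reindex (finSumFinEquiv : Fin 1 ⊕ Fin 1 ≃ Fin 2) _).symm.trans ?_)
      rw [show Matrix.reindex (finSumFinEquiv : Fin 1 ⊕ Fin 1 ≃ Fin 2) finSumFinEquiv
        (fromBlocks A 0 0 B) = (-1 : F₃) • 1 from ?_]
      · exact Sim.refl _
      · rw [show A = -1 by ext i j; fin_cases i; fin_cases j; simp [ha],
          show B = -1 by ext i j; fin_cases i; fin_cases j; simp [hb]]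
        decide +kernel
    · rcases Nat.lt_or_ge k 3 with hk' | hk'
      · obtain rfl : k = 2 := by omega
        exact h12 A B ha hb hB pB
      · exact ((wit_pair hB hA hk le_rfl (by omega) (by rw [mul_comm, hd])).sim
          (Sim.blocks_comm _ _)).isCommSL
  · rcases Nat.lt_or_ge k 2 with hk | hk
    · obtain rfl : k = 1 := by change 0 < k at hb0; omega
      rcases Nat.lt_or_ge n 3 with hn' | hn'
      · obtain rfl : n = 2 := by omega
        exact (h12 B A hb ha hA pA).sim (Sim.blocks_comm _ _)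
      · exact (wit_pair hA hB hn le_rfl (by omega) hd).isCommSL
    · exact (wit_pair hA hB hn (by omega) (by omega) hd).isCommSL

theorem negs_three : ∀ L : List (Blk F₃), (∀ b ∈ L, b.M.det = -1) → (bd L).det = 1 →
    IsCommSL (bd L)
  | [], _, _ => isCommSL_nil
  | [a], h, hd => by
    rw [det_bd, List.map_singleton, List.prod_singleton, h a (by simp)] at hd
    exact absurd hd (by decide)
  | a :: b :: L, h, hd => by
    refine IsCommSL.append (L := [a, b])
      ((negpair_three a b (h a (by simp)) (h b (by simp))).sim (sim_pair a b))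
      (negs_three L (fun x hx => h x (by simp [hx])) ?_)
    rw [det_bd_cons, det_bd_cons, h a (by simp), h b (by simp), neg_one_mul, neg_one_mul,
      neg_neg] at hd
    exact hd

theorem jpair_three (a b : Blk F₃) (ha : a.n = 2) (hb : b.n = 2) (da : a.M.det = 1)
    (db : b.M.det = 1) : IsCommSL (bd [a, b]) :=
  ((wit_pair a.shifted b.shifted (by omega) (by omega) (by omega)
    (by rw [da, db, one_mul])).sim (sim_pair a b)).isCommSL

theorem jmerge_three (a b c : Blk F₃) (ha : a.n = 2) (hb : b.n = 2) (hc : c.n = 2)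
    (da : a.M.det = 1) (db : b.M.det = 1) (dc : c.M.det = 1) (x : F₃)
    (hax : (a.M - x • 1) ^ a.n = 0) (hbx : IsUnit (b.M - x • 1)) :
    IsCommSL (bd [a, b, c]) := by
  obtain ⟨H, hH, hs⟩ := exists_merge (by omega) (by omega) a.shifted b.shifted x a.n hax hbx
  refine ((wit_pair hH c.shifted (by omega) (by omega) (by omega) ?_).sim
    ((sim_cons a [b, c]).trans (((Sim.refl a.M).blocks (sim_pair b c)).trans
      ((Sim.blocks_assoc _ _ _).symm.trans (hs.blocks (Sim.refl c.M)))))).isCommSL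
  rw [← hs.det_eq, det_fromBlocks_zero₁₂, da, db, dc, one_mul, one_mul]

theorem jtriple_three (a b c : Blk F₃) (ha : a.IsJThree) (hb : b.IsJThree) (hc : c.IsJThree)
    (da : a.M.det = 1) (db : b.M.det = 1) (dc : c.M.det = 1) : IsCommSL (bd [a, b, c]) := by
  obtain ⟨x, hx01, hax, ea⟩ := IsJThree.exists_jor ha da
  rcases b.prim x with hbx | hbx
  · exact jmerge_three a b c ha.1 hb.1 hc.1 da db dc x hax hbx
  rcases c.prim x with hcx | hcx
  · exact (jmerge_three a c b ha.1 hc.1 hb.1 da dc db x hax hcx).perm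
      ((List.Perm.swap c b []).cons a)
  have eb := b.sim_jor' x hb.1 hbx
  have ec := c.sim_jor' x hc.1 hcx
  refine IsCommSL.sim ?_ ((sim_cons a [b, c]).trans ((ea.blocks ((sim_pair b c).trans
    (eb.blocks ec))).trans (((Sim.refl (jor x 2)).blocks
      (Sim.of_reindex (finSumFinEquiv : Fin 2 ⊕ Fin 2 ≃ Fin 4) _).symm).trans
      (Sim.of_reindex (finSumFinEquiv : Fin 2 ⊕ Fin 4 ≃ Fin 6) _).symm)))
  rcases hx01 with rfl | rfl
  · rw [show Matrix.reindex (finSumFinEquiv : Fin 2 ⊕ Fin 4 ≃ Fin 6) finSumFinEquiv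
      (fromBlocks (jor (1 : F₃) 2) 0 0 (Matrix.reindex (finSumFinEquiv : Fin 2 ⊕ Fin 2 ≃ Fin 4)
        finSumFinEquiv (fromBlocks (jor (1 : F₃) 2) 0 0 (jor (1 : F₃) 2)))) =
      !![1, 0, 0, 0, 0, 0; 1, 1, 0, 0, 0, 0; 0, 0, 1, 0, 0, 0; 0, 0, 1, 1, 0, 0;
        0, 0, 0, 0, 1, 0; 0, 0, 0, 0, 1, 1] by decide +kernel]
    exact small_3_222
  · rw [show Matrix.reindex (finSumFinEquiv : Fin 2 ⊕ Fin 4 ≃ Fin 6) finSumFinEquiv
      (fromBlocks (jor (-1 : F₃) 2) 0 0 (Matrix.reindex (finSumFinEquiv : Fin 2 ⊕ Fin 2 ≃ Fin 4)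
        finSumFinEquiv (fromBlocks (jor (-1 : F₃) 2) 0 0 (jor (-1 : F₃) 2)))) =
      !![2, 0, 0, 0, 0, 0; 1, 2, 0, 0, 0, 0; 0, 0, 2, 0, 0, 0; 0, 0, 1, 2, 0, 0;
        0, 0, 0, 0, 2, 0; 0, 0, 0, 0, 1, 2] by decide +kernel]
    exact small_3_m222

theorem jlist_three : ∀ L : List (Blk F₃), (∀ b ∈ L, b.IsJThree ∧ b.M.det = 1) → L.length ≠ 1 →
    IsCommSL (bd L)
  | [], _, _ => isCommSL_nil
  | [a], _, h => absurd rfl h
  | [a, b], h, _ => jpair_three a b (h a (by simp)).1.1 (h b (by simp)).1.1 (h a (by simp)).2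
      (h b (by simp)).2
  | [a, b, c], h, _ => jtriple_three a b c (h a (by simp)).1 (h b (by simp)).1 (h c (by simp)).1
      (h a (by simp)).2 (h b (by simp)).2 (h c (by simp)).2
  | a :: b :: c :: d :: L, h, _ =>
    IsCommSL.append (L := [a, b]) (jpair_three a b (h a (by simp)).1.1 (h b (by simp)).1.1
      (h a (by simp)).2 (h b (by simp)).2)
      (jlist_three (c :: d :: L) (fun x hx => h x (by simp [List.mem_cons] at hx ⊢; tauto))
        (by simp))

theorem jone_good (a b : Blk F₃) (ha : a.IsJThree) (da : a.M.det = 1) (db : b.M.det = 1)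
    (hb : 0 < b.n) : IsCommSL (bd [a, b]) := by
  obtain ⟨x, hx, hax, ea⟩ := IsJThree.exists_jor ha da
  refine IsCommSL.sim ?_ (sim_pair a b)
  rcases Nat.lt_or_ge b.n 2 with hn | hn
  · obtain ⟨k, B, hB, pB⟩ := b
    obtain rfl : k = 1 := by change 0 < k at hb; change k < 2 at hn; omega
    show IsCommSL (fromBlocks a.M 0 0 B)
    rw [eq_one_of_det le_rfl B db]
    rcases hx with rfl | rfl
    · refine IsCommSL.sim ?_ ((ea.blocks (Sim.refl (1 : Matrix (Fin 1) (Fin 1) F₃))).trans
        (Sim.of_reindex (finSumFinEquiv : Fin 2 ⊕ Fin 1 ≃ Fin 3) _).symm)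
      rw [show Matrix.reindex (finSumFinEquiv : Fin 2 ⊕ Fin 1 ≃ Fin 3) finSumFinEquiv
        (fromBlocks (jor (1 : F₃) 2) 0 0 (1 : Matrix (Fin 1) (Fin 1) F₃)) =
          !![1, 0, 0; 1, 1, 0; 0, 0, 1] by decide +kernel]
      exact small_3_T
    · obtain ⟨H, hH, hs⟩ := exists_merge (by rw [ha.1]; exact two_pos) one_pos a.shifted
        (shifted_one 1) (-1) a.n hax (by
          rw [Matrix.isUnit_iff_isUnit_det, Matrix.det_fin_one]
          exact isUnit_iff_ne_zero.2 (by decide +kernel))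
      refine ((wit_single hH (by have := ha.1; omega) ?_).sim hs).isCommSL
      rw [← hs.det_eq, det_fromBlocks_zero₁₂, da, det_one, one_mul]
  · exact (wit_pair a.shifted b.shifted (by rw [ha.1]) (by omega) (by rw [ha.1]; omega)
      (by rw [da, db, one_mul])).isCommSL

theorem jone_neg (a b b' : Blk F₃) (ha : a.IsJThree) (da : a.M.det = 1) (db : b.M.det = -1)
    (db' : b'.M.det = -1) : IsCommSL (bd [a, b, b']) := by
  obtain ⟨x, hx, hax, ea⟩ := IsJThree.exists_jor ha da
  have main : ∀ u v : Blk F₃, u.M.det = -1 → v.M.det = -1 → IsUnit (u.M - x • 1) →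
      IsCommSL (bd [a, u, v]) := by
    intro u v du dv hu
    have := neg_pos du
    have := neg_pos dv
    have := ha.1
    obtain ⟨H, hH, hs⟩ := exists_merge (by omega) (neg_pos du) a.shifted u.shifted x a.n hax hu
    refine ((wit_pair hH v.shifted (by omega) (neg_pos dv) (by omega) ?_).sim
      ((sim_cons a [u, v]).trans (((Sim.refl a.M).blocks (sim_pair u v)).trans
        ((Sim.blocks_assoc _ _ _).symm.trans (hs.blocks (Sim.refl v.M)))))).isCommSL
    rw [← hs.det_eq, det_fromBlocks_zero₁₂, da, du, dv]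
    decide
  rcases b.prim x with hb | hb
  · exact main b b' db db' hb
  rcases b'.prim x with hb' | hb'
  · exact (main b' b db' db hb').perm ((List.Perm.swap b' b []).cons a)
  obtain rfl : x = -1 := by
    rcases hx with rfl | rfl
    · rw [b.det_of_nilp 1 hb, one_pow] at db
      exact absurd db (by decide)
    · rfl
  have hodd : ∀ u : Blk F₃, u.M.det = -1 → (u.M - (-1 : F₃) • 1) ^ u.n = 0 → Odd u.n := by
    intro u du hu
    rcases Nat.even_or_odd u.n with h | h
    · rw [u.det_of_nilp (-1) hu, h.neg_one_pow] at du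
      exact absurd du (by decide)
    · exact h
  have fin : ∀ u v : Blk F₃, u.M.det = -1 → v.M.det = -1 → (u.M - (-1 : F₃) • 1) ^ u.n = 0 →
      (v.M - (-1 : F₃) • 1) ^ v.n = 0 → u.n ≤ v.n → IsCommSL (bd [a, u, v]) := by
    intro u v du dv hu hv huv
    exact (jneg (hodd u du hu) (hodd v dv hv) huv).sim ((sim_cons a [u, v]).trans
      (ea.blocks ((sim_pair u v).trans ((u.sim_jor _ hu).blocks (v.sim_jor _ hv)))))
  rcases le_total b.n b'.n with h | h
  · exact fin b b' db db' hb hb' h
  · exact (fin b' b db' db hb' hb h).perm ((List.Perm.swap b' b []).cons a)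

theorem size_append {F : Type} [Field F] : ∀ L K : List (Blk F),
    size (L ++ K) = size L + size K
  | [], K => by simp [size]
  | b :: L, K => by
    show b.n + size (L ++ K) = b.n + size L + size K
    rw [size_append L K, Nat.add_assoc]

theorem size_eq_zero {F : Type} [Field F] : ∀ L : List (Blk F), (∀ x ∈ L, x.n = 0) → size L = 0
  | [], _ => rfl
  | b :: L, h => by
    show b.n + size L = 0
    rw [h b List.mem_cons_self, size_eq_zero L fun x hx => h x (List.mem_cons_of_mem _ hx)]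

theorem isCommSL_three {n : ℕ} (hn : 3 ≤ n) (G : Matrix (Fin n) (Fin n) F₃) (hdet : G.det = 1) :
    IsCommSL G := by
  obtain ⟨L, hL⟩ := exists_blocks G
  refine IsCommSL.sim ?_ hL
  have hd : (bd L).det = 1 := by rw [← hL.det_eq, hdet]
  have hsize : size L = n := by simpa using hL.size_eq.symm
  let pN : Blk F₃ → Bool := fun b => decide (b.M.det = -1)
  let pJ : Blk F₃ → Bool := fun b => decide b.IsJThree
  obtain ⟨N, hN⟩ : ∃ N, N = L.filter pN := ⟨_, rfl⟩
  obtain ⟨J, hJe⟩ : ∃ J, J = (L.filter fun b => !pN b).filter pJ := ⟨_, rfl⟩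
  obtain ⟨K, hK⟩ : ∃ K, K = (L.filter fun b => !pN b).filter fun b => !pJ b := ⟨_, rfl⟩
  have hperm : L.Perm (J ++ (K ++ N)) := by
    refine (List.filter_append_perm pN L).symm.trans ?_
    rw [← List.append_assoc, ← hN]
    refine List.perm_append_comm.trans (List.Perm.append_right N ?_)
    rw [hJe, hK]
    exact (List.filter_append_perm pJ _).symm
  have d1 : ∀ x ∈ L.filter (fun b => !pN b), x.M.det = 1 := fun x hx => by
    simp only [List.mem_filter, pN, Bool.not_eq_true', decide_eq_false_iff_not] at hx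
    exact (f3_cases _ (Blk.det_ne_zero hd hx.1)).resolve_right hx.2
  have dN : ∀ x ∈ N, x.M.det = -1 := fun x hx => by
    rw [hN] at hx
    simpa [pN] using (List.mem_filter.1 hx).2
  have hJ : ∀ x ∈ J, x.IsJThree ∧ x.M.det = 1 := fun x hx => by
    rw [hJe] at hx
    exact ⟨by simpa [pJ] using (List.mem_filter.1 hx).2, d1 x (List.mem_filter.1 hx).1⟩
  have hKd : ∀ x ∈ K, x.M.det = 1 ∧ ¬ x.IsJThree := fun x hx => by
    rw [hK] at hx
    exact ⟨d1 x (List.mem_filter.1 hx).1, by simpa [pJ] using (List.mem_filter.1 hx).2⟩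
  have good : ∀ x ∈ K, IsCommSL x.M := fun x hx => good_three x (hKd x hx).1 (hKd x hx).2
  have one : ∀ M : List (Blk F₃), (∀ x ∈ M, x.M.det = 1) → (bd M).det = 1 := fun M h => by
    rw [det_bd]
    refine List.prod_eq_one fun z hz => ?_
    obtain ⟨x, hx, rfl⟩ := List.mem_map.1 hz
    exact h x hx
  have hdN : (bd N).det = 1 := by
    rwa [(sim_perm hperm).det_eq, (sim_append J _).det_eq, det_fromBlocks_zero₁₂,
      (sim_append K N).det_eq, det_fromBlocks_zero₁₂, one J fun x hx => (hJ x hx).2,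
      one K fun x hx => (hKd x hx).1, one_mul, one_mul] at hd
  refine IsCommSL.perm ?_ hperm
  by_cases h1 : J.length = 1
  · obtain ⟨a, rfl⟩ := List.length_eq_one_iff.1 h1
    have haJ := hJ a (by simp)
    by_cases hb : ∃ b ∈ K, 0 < b.n
    · obtain ⟨b, hb, hbn⟩ := hb
      obtain ⟨s, t, e⟩ := List.append_of_mem hb
      have hKp : K.Perm (b :: (s ++ t)) := e ▸ List.perm_middle
      refine IsCommSL.perm ?_ (List.Perm.append_left [a] (List.Perm.append_right N hKp))
      exact IsCommSL.append (L := [a, b]) (jone_good a b haJ.1 haJ.2 (hKd b hb).1 hbn)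
        (IsCommSL.append (isCommSL_of_good (s ++ t) fun x hx =>
          good x (hKp.mem_iff.2 (List.mem_cons_of_mem _ hx))) (negs_three N dN hdN))
    · push Not at hb
      have hpos : 0 < size N := by
        have h2 := (sim_perm hperm).size_eq
        simp only [Fintype.card_fin, size_append] at h2
        rw [hsize, size_eq_zero K fun x hx => Nat.le_zero.1 (hb x hx),
          show size [a] = a.n from rfl, haJ.1.1] at h2
        omega
      match N, dN, hdN, hpos with
      | [], _, _, hpos => exact absurd hpos (lt_irrefl 0)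
      | [b], dN, hdN, _ =>
        rw [det_bd, List.map_singleton, List.prod_singleton, dN b (by simp)] at hdN
        exact absurd hdN (by decide)
      | b :: b' :: N', dN, hdN, _ =>
        refine IsCommSL.perm ?_ (List.Perm.append_left [a]
          (List.perm_append_comm (l₁ := K) (l₂ := b :: b' :: N')))
        refine IsCommSL.append (L := [a, b, b'])
          (jone_neg a b b' haJ.1 haJ.2 (dN b (by simp)) (dN b' (by simp)))
          (IsCommSL.append (negs_three N' (fun x hx => dN x (by simp [hx])) ?_)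
            (isCommSL_of_good K good))
        rw [det_bd_cons, det_bd_cons, dN b (by simp), dN b' (by simp), neg_one_mul, neg_one_mul,
          neg_neg] at hdN
        exact hdN
  · exact IsCommSL.append (jlist_three J hJ h1)
      (IsCommSL.append (isCommSL_of_good K good) (negs_three N dN hdN))

end Cfsg.Agent.FGS77.Thompson
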