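import Cfsg.Agent.FGS77.Thompson.Common
import Cfsg.Agent.FGS77.Thompson.Scalar

/-! Sums of Jordan blocks over three elements that need gluing or certificates. -/

set_option autoImplicit false

namespace Cfsg.Agent.FGS77.Thompson

open Matrix

local notation "F₃" => ZMod 3
local notation "q₀" => (Polynomial.X ^ 2 + 1 : Polynomial (ZMod 3))

/-- Two shifted blocks of total size at least four. -/
theorem wit_pair {m k : ℕ} {A : Matrix (Fin m) (Fin m) F₃} {B : Matrix (Fin k) (Fin k) F₃}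
    (hA : Shifted A) (hB : Shifted B) (hm : 2 ≤ m) (hk : 1 ≤ k) (hmk : 4 ≤ m + k)
    (hdet : A.det * B.det = 1) : Wit 1 q₀ (fromBlocks A 0 0 B) := by
  obtain ⟨a, rfl⟩ : ∃ a, m = a + 2 := ⟨m - 2, by omega⟩
  obtain ⟨b, rfl⟩ : ∃ b, k = b + 1 := ⟨k - 1, by omega⟩
  exact wit_three_pair hA hB hdet (by omega)

/-- A shifted block of size at least three. -/
theorem wit_single {m : ℕ} {A : Matrix (Fin m) (Fin m) F₃} (hA : Shifted A) (hm : 3 ≤ m)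
    (hdet : A.det = 1) : Wit 1 q₀ A := by
  obtain ⟨a, rfl⟩ : ∃ a, m = a + 1 := ⟨m - 1, by omega⟩
  exact wit_three (by omega) hA hdet

theorem shifted_one (M : Matrix (Fin 1) (Fin 1) F₃) : Shifted M :=
  fun i j h => by omega

/-- Two Jordan blocks, as a witness. -/
theorem wit_jor_pair (c c' : F₃) {m k : ℕ} (hm : 2 ≤ m) (hk : 1 ≤ k) (hmk : 4 ≤ m + k)
    (hdet : c ^ m * c' ^ k = 1) : Wit 1 q₀ (fromBlocks (jor c m) 0 0 (jor c' k)) := by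
  obtain ⟨H, hH, hs⟩ := (hess_jor c m).exists_shifted
  obtain ⟨K, hK, ks⟩ := (hess_jor c' k).exists_shifted
  exact (wit_pair hH hK hm hk hmk (by rw [← hs.det_eq, ← ks.det_eq, det_jor, det_jor, hdet])).sim
    (hs.blocks ks)

/-- The element with square `-1`, on two points. -/
theorem exists_four : ∃ E : GL (Fin 1 ⊕ Fin 1) F₃, (E : Matrix (Fin 1 ⊕ Fin 1) (Fin 1 ⊕ Fin 1) F₃).det = 1 ∧
    Polynomial.aeval E.val q₀ = 0 ∧ GP E (-1 : Matrix (Fin 1 ⊕ Fin 1) (Fin 1 ⊕ Fin 1) F₃) := by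
  let E : GL (Fin 2) F₃ := ⟨!![0, -1; 1, 0], !![0, 1; -1, 0], by decide +kernel, by decide +kernel⟩
  let R : GL (Fin 2) F₃ := ⟨!![1, 0; 0, -1], !![1, 0; 0, -1], by decide +kernel, by decide +kernel⟩
  let e : Fin 2 ≃ Fin 1 ⊕ Fin 1 := (finSumFinEquiv : Fin 1 ⊕ Fin 1 ≃ Fin 2).symm
  have hgp : GP E (-1 : Matrix (Fin 2) (Fin 2) F₃) := ⟨1, R, by decide +kernel⟩
  refine ⟨Units.map (Matrix.reindexAlgEquiv F₃ F₃ e).toMonoidHom E, ?_, ?_, ?_⟩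
  · show (Matrix.reindexAlgEquiv F₃ F₃ e E.val).det = 1
    rw [Matrix.det_reindexAlgEquiv, Matrix.det_fin_two]
    decide +kernel
  · show Polynomial.aeval (Matrix.reindexAlgEquiv F₃ F₃ e E.val) q₀ = 0
    rw [aeval_reindex, show Polynomial.aeval E.val q₀ = E.val ^ 2 + 1 by simp,
      show (E.val ^ 2 + 1 : Matrix (Fin 2) (Fin 2) F₃) = 0 by decide +kernel, map_zero]
  · have := hgp.reindex e
    rwa [show Matrix.reindex e e (-1 : Matrix (Fin 2) (Fin 2) F₃) = -1 by decide +kernel] at this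

theorem jneg_glue_one {j : ℕ} (hj : 3 ≤ j) (hodd : Odd j) :
    IsCommSL (fromBlocks (jor (-1 : F₃) 2) 0 0
      (fromBlocks (jor (-1 : F₃) 1) 0 0 (jor (-1 : F₃) j))) := by
  obtain ⟨E, hE, hEp, hgp⟩ := exists_four
  have hX : Wit 1 q₀ (fromBlocks (jor (-1 : F₃) 1) 0 0 (jor (-1 : F₃) j)) :=
    (wit_jor_pair (-1) (-1) (by omega) le_rfl (by omega) (by
      rw [pow_one, hodd.neg_one_pow]; decide)).sim (Sim.blocks_comm _ _)
  let σ : (Fin 1 ⊕ Fin j) ⊕ (Fin 1 ⊕ Fin 1) ≃ Fin 2 ⊕ (Fin 1 ⊕ Fin j) :=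
    (Equiv.sumSumSumComm _ _ _ _).trans (finSumFinEquiv.sumCongr (Equiv.sumComm _ _))
  refine (Wit.glue hX hE hEp hgp (fromBlocks 1 0 0 0)).sim ⟨σ, 1, ?_⟩
  simp only [Units.val_one, inv_one, Matrix.one_mul, Matrix.mul_one]
  rw [show jor (-1 : F₃) 2 = Matrix.reindex (finSumFinEquiv : Fin 1 ⊕ Fin 1 ≃ Fin 2)
    (finSumFinEquiv : Fin 1 ⊕ Fin 1 ≃ Fin 2)
    (fromBlocks (-1 : Matrix (Fin 1) (Fin 1) F₃) 0 1 (-1)) by decide +kernel,
    show jor (-1 : F₃) 1 = -1 by decide +kernel]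
  ext a b
  obtain ⟨a, rfl⟩ := σ.surjective a
  obtain ⟨b, rfl⟩ := σ.surjective b
  rw [Matrix.reindex_apply σ σ, Matrix.submatrix_apply, Equiv.symm_apply_apply, Equiv.symm_apply_apply]
  rcases a with ((a | a) | (a | a)) <;> rcases b with ((b | b) | (b | b)) <;>
    simp [σ, Matrix.one_apply]

theorem jneg_glue_two {i j : ℕ} (hi : 2 ≤ i) (hie : Even i) (hj : 4 ≤ j) (hje : Even j) :
    IsCommSL (fromBlocks (jor (-1 : F₃) 2) 0 0
      (fromBlocks (jor (-1 : F₃) (i + 1)) 0 0 (jor (-1 : F₃) (j + 1)))) := by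
  obtain ⟨E, hE, hEp, hgp⟩ := exists_four
  obtain ⟨wi, hwi⟩ := jor_succ (-1 : F₃) i
  obtain ⟨wj, hwj⟩ := jor_succ (-1 : F₃) j
  obtain ⟨H, hH, hs⟩ := (hess_jor (-1 : F₃) j).exists_shifted
  have h2 : Pre 1 q₀ (fromBlocks (jor (-1 : F₃) 2) 0 0 (jor (-1 : F₃) i)) :=
    (wit_jor_pair (-1) (-1) le_rfl (by omega) (by omega) (by
      rw [hie.neg_one_pow, neg_one_sq, one_mul])).pre
  have hX : Wit 1 q₀ (fromBlocks (fromBlocks (jor (-1 : F₃) 2) 0 0 (jor (-1 : F₃) i)) 0 0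
      (jor (-1 : F₃) j)) := by
    have := Wit.blocks h2 ((wit_single hH (by omega)
      (by rw [← hs.det_eq, det_jor, hje.neg_one_pow])).sim hs)
    rwa [mul_one] at this
  let σ : ((Fin 2 ⊕ Fin i) ⊕ Fin j) ⊕ (Fin 1 ⊕ Fin 1) ≃ Fin 2 ⊕ (Fin (i + 1) ⊕ Fin (j + 1)) :=
    ((Equiv.sumSumSumComm _ _ _ _).trans ((Equiv.sumAssoc _ _ _).sumCongr (Equiv.refl _))).trans
      ((Equiv.sumAssoc _ _ _).trans
        ((Equiv.refl _).sumCongr (finSumFinEquiv.sumCongr finSumFinEquiv)))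
  refine (Wit.glue hX hE hEp hgp (fromBlocks (Matrix.fromCols 0 wi) 0 0 wj)).sim ⟨σ, 1, ?_⟩
  simp only [Units.val_one, inv_one, Matrix.one_mul, Matrix.mul_one]
  rw [hwi, hwj]
  ext a b
  obtain ⟨a, rfl⟩ := σ.surjective a
  obtain ⟨b, rfl⟩ := σ.surjective b
  rw [Matrix.reindex_apply σ σ, Matrix.submatrix_apply, Equiv.symm_apply_apply, Equiv.symm_apply_apply]
  rcases a with (((a | a) | a) | (a | a)) <;> rcases b with (((b | b) | b) | (b | b)) <;>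
    simp [σ, Matrix.one_apply]

/-- `-(J₂ ⊕ J_i ⊕ J_j)`. -/
theorem jneg {i j : ℕ} (hi : Odd i) (hj : Odd j) (hij : i ≤ j) :
    IsCommSL (fromBlocks (jor (-1 : F₃) 2) 0 0
      (fromBlocks (jor (-1 : F₃) i) 0 0 (jor (-1 : F₃) j))) := by
  obtain ⟨i', rfl⟩ := hi
  obtain ⟨j', rfl⟩ := hj
  rcases Nat.eq_zero_or_pos i' with rfl | hi'
  · rcases Nat.eq_zero_or_pos j' with rfl | hj'
    · show IsCommSL (fromBlocks (jor (-1 : F₃) 2) 0 0
        (fromBlocks (jor (-1 : F₃) 1) 0 0 (jor (-1 : F₃) 1)))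
      refine IsCommSL.sim ?_ (((Sim.refl (jor (-1 : F₃) 2)).blocks
        (Sim.of_reindex (finSumFinEquiv : Fin 1 ⊕ Fin 1 ≃ Fin 2) _).symm).trans
        (Sim.of_reindex (finSumFinEquiv : Fin 2 ⊕ Fin 2 ≃ Fin 4) _).symm)
      rw [show Matrix.reindex (finSumFinEquiv : Fin 2 ⊕ Fin 2 ≃ Fin 4) finSumFinEquiv
          (fromBlocks (jor (-1 : F₃) 2) 0 0 (Matrix.reindex (finSumFinEquiv : Fin 1 ⊕ Fin 1 ≃ Fin 2)
            finSumFinEquiv (fromBlocks (jor (-1 : F₃) 1) 0 0 (jor (-1 : F₃) 1)))) =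
          !![2, 0, 0, 0; 1, 2, 0, 0; 0, 0, 2, 0; 0, 0, 0, 2] by decide +kernel]
      exact small_3_m211
    · exact jneg_glue_one (by omega) ⟨j', rfl⟩
  · by_cases h33 : i' = 1 ∧ j' = 1
    · obtain ⟨rfl, rfl⟩ := h33
      show IsCommSL (fromBlocks (jor (-1 : F₃) 2) 0 0
        (fromBlocks (jor (-1 : F₃) 3) 0 0 (jor (-1 : F₃) 3)))
      refine IsCommSL.sim ?_ (((Sim.refl (jor (-1 : F₃) 2)).blocks
        (Sim.of_reindex (finSumFinEquiv : Fin 3 ⊕ Fin 3 ≃ Fin 6) _).symm).trans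
        (Sim.of_reindex (finSumFinEquiv : Fin 2 ⊕ Fin 6 ≃ Fin 8) _).symm)
      rw [show Matrix.reindex (finSumFinEquiv : Fin 2 ⊕ Fin 6 ≃ Fin 8) finSumFinEquiv
          (fromBlocks (jor (-1 : F₃) 2) 0 0 (Matrix.reindex (finSumFinEquiv : Fin 3 ⊕ Fin 3 ≃ Fin 6)
            finSumFinEquiv (fromBlocks (jor (-1 : F₃) 3) 0 0 (jor (-1 : F₃) 3)))) =
          !![2, 0, 0, 0, 0, 0, 0, 0; 1, 2, 0, 0, 0, 0, 0, 0; 0, 0, 2, 0, 0, 0, 0, 0;
            0, 0, 1, 2, 0, 0, 0, 0; 0, 0, 0, 1, 2, 0, 0, 0; 0, 0, 0, 0, 0, 2, 0, 0;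
            0, 0, 0, 0, 0, 1, 2, 0; 0, 0, 0, 0, 0, 0, 1, 2] by decide +kernel]
      exact small_3_m233
    · exact jneg_glue_two (by omega) (even_two_mul _) (by omega) (even_two_mul _)

end Cfsg.Agent.FGS77.Thompson
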