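import Cfsg.Agent.FGS77.Thompson.Common

/-! Every element of `SL_n(2)`, `n ≥ 3`, is a commutator. -/

set_option autoImplicit false

namespace Cfsg.Agent.FGS77.Thompson

open Matrix

local notation "F₂" => ZMod 2

/-- The block is similar to a transvection of the plane. -/
def Blk.IsJTwo (b : Blk F₂) : Prop := b.n = 2 ∧ (b.M - (1 : F₂) • 1) ^ b.n = 0

noncomputable instance : DecidablePred Blk.IsJTwo := Classical.decPred _

theorem det_eq_one_two {L : List (Blk F₂)} (h : (bd L).det = 1) {b : Blk F₂} (hb : b ∈ L) :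
    b.M.det = 1 := by
  have h0 := Blk.det_ne_zero h hb
  revert h0
  generalize b.M.det = z
  revert z
  decide

theorem good_two (b : Blk F₂) (hd : b.M.det = 1) (hJ : ¬ b.IsJTwo) : IsCommSL b.M := by
  obtain ⟨n, M, hs, hp⟩ := b
  match n, M, hs, hp, hd, hJ with
  | 0, M, _, _, _, _ =>
    show IsCommSL M
    rw [Subsingleton.elim M 1]; exact isCommSL_one
  | 1, M, _, _, hd, _ =>
    show IsCommSL M
    rw [eq_one_of_det le_rfl M hd]; exact isCommSL_one
  | 2, M, hs, hp, hd, hJ =>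
    show IsCommSL M
    rcases hp 1 with h | h
    · have hu := (Matrix.isUnit_iff_isUnit_det _).1 h
      rw [hs.eq_two, hd] at hu ⊢
      have hx : M 1 1 = 1 := by
        revert hu
        generalize M 1 1 = x
        intro hu
        rw [isUnit_iff_ne_zero, Matrix.det_fin_two] at hu
        simp at hu
        revert hu
        revert x
        decide
      rw [hx]
      exact small_2_c2
    · exact absurd ⟨rfl, h⟩ hJ
  | m + 3, M, hs, _, hd, _ =>
    exact (wit_two (m := m + 2) (by omega) hs hd).1.isCommSL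

theorem jpair_two (a b : Blk F₂) (ha : a.IsJTwo) (hb : b.IsJTwo) : IsCommSL (bd [a, b]) := by
  have h1 : Sim (fromBlocks a.M 0 0 b.M) (fromBlocks (jor (1 : F₂) 2) 0 0 (jor (1 : F₂) 2)) := by
    obtain ⟨ha2, ha'⟩ := ha
    obtain ⟨hb2, hb'⟩ := hb
    have e1 := a.sim_jor' 1 ha2 ha'
    have e2 := b.sim_jor' 1 hb2 hb'
    exact e1.blocks e2
  refine IsCommSL.sim ?_ ((sim_pair a b).trans (h1.trans
    (Sim.of_reindex (finSumFinEquiv : Fin 2 ⊕ Fin 2 ≃ Fin 4) _).symm))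
  rw [show Matrix.reindex (finSumFinEquiv : Fin 2 ⊕ Fin 2 ≃ Fin 4) finSumFinEquiv
    (fromBlocks (jor (1 : F₂) 2) 0 0 (jor (1 : F₂) 2)) =
      !![1, 0, 0, 0; 1, 1, 0, 0; 0, 0, 1, 0; 0, 0, 1, 1] by decide +kernel]
  exact small_2_22

theorem jtriple_two (a b c : Blk F₂) (ha : a.IsJTwo) (hb : b.IsJTwo) (hc : c.IsJTwo) :
    IsCommSL (bd [a, b, c]) := by
  obtain ⟨ha2, ha'⟩ := ha
  obtain ⟨hb2, hb'⟩ := hb
  obtain ⟨hc2, hc'⟩ := hc
  have e1 := a.sim_jor' 1 ha2 ha'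
  have e2 := b.sim_jor' 1 hb2 hb'
  have e3 := c.sim_jor' 1 hc2 hc'
  refine IsCommSL.sim ?_ ((sim_cons a [b, c]).trans ((e1.blocks ((sim_pair b c).trans
    (e2.blocks e3))).trans (((Sim.refl (jor (1 : F₂) 2)).blocks
      (Sim.of_reindex (finSumFinEquiv : Fin 2 ⊕ Fin 2 ≃ Fin 4) _).symm).trans
      (Sim.of_reindex (finSumFinEquiv : Fin 2 ⊕ Fin 4 ≃ Fin 6) _).symm)))
  rw [show Matrix.reindex (finSumFinEquiv : Fin 2 ⊕ Fin 4 ≃ Fin 6) finSumFinEquiv
      (fromBlocks (jor (1 : F₂) 2) 0 0 (Matrix.reindex (finSumFinEquiv : Fin 2 ⊕ Fin 2 ≃ Fin 4)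
        finSumFinEquiv (fromBlocks (jor (1 : F₂) 2) 0 0 (jor (1 : F₂) 2)))) =
      !![1, 0, 0, 0, 0, 0; 1, 1, 0, 0, 0, 0; 0, 0, 1, 0, 0, 0; 0, 0, 1, 1, 0, 0;
        0, 0, 0, 0, 1, 0; 0, 0, 0, 0, 1, 1] by decide +kernel]
  exact small_2_222

theorem jlist_two : ∀ L : List (Blk F₂), (∀ b ∈ L, b.IsJTwo) → L.length ≠ 1 → IsCommSL (bd L)
  | [], _, _ => isCommSL_nil
  | [a], _, h => absurd rfl h
  | [a, b], h, _ => jpair_two a b (h a (by simp)) (h b (by simp))
  | [a, b, c], h, _ => jtriple_two a b c (h a (by simp)) (h b (by simp)) (h c (by simp))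
  | a :: b :: c :: d :: L, h, _ =>
    IsCommSL.append (L := [a, b]) (jpair_two a b (h a (by simp)) (h b (by simp)))
      (jlist_two (c :: d :: L) (fun x hx => h x (by simp [List.mem_cons] at hx ⊢; tauto)) (by simp))

theorem gp_one {ι : Type*} [Fintype ι] [DecidableEq ι] (E : GL ι F₂) : GP E (1 : Matrix ι ι F₂) :=
  gp_trivial E

/-- `J₂ ⊕ J_(m+4)`, glued. -/
theorem jglue_two (m : ℕ) :
    IsCommSL (fromBlocks (jor (1 : F₂) 2) 0 0 (jor (1 : F₂) (m + 5))) := by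
  obtain ⟨w, hw⟩ := jor_succ (1 : F₂) (m + 4)
  obtain ⟨H, hH, hJH⟩ := (hess_jor (1 : F₂) (m + 4)).exists_shifted
  have hdH : H.det = 1 := by rw [← hJH.det_eq, det_jor, one_pow]
  have hJw : Wit 1 (Polynomial.X ^ 2 + Polynomial.X + 1) (jor (1 : F₂) (m + 4)) :=
    ((wit_two (m := m + 3) (by omega) hH hdH).2 (by omega)).sim hJH
  have hone : Pre 1 (Polynomial.X ^ 2 + Polynomial.X + 1) (1 : Matrix (Fin 1) (Fin 1) F₂) := by
    refine ⟨1, gp_trivial _, by simp, ?_⟩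
    rw [map_add, map_add, map_pow, Polynomial.aeval_X, map_one, Units.val_one, one_pow,
      show (1 + 1 + 1 : Matrix (Fin 1) (Fin 1) F₂) = 1 by decide +kernel]
    exact isUnit_one
  have hX : Wit 1 (Polynomial.X ^ 2 + Polynomial.X + 1)
      (fromBlocks (1 : Matrix (Fin 1) (Fin 1) F₂) 0 0 (jor (1 : F₂) (m + 4))) := by
    have := Wit.blocks hone hJw
    rwa [mul_one] at this
  let E : GL (Fin 2) F₂ := ⟨!![0, 1; 1, 1], !![1, 1; 1, 0], by decide +kernel, by decide +kernel⟩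
  let e : Fin 2 ≃ Fin 1 ⊕ Fin 1 := (finSumFinEquiv : Fin 1 ⊕ Fin 1 ≃ Fin 2).symm
  let E' := Units.map (Matrix.reindexAlgEquiv F₂ F₂ e).toMonoidHom E
  have hE : (E'.val : Matrix _ _ F₂).det = 1 := by
    show (Matrix.reindexAlgEquiv F₂ F₂ e E.val).det = 1
    rw [Matrix.det_reindexAlgEquiv, Matrix.det_fin_two]
    rfl
  have hEp : Polynomial.aeval E'.val (Polynomial.X ^ 2 + Polynomial.X + 1 : Polynomial F₂) = 0 := by
    show Polynomial.aeval (Matrix.reindexAlgEquiv F₂ F₂ e E.val) _ = 0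
    rw [aeval_reindex, show Polynomial.aeval E.val
        (Polynomial.X ^ 2 + Polynomial.X + 1 : Polynomial F₂) = E.val ^ 2 + E.val + 1 by simp,
      show (E.val ^ 2 + E.val + 1 : Matrix (Fin 2) (Fin 2) F₂) = 0 by decide +kernel, map_zero]
  let σ : (Fin 1 ⊕ Fin (m + 4)) ⊕ (Fin 1 ⊕ Fin 1) ≃ Fin 2 ⊕ Fin (m + 4 + 1) :=
    (Equiv.sumSumSumComm _ _ _ _).trans (finSumFinEquiv.sumCongr finSumFinEquiv)
  let W : Matrix (Fin 1 ⊕ Fin 1) (Fin 1 ⊕ Fin (m + 4)) F₂ := fromBlocks 1 0 0 w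
  refine (Wit.glue hX hE hEp (gp_one E') W).sim ⟨σ, 1, ?_⟩
  simp only [Units.val_one, inv_one, Matrix.one_mul, Matrix.mul_one]
  rw [hw, show jor (1 : F₂) 2 = Matrix.reindex (finSumFinEquiv : Fin 1 ⊕ Fin 1 ≃ Fin 2)
    (finSumFinEquiv : Fin 1 ⊕ Fin 1 ≃ Fin 2)
    (fromBlocks (1 : Matrix (Fin 1) (Fin 1) F₂) 0 1 1) by decide +kernel]
  ext i j
  obtain ⟨i, rfl⟩ := σ.surjective i
  obtain ⟨j, rfl⟩ := σ.surjective j
  rw [Matrix.reindex_apply σ σ, Matrix.submatrix_apply, Equiv.symm_apply_apply, Equiv.symm_apply_apply]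
  rcases i with ((i | i) | (i | i)) <;> rcases j with ((j | j) | (j | j)) <;>
    simp [σ, W, Matrix.one_apply]

theorem jone_two (a b : Blk F₂) (ha : a.IsJTwo) (hd : b.M.det = 1) (hb : ¬ b.IsJTwo)
    (hn : 0 < b.n) : IsCommSL (bd [a, b]) := by
  obtain ⟨ha2, ha'⟩ := ha
  have e1 := a.sim_jor' 1 ha2 ha'
  have hda : a.M.det = 1 := by rw [e1.det_eq, det_jor, one_pow]
  refine IsCommSL.sim ?_ (sim_pair a b)
  rcases b.prim 1 with h | h
  · obtain ⟨H, hH, hs⟩ := exists_merge (by omega) hn a.shifted b.shifted 1 a.n ha' h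
    obtain ⟨k, hk⟩ : ∃ k, a.n + b.n = k + 1 := ⟨a.n + b.n - 1, by omega⟩
    have hdH : H.det = 1 := by rw [← hs.det_eq, det_fromBlocks_zero₁₂, hda, hd, one_mul]
    revert H
    rw [hk]
    intro H hH hs hdH
    exact ((wit_two (m := k) (by omega) hH hdH).1.sim hs).isCommSL
  · have e2 := b.sim_jor 1 h
    refine IsCommSL.sim ?_ (e1.blocks e2)
    have hb2 : b.n ≠ 2 := fun e => hb ⟨e, h⟩
    generalize b.n = n at hn hb2
    match n, hn, hb2 with
    | 1, _, _ =>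
      refine IsCommSL.sim ?_ (Sim.of_reindex (finSumFinEquiv : Fin 2 ⊕ Fin 1 ≃ Fin 3) _).symm
      rw [show Matrix.reindex (finSumFinEquiv : Fin 2 ⊕ Fin 1 ≃ Fin 3) finSumFinEquiv
        (fromBlocks (jor (1 : F₂) 2) 0 0 (jor (1 : F₂) 1)) =
          !![1, 0, 0; 1, 1, 0; 0, 0, 1] by decide +kernel]
      exact small_2_T
    | 2, _, h => exact absurd rfl h
    | 3, _, _ =>
      refine IsCommSL.sim ?_ (Sim.of_reindex (finSumFinEquiv : Fin 2 ⊕ Fin 3 ≃ Fin 5) _).symm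
      rw [show Matrix.reindex (finSumFinEquiv : Fin 2 ⊕ Fin 3 ≃ Fin 5) finSumFinEquiv
        (fromBlocks (jor (1 : F₂) 2) 0 0 (jor (1 : F₂) 3)) =
          !![1, 0, 0, 0, 0; 1, 1, 0, 0, 0; 0, 0, 1, 0, 0; 0, 0, 1, 1, 0; 0, 0, 0, 1, 1] by
            decide +kernel]
      exact small_2_23
    | 4, _, _ =>
      refine IsCommSL.sim ?_ (Sim.of_reindex (finSumFinEquiv : Fin 2 ⊕ Fin 4 ≃ Fin 6) _).symm
      rw [show Matrix.reindex (finSumFinEquiv : Fin 2 ⊕ Fin 4 ≃ Fin 6) finSumFinEquiv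
        (fromBlocks (jor (1 : F₂) 2) 0 0 (jor (1 : F₂) 4)) =
          !![1, 0, 0, 0, 0, 0; 1, 1, 0, 0, 0, 0; 0, 0, 1, 0, 0, 0; 0, 0, 1, 1, 0, 0;
            0, 0, 0, 1, 1, 0; 0, 0, 0, 0, 1, 1] by decide +kernel]
      exact small_2_24
    | m + 5, _, _ => exact jglue_two m

theorem isCommSL_two {n : ℕ} (hn : 3 ≤ n) (G : Matrix (Fin n) (Fin n) F₂) (hdet : G.det = 1) :
    IsCommSL G := by
  obtain ⟨L, hL⟩ := exists_blocks G
  refine IsCommSL.sim ?_ hL
  have hd : (bd L).det = 1 := by rw [← hL.det_eq, hdet]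
  have hsize : size L = n := by simpa using hL.size_eq.symm
  have hperm : L.Perm (L.filter (fun b => decide b.IsJTwo) ++ L.filter fun b => !decide b.IsJTwo) :=
    (List.filter_append_perm (fun b => decide b.IsJTwo) L).symm
  refine IsCommSL.perm ?_ hperm
  have good : ∀ x ∈ L.filter (fun b => !decide b.IsJTwo), IsCommSL x.M := fun x hx => by
    simp only [List.mem_filter, Bool.not_eq_true', decide_eq_false_iff_not] at hx
    exact good_two x (det_eq_one_two hd hx.1) hx.2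
  have hJ : ∀ x ∈ L.filter (fun b => decide b.IsJTwo), x.IsJTwo := fun x hx => by simpa using (List.mem_filter.1 hx).2
  by_cases h1 : (L.filter fun b => decide b.IsJTwo).length = 1
  · obtain ⟨a, ha⟩ := List.length_eq_one_iff.1 h1
    rw [ha] at hperm ⊢
    have haJ : a.IsJTwo := hJ a (by rw [ha]; simp)
    obtain ⟨b, hb, hbn⟩ : ∃ b ∈ L.filter (fun x : Blk F₂ => !decide x.IsJTwo), 0 < b.n := by
      by_contra hc
      push Not at hc
      have hz : ∀ K : List (Blk F₂), (∀ x ∈ K, x.n = 0) → size K = 0 := by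
        intro K
        induction K with
        | nil => exact fun _ => rfl
        | cons x K ih =>
          intro h
          show x.n + size K = 0
          rw [h x List.mem_cons_self, ih fun y hy => h y (List.mem_cons_of_mem _ hy)]
      have h2 := (sim_perm hperm).size_eq
      simp only [Fintype.card_fin] at h2
      rw [hsize, show size ([a] ++ L.filter fun b => !decide b.IsJTwo) =
        a.n + size (L.filter fun b => !decide b.IsJTwo) from rfl,
        hz _ (fun x hx => Nat.le_zero.1 (hc x hx)), haJ.1] at h2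
      omega
    obtain ⟨K, hK⟩ : ∃ K, (L.filter fun x : Blk F₂ => !decide x.IsJTwo).Perm (b :: K) := by
      obtain ⟨s, t, e⟩ := List.append_of_mem hb
      exact ⟨s ++ t, e ▸ List.perm_middle⟩
    refine IsCommSL.perm ?_ (List.Perm.append_left [a] hK)
    have hb' := hb
    simp only [List.mem_filter, Bool.not_eq_true', decide_eq_false_iff_not] at hb'
    refine IsCommSL.append (L := [a, b]) (jone_two a b haJ (det_eq_one_two hd hb'.1) hb'.2 hbn)
      (isCommSL_of_good K fun x hx => good x (hK.mem_iff.2 (List.mem_cons_of_mem _ hx)))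
  · exact IsCommSL.append (jlist_two _ hJ h1) (isCommSL_of_good _ good)

end Cfsg.Agent.FGS77.Thompson
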